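import Cfsg.Agent.H22.HallPet
import Cfsg.Agent.H23.Breadth2
import Cfsg.Agent.H23.MaxClass3

set_option autoImplicit false

namespace Cfsg.Agent.H10.Mc

open Cfsg Subgroup Cfsg.Agent.H22.HP
open scoped commutatorElement

variable {G : Type*} [Group G]

theorem pr_mem {N : Subgroup G} {g : ℕ → G} {n : ℕ} (h : ∀ i, g i ^ n.choose i ∈ N) : ∀ j, pr g n j ∈ N := by
  intro j
  induction j with
  | zero => exact N.one_mem
  | succ j ih => exact N.mul_mem ih (h j)

abbrev L (G : Type*) [Group G] (n : ℕ) : Subgroup G := (⊤ : Subgroup G).lowerCentralSeries n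

theorem L_anti {i j : ℕ} (h : i ≤ j) : L G j ≤ L G i := (⊤ : Subgroup G).lowerCentralSeries_antitone h

theorem L_comm {i j m : ℕ} (h : m ≤ i + j + 1) {a b : G} (ha : a ∈ L G i) (hb : b ∈ L G j) : ⁅a, b⁆ ∈ L G m :=
  L_anti h (Cfsg.Agent.H22.HP.lcs_comm (⊤ : Subgroup G) j i (commutator_mem_commutator ha hb))

theorem hp_pow {p : ℕ} [hp : Fact p.Prime] {N : Subgroup G} {x y : G} {s : ℕ} (hs : L G s = ⊥)
    (h1 : ∀ r, 1 ≤ r → r < p - 1 → ∀ z ∈ (closure ({x, y} : Set G)).lowerCentralSeries r, z ^ p ∈ N)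
    (h2 : (closure ({x, y} : Set G)).lowerCentralSeries (p - 1) ≤ N) :
    ∃ w ∈ N, (x * y) ^ p = x ^ p * y ^ p * w := by
  have hp2 := hp.out.two_le
  have hle : ∀ k, (closure ({x, y} : Set G)).lowerCentralSeries k ≤ L G k := by
    intro k
    induction k with
    | zero => exact le_top
    | succ k ih => exact commutator_mono ih le_top
  have hbot : (closure ({x, y} : Set G)).lowerCentralSeries (s + 1) = ⊥ := by
    rw [eq_bot_iff, ← hs]
    exact (hle (s + 1)).trans (L_anti (Nat.le_succ s))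
  obtain ⟨g, hg1, hg2, hg3⟩ := hall_petrescu (H := closure ({x, y} : Set G)) (a := x) (b := y)
    (subset_closure (by simp)) (subset_closure (by simp)) (s + 1) (by omega) hbot
  refine ⟨pr g p (s + 1 + 1), pr_mem (fun i => ?_) _, hg3 p⟩
  rcases Nat.lt_or_ge i 2 with hi | hi
  · rw [hg2 i hi, one_pow]; exact N.one_mem
  obtain ⟨i, rfl⟩ : ∃ i', i = i' + 1 := ⟨i - 1, by omega⟩
  rcases Nat.lt_or_ge (i + 1) p with hip | hip
  · obtain ⟨m, hm⟩ := hp.out.dvd_choose_self (by omega : i + 1 ≠ 0) hip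
    rw [hm, pow_mul]
    exact N.pow_mem (h1 i (by omega) (by omega) _ (hg1 i)) _
  · refine N.pow_mem (h2 ?_) _
    exact (closure ({x, y} : Set G)).lowerCentralSeries_antitone (by omega : p - 1 ≤ i) (hg1 i)

theorem cl_le {i : ℕ} {x y : G} (hx : x ∈ L G i) (r : ℕ) :
    (closure ({x, y} : Set G)).lowerCentralSeries (r + 1) ≤ L G (i + r + 1) := by
  induction r with
  | zero =>
    have hxc : ∀ g : G, (QuotientGroup.mk' (L G (i + 1))) x * (QuotientGroup.mk' (L G (i + 1))) g =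
        (QuotientGroup.mk' (L G (i + 1))) g * (QuotientGroup.mk' (L G (i + 1))) x := by
      intro g
      rw [← commutatorElement_eq_one_iff_mul_comm, ← map_commutatorElement]
      exact (QuotientGroup.eq_one_iff _).2 (L_comm (j := 0) (by omega) hx (mem_top g))
    set f := QuotientGroup.mk' (L G (i + 1)) with hf
    have h1 : closure ({f x, f y} : Set (G ⧸ L G (i + 1))) ≤ centralizer ({f x, f y} : Set _) := by
      rw [closure_le]
      rintro z hz
      rw [SetLike.mem_coe, mem_centralizer_iff]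
      rintro w hw
      rcases hz with rfl | hz <;> rcases hw with rfl | hw
      · rfl
      · rw [Set.mem_singleton_iff.1 hw]; exact (hxc y).symm
      · rw [Set.mem_singleton_iff.1 hz]; exact hxc y
      · rw [Set.mem_singleton_iff.1 hz, Set.mem_singleton_iff.1 hw]
    have h2 : closure ({f x, f y} : Set (G ⧸ L G (i + 1))) ≤
        centralizer (closure ({f x, f y} : Set (G ⧸ L G (i + 1))) : Set _) := by
      rw [closure_le]
      intro z hz
      rw [SetLike.mem_coe, mem_centralizer_iff]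
      intro w hw
      exact ((mem_centralizer_iff.1 (h1 hw)) z hz).symm
    have h3 : ∀ a ∈ closure ({x, y} : Set G), f a ∈ closure ({f x, f y} : Set (G ⧸ L G (i + 1))) := by
      intro a ha
      have := mem_map_of_mem f ha
      rwa [MonoidHom.map_closure, Set.image_pair] at this
    change ⁅closure ({x, y} : Set G), closure ({x, y} : Set G)⁆ ≤ _
    rw [commutator_le]
    intro a ha b hb
    rw [Nat.add_zero, ← QuotientGroup.eq_one_iff]
    change f ⁅a, b⁆ = 1
    rw [map_commutatorElement, commutatorElement_eq_one_iff_mul_comm]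
    exact (mem_centralizer_iff.1 (h2 (h3 b hb))) _ (h3 a ha)
  | succ r ih =>
    exact commutator_mono ih le_top

/-- the power lemma -/
theorem power_step {p : ℕ} [hp : Fact p.Prime] {s : ℕ} (hs : L G s = ⊥) {i M : ℕ} (hiM : i + 1 + p - 1 ≥ M)
    (hcl : ∀ x ∈ L G (i + 2), x ^ p ∈ L G M)
    (h1 : ∀ t : G, ∀ c ∈ L G i, ⁅c, t ^ p⁆ ∈ L G M) :
    ∀ x ∈ L G (i + 1), x ^ p ∈ L G M := by
  have hp2 := hp.out.two_le
  have key : ∀ x ∈ L G (i + 1), ∀ y : G, ∃ w ∈ L G M, (x * y) ^ p = x ^ p * y ^ p * w := by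
    intro x hx y
    apply hp_pow hs
    · intro r hr1 hr2 z hz
      obtain ⟨r, rfl⟩ : ∃ r', r = r' + 1 := ⟨r - 1, by omega⟩
      exact hcl z (L_anti (by omega) (cl_le hx r hz))
    · obtain ⟨q, hq⟩ : ∃ q, p - 1 = q + 1 := ⟨p - 2, by omega⟩
      rw [hq]
      exact (cl_le hx q).trans (L_anti (by omega))
  intro x hx
  have hx' : x ∈ closure {g | ∃ c ∈ L G i, ∃ t ∈ (⊤ : Subgroup G), ⁅c, t⁆ = g} := by
    have : x ∈ ⁅L G i, (⊤ : Subgroup G)⁆ := hx
    rwa [Subgroup.commutator_def] at this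
  have hgen : ∀ c ∈ L G i, ∀ t : G, ⁅c, t⁆ ^ p ∈ L G M := by
    intro c hc t
    have ha : ⁅c, t⁆ ∈ L G (i + 1) := L_comm (j := 0) (by omega) hc (mem_top t)
    obtain ⟨w, hw, h2⟩ := key _ ha t
    have h3 : ⁅c, t⁆ * t = c * t * c⁻¹ := by rw [commutatorElement_def]; group
    rw [h3, conj_pow] at h2
    have h4 : ⁅c, t⁆ ^ p = c * t ^ p * c⁻¹ * w⁻¹ * (t ^ p)⁻¹ := by rw [h2]; group
    have h5 : ⁅c, t⁆ ^ p = ⁅c, t ^ p⁆ * (t ^ p * w⁻¹ * (t ^ p)⁻¹) := by
      rw [h4, commutatorElement_def]; group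
    rw [h5]
    exact mul_mem (h1 t c hc) ((inferInstance : (L G M).Normal).conj_mem _ (inv_mem hw) _)
  have hmem : ∀ y ∈ closure {g | ∃ c ∈ L G i, ∃ t ∈ (⊤ : Subgroup G), ⁅c, t⁆ = g}, y ∈ L G (i + 1) := by
    intro y hy
    change y ∈ ⁅L G i, (⊤ : Subgroup G)⁆
    rwa [Subgroup.commutator_def]
  refine closure_induction (p := fun y _ => y ^ p ∈ L G M) ?_ ?_ ?_ ?_ hx'
  · rintro _ ⟨c, hc, t, _, rfl⟩
    exact hgen c hc t
  · rw [one_pow]; exact one_mem _
  · intro y z hy hz h2 h3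
    obtain ⟨w, hw, h4⟩ := key y (hmem y hy) z
    rw [h4]; exact mul_mem (mul_mem h2 h3) hw
  · intro y hy h2
    rw [inv_pow]; exact inv_mem h2

/-- all p-th powers -/
theorem power_down {p : ℕ} [hp : Fact p.Prime] {s : ℕ} (hs : L G s = ⊥) {i0 M : ℕ} (hi0 : i0 + 1 + p - 1 ≥ M)
    (h1 : ∀ t : G, ∀ c ∈ L G i0, ⁅c, t ^ p⁆ ∈ L G M) :
    ∀ x ∈ L G (i0 + 1), x ^ p ∈ L G M := by
  have hmain : ∀ d i, i0 ≤ i → i + d ≥ M → ∀ x ∈ L G (i + 1), x ^ p ∈ L G M := by
    intro d
    induction d with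
    | zero => intro i _ hi x hx; exact pow_mem (L_anti (by omega) hx) _
    | succ d ih =>
      intro i hi0' hi
      apply power_step hs (by omega) (ih (i + 1) (by omega) (by omega))
      intro t c hc
      exact h1 t c (L_anti hi0' hc)
  exact hmain M i0 le_rfl (by omega)

end Cfsg.Agent.H10.Mc
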