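import Cfsg.Agent.H10.Mc1

set_option autoImplicit false

namespace Cfsg.Agent.H10.Mc

open Cfsg Subgroup
open scoped commutatorElement

variable {S : Type*} [Group S] [Finite S] {p : ℕ} [hp : Fact p.Prime]

theorem sec {k : ℕ} (h : SectionalPRankLE p k S) (H M : Subgroup S) [M.Normal]
    (h1 : ∀ x ∈ H, ∀ y ∈ H, ⁅x, y⁆ ∈ M) (h2 : ∀ x ∈ H, x ^ p ∈ M) : M.relIndex H ≤ p ^ k := by
  have h3 := h H (M.subgroupOf H) ⊤ ⟨⟨fun a b => by
    obtain ⟨a, _⟩ := a
    obtain ⟨b, _⟩ := b
    obtain ⟨x, rfl⟩ := QuotientGroup.mk_surjective a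
    obtain ⟨y, rfl⟩ := QuotientGroup.mk_surjective b
    apply Subtype.ext
    change (QuotientGroup.mk' (M.subgroupOf H)) x * (QuotientGroup.mk' (M.subgroupOf H)) y =
      (QuotientGroup.mk' (M.subgroupOf H)) y * (QuotientGroup.mk' (M.subgroupOf H)) x
    rw [← commutatorElement_eq_one_iff_mul_comm, ← map_commutatorElement]
    exact (QuotientGroup.eq_one_iff _).2 (mem_subgroupOf.2 (h1 x x.2 y y.2))⟩⟩ (fun a _ => by
    obtain ⟨x, rfl⟩ := QuotientGroup.mk_surjective a
    rw [← QuotientGroup.mk_pow]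
    exact (QuotientGroup.eq_one_iff _).2 (mem_subgroupOf.2 (h2 x x.2)))
  rw [Subgroup.card_top] at h3
  exact h3

theorem lne {m : ℕ} (hm : L S m ≠ ⊥) {i : ℕ} (hi : i ≤ m) : L S i ≠ ⊥ := fun h => hm (by
  rw [eq_bot_iff, ← h]; exact L_anti hi)

theorem ord {m : ℕ} (hcard : Nat.card S = p ^ (m + 2)) (hm1 : 1 ≤ m) (hm : L S m ≠ ⊥) (hb : L S (m + 1) = ⊥) :
    ∀ i, 1 ≤ i → i ≤ m + 1 → Nat.card (L S i) = p ^ (m + 1 - i) := by
  have hG : IsPGroup p S := IsPGroup.of_card hcard
  have hpos : 0 < p := hp.out.pos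
  have hna : ¬ IsMulCommutative S := by
    intro h
    apply lne hm hm1
    rw [eq_bot_iff]
    change ⁅(⊤ : Subgroup S), (⊤ : Subgroup S)⁆ ≤ ⊥
    rw [commutator_le]
    intro a _ b _
    rw [mem_bot, commutatorElement_eq_one_iff_mul_comm]
    exact h.is_comm.comm a b
  have hi1 := Cfsg.Agent.H23.index_commutator_of_lcs hcard hna hm
  have hc1 : Nat.card (L S 1) = p ^ m := by
    have h1 := card_mul_index (commutator S)
    rw [hi1, hcard, pow_add] at h1
    exact Nat.eq_of_mul_eq_mul_right (by positivity) h1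
  intro i hi
  induction i, hi using Nat.le_induction with
  | base => intro _; rw [hc1]; congr 1
  | succ i hi ih =>
    intro him
    have h1 := ih (by omega)
    have h2 := Cfsg.Agent.H23.lcs_lt hG.isNilpotent i (lne hm (by omega : i ≤ m))
    have h3 := Cfsg.Agent.H23.mul_card_le_of_lt (hG.to_subgroup _) h2
    change p * Nat.card (L S (i + 1)) ≤ Nat.card (L S i) at h3
    rw [h1, show m + 1 - i = (m + 1 - (i + 1)) + 1 by omega, pow_succ'] at h3
    have h4 := Nat.le_of_mul_le_mul_left h3 hpos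
    apply le_antisymm h4
    rcases Nat.lt_or_ge i m with hlt | hge
    · have h5 := Cfsg.Agent.H23.card_lcs_ge hG m hm (m - (i + 1)) (by omega)
      rw [show m - (m - (i + 1)) = i + 1 by omega, show m - (i + 1) + 1 = m + 1 - (i + 1) by omega] at h5
      exact h5
    · have : m + 1 - (i + 1) = 0 := by omega
      rw [this, pow_zero]; exact Nat.card_pos

theorem gen {m : ℕ} (hcard : Nat.card S = p ^ (m + 2)) (hm1 : 1 ≤ m) (hm : L S m ≠ ⊥) (hb : L S (m + 1) = ⊥)
    {i : ℕ} (hi : 1 ≤ i) (him : i ≤ m) {x : S} (hx : x ∈ L S i) (hx1 : x ∉ L S (i + 1)) :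
    ∀ y ∈ L S i, ∃ j : ℤ, ∃ z ∈ L S (i + 1), y = x ^ j * z := by
  have hG : IsPGroup p S := IsPGroup.of_card hcard
  have h1 := ord hcard hm1 hm hb i hi (by omega)
  have h2 := ord hcard hm1 hm hb (i + 1) (by omega) (by omega)
  have hle : zpowers x ⊔ L S (i + 1) ≤ L S i := sup_le (by rwa [zpowers_le]) (L_anti (Nat.le_succ i))
  have hlt : L S (i + 1) < zpowers x ⊔ L S (i + 1) := lt_of_le_of_ne le_sup_right (fun h => hx1 (by
    rw [h]; exact mem_sup_left (mem_zpowers x)))
  have h3 := Cfsg.Agent.H23.mul_card_le_of_lt (hG.to_subgroup _) hlt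
  have h4 : zpowers x ⊔ L S (i + 1) = L S i := by
    apply Subgroup.eq_of_le_of_card_ge hle
    rw [h1]
    rw [h2, ← pow_succ', show m + 1 - (i + 1) + 1 = m + 1 - i by omega] at h3
    exact h3
  intro y hy
  rw [← h4, ← SetLike.mem_coe, Subgroup.mul_normal] at hy
  obtain ⟨a, ha, z, hz, rfl⟩ := hy
  obtain ⟨j, rfl⟩ := mem_zpowers_iff.1 ha
  exact ⟨j, z, hz, rfl⟩

theorem expA {m : ℕ} (hcard : Nat.card S = p ^ (m + 2)) (hm1 : 1 ≤ m) (hm : L S m ≠ ⊥) (hb : L S (m + 1) = ⊥)
    (hbase : ∀ s : S, s ^ p ∈ L S 1) :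
    ∀ c, 1 ≤ c → c + 1 ≤ p → c ≤ m → ∀ s : S, s ^ p ∈ L S c := by
  have hG : IsPGroup p S := IsPGroup.of_card hcard
  intro c hc
  induction c, hc using Nat.le_induction with
  | base => intro _ _; exact hbase
  | succ c hc ih =>
    intro hcp hcm
    have hE := ih (by omega) (by omega)
    have h1 : ∀ x ∈ L S 1, x ^ p ∈ L S (c + 1) := by
      have := power_down (G := S) (p := p) hb (i0 := 0) (M := c + 1) (by omega) (fun t c' hc' =>
        L_comm (i := 0) (j := c) (by omega) hc' (hE t))
      exact this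
    have hle : ∀ (x y : S) k, (closure ({x, y} : Set S)).lowerCentralSeries k ≤ L S k := by
      intro x y k
      induction k with
      | zero => exact le_top
      | succ k ih => exact commutator_mono ih le_top
    have hhom : ∀ x y : S, ∃ w ∈ L S (c + 1), (x * y) ^ p = x ^ p * y ^ p * w := by
      intro x y
      apply hp_pow hb
      · intro r hr1 hr2 z hz
        exact h1 z (L_anti hr1 (hle x y r hz))
      · exact (hle x y _).trans (L_anti (by omega))
    let K : Subgroup S :=
      { carrier := {x | x ^ p ∈ L S (c + 1)}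
        mul_mem' := fun {a b} ha hb' => by
          obtain ⟨w, hw, h⟩ := hhom a b
          change (a * b) ^ p ∈ L S (c + 1)
          rw [h]; exact mul_mem (mul_mem ha hb') hw
        one_mem' := by change (1 : S) ^ p ∈ L S (c + 1); rw [one_pow]; exact one_mem _
        inv_mem' := fun {a} ha => by
          change a⁻¹ ^ p ∈ L S (c + 1)
          rw [inv_pow]; exact inv_mem ha }
    let f := QuotientGroup.mk' (L S (c + 2))
    let C : Subgroup S := (centralizer (((L S c).map f : Subgroup _) : Set _)).comap f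
    have hC : ∀ s, s ∈ C ↔ ∀ y ∈ L S c, f y * f s = f s * f y := by
      intro s
      constructor
      · intro h y hy
        exact (mem_centralizer_iff.1 (mem_comap.1 h)) _ (mem_map_of_mem f hy)
      · intro h
        refine mem_comap.2 (mem_centralizer_iff.2 ?_)
        rintro _ ⟨y, hy, rfl⟩
        exact h y hy
    have hun : ∀ s, s ∈ K ∨ s ∈ C := by
      intro s
      by_cases hs : s ∈ K
      · exact Or.inl hs
      right
      rw [hC]
      intro y hy
      obtain ⟨j, z, hz, rfl⟩ := gen hcard hm1 hm hb hc (by omega) (hE s) hs y hy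
      have h2 : Commute (f z) (f s) := by
        change f z * f s = f s * f z
        rw [← commutatorElement_eq_one_iff_mul_comm, ← map_commutatorElement]
        exact (QuotientGroup.eq_one_iff _).2 (L_comm (i := c + 1) (j := 0) (by omega) hz (mem_top s))
      have h3 : Commute (f ((s ^ p) ^ j)) (f s) := by
        rw [map_zpow, map_pow]
        exact ((Commute.refl (f s)).pow_left p).zpow_left j
      rw [map_mul]
      exact h3.mul_left h2
    have hCne : C ≠ ⊤ := by
      intro h
      have h2 := Cfsg.Agent.H23.lcs_lt hG.isNilpotent (c + 1) (lne hm hcm)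
      apply not_le_of_gt h2
      change ⁅L S c, (⊤ : Subgroup S)⁆ ≤ L S (c + 2)
      rw [commutator_le]
      intro y hy s _
      rw [← QuotientGroup.eq_one_iff]
      change f ⁅y, s⁆ = 1
      rw [map_commutatorElement, commutatorElement_eq_one_iff_mul_comm]
      exact (hC s).1 (by rw [h]; exact mem_top s) y hy
    obtain ⟨b, hbC⟩ : ∃ b, b ∉ C := by
      by_contra h
      push Not at h
      exact hCne ((eq_top_iff' C).2 h)
    intro s
    by_contra hsK
    have hsK' : s ∉ K := hsK
    have hsC : s ∈ C := (hun s).resolve_left hsK'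
    have hbK : b ∈ K := (hun b).resolve_right hbC
    rcases hun (s * b) with h | h
    · exact hsK' ((K.mul_mem_cancel_right hbK).1 h)
    · exact hbC ((C.mul_mem_cancel_left hsC).1 h)

end Cfsg.Agent.H10.Mc
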