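import Cfsg.Agent.H10.Mc2

set_option autoImplicit false

namespace Cfsg.Agent.H10.Mc

open Cfsg Subgroup
open scoped commutatorElement

variable {S : Type*} [Group S] [Finite S] {p : ℕ} [hp : Fact p.Prime]

theorem base {m : ℕ} (hcard : Nat.card S = p ^ (m + 2)) (hm1 : 1 ≤ m) (hm : L S m ≠ ⊥) :
    ∀ s : S, s ^ p ∈ L S 1 := by
  have hG : IsPGroup p S := IsPGroup.of_card hcard
  have hna : ¬ IsMulCommutative S := by
    intro h
    apply lne hm hm1
    rw [eq_bot_iff]
    change ⁅(⊤ : Subgroup S), (⊤ : Subgroup S)⁆ ≤ ⊥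
    rw [commutator_le]
    intro a _ b _
    rw [mem_bot, commutatorElement_eq_one_iff_mul_comm]
    exact h.is_comm.comm a b
  have hi1 : Nat.card (S ⧸ commutator S) = p ^ 2 := Cfsg.Agent.H23.index_commutator_of_lcs hcard hna hm
  intro s
  by_contra hs
  have h1 : ¬ (QuotientGroup.mk' (commutator S) s) ^ p = 1 := by
    rw [← map_pow]
    intro h
    exact hs ((QuotientGroup.eq_one_iff _).1 h)
  have h2 : orderOf (QuotientGroup.mk' (commutator S) s) ∣ p ^ 2 := by
    rw [← hi1]; exact orderOf_dvd_natCard _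
  obtain ⟨j, hj, hj2⟩ := (Nat.dvd_prime_pow hp.out).1 h2
  have h3 : j = 2 := by
    by_contra hj3
    apply h1
    apply orderOf_dvd_iff_pow_eq_one.1
    rw [hj2]
    exact (pow_dvd_pow p (by omega : j ≤ 1)).trans (by rw [pow_one])
  have hcyc : IsCyclic (S ⧸ commutator S) :=
    isCyclic_of_orderOf_eq_card (QuotientGroup.mk' (commutator S) s) (by rw [hj2, h3, hi1])
  have hS : IsCyclic S := H2.isCyclic_of_quotient_of_le_frattini (QuotientGroup.mk' (commutator S))
    (QuotientGroup.mk'_surjective _) (by rw [QuotientGroup.ker_mk']; exact H2.commutator_le_frattini hG)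
  apply hna
  exact ⟨⟨fun a b => by
    letI := IsCyclic.commGroup (α := S)
    exact mul_comm a b⟩⟩

theorem bound {m k : ℕ} (hcard : Nat.card S = p ^ (m + 2)) (hm : L S m ≠ ⊥) (hb : L S (m + 1) = ⊥)
    (hk : 1 ≤ k) (hsr : SectionalPRankLE p k S) (hpk : k + 2 ≤ p) (hmk : 2 * k + 1 ≤ m + 2) : False := by
  have hm1 : 1 ≤ m := by omega
  have hG : IsPGroup p S := IsPGroup.of_card hcard
  have hE := expA hcard hm1 hm hb (base hcard hm1 hm)
  have hp1 := hp.out.one_lt
  rcases Nat.lt_or_ge k 2 with hk2 | hk2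
  · have hk1 : k = 1 := by omega
    subst hk1
    have h1 := sec hsr (⊤ : Subgroup S) (L S 1) (fun x _ y _ => L_comm (i := 0) (j := 0) (by omega) (mem_top x) (mem_top y))
      (fun x _ => hE 1 le_rfl (by omega) hm1 x)
    rw [Subgroup.relIndex_top_right] at h1
    have h2 := card_mul_index (L S 1)
    rw [ord hcard hm1 hm hb 1 le_rfl (by omega), hcard, show m + 1 - 1 = m by omega, pow_add] at h2
    have h3 := Nat.eq_of_mul_eq_mul_left (by positivity) h2
    rw [h3] at h1
    have := (Nat.pow_le_pow_iff_right hp1).1 h1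
    omega
  · have h1 : ∀ x ∈ L S (k - 1), x ^ p ∈ L S (2 * k) := by
      have := power_down (G := S) (p := p) hb (i0 := k - 2) (M := 2 * k) (by omega) (fun t c hc =>
        L_comm (i := k - 2) (j := k + 1) (by omega) hc (hE (k + 1) (by omega) (by omega) (by omega) t))
      rw [show k - 2 + 1 = k - 1 by omega] at this
      exact this
    let f := QuotientGroup.mk' (L S (2 * k))
    have hcm : ∀ {i j : ℕ}, 2 * k ≤ i + j + 1 → ∀ a ∈ L S i, ∀ b ∈ L S j, Commute (f a) (f b) := by
      intro i j hij a ha b hb'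
      change f a * f b = f b * f a
      rw [← commutatorElement_eq_one_iff_mul_comm, ← map_commutatorElement]
      exact (QuotientGroup.eq_one_iff _).2 (L_comm hij ha hb')
    have hlt := Cfsg.Agent.H23.lcs_lt hG.isNilpotent (k - 1) (lne hm (by omega : k - 1 ≤ m))
    obtain ⟨a, ha, ha1⟩ := SetLike.exists_of_lt hlt
    have h2 : ∀ x ∈ L S (k - 1), ∀ y ∈ L S (k - 1), ⁅x, y⁆ ∈ L S (2 * k) := by
      intro x hx y hy
      obtain ⟨i, z, hz, rfl⟩ := gen hcard hm1 hm hb (by omega) (by omega) ha ha1 x hx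
      obtain ⟨j, w, hw, rfl⟩ := gen hcard hm1 hm hb (by omega) (by omega) ha ha1 y hy
      rw [show k - 1 + 1 = k by omega] at hz hw
      rw [← QuotientGroup.eq_one_iff]
      change f ⁅_, _⁆ = 1
      rw [map_commutatorElement, commutatorElement_eq_one_iff_mul_comm, map_mul, map_mul, map_zpow, map_zpow]
      have c1 : Commute (f a) (f w) := hcm (by omega) a ha w hw
      have c2 : Commute (f z) (f a) := hcm (by omega) z hz a ha
      have c3 : Commute (f z) (f w) := hcm (by omega) z hz w hw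
      exact ((((Commute.refl (f a)).zpow_zpow i j).mul_right (c1.zpow_left i)).mul_left
        ((c2.zpow_right j).mul_right c3))
    have h3 := sec hsr (L S (k - 1)) (L S (2 * k)) h2 h1
    have h4 : (⊥ : Subgroup S).relIndex (L S (2 * k)) * (L S (2 * k)).relIndex (L S (k - 1)) =
        (⊥ : Subgroup S).relIndex (L S (k - 1)) :=
      Subgroup.relIndex_mul_relIndex _ _ _ bot_le (L_anti (by omega))
    rw [relIndex_bot_left, relIndex_bot_left, ord hcard hm1 hm hb (2 * k) (by omega) (by omega),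
      ord hcard hm1 hm hb (k - 1) (by omega) (by omega),
      show m + 1 - (k - 1) = (m + 1 - 2 * k) + (k + 1) by omega, pow_add] at h4
    have h5 := Nat.eq_of_mul_eq_mul_left (pow_pos hp.out.pos _) h4
    rw [h5] at h3
    have := (Nat.pow_le_pow_iff_right hp1).1 h3
    omega

end Cfsg.Agent.H10.Mc
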