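import Cfsg.Prelude.Def_Perm
import Mathlib.GroupTheory.Sylow
import Mathlib.GroupTheory.GroupAction.MultipleTransitivity
import Cfsg.Agent.H26.AugNil

set_option autoImplicit false
set_option linter.all false

/-!
# H10.Perm1: basic facts on transitive actions and permutation modules
-/

namespace Cfsg.Agent.H10

open MulAction

variable {G : Type*} [Group G]

/-- the Sylow `p`-subgroups are transitive on a set of `p`-power size -/
theorem sylow_transitive [Finite G] {p f : ℕ} [hp : Fact p.Prime] {Ω : Type*} [Finite Ω]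
    [MulAction G Ω] [IsPretransitive G Ω] (hcard : Nat.card Ω = p ^ f) (P : Sylow p G) (a b : Ω) :
    ∃ g ∈ P, g • a = b := by
  have h1 : (stabilizer G a).index = p ^ f := by
    rw [index_stabilizer_of_transitive, hcard]
  set S := stabilizer G a ⊓ (P : Subgroup G) with hS
  have h2 : S.relIndex P * (P : Subgroup G).index = S.index :=
    Subgroup.relIndex_mul_index inf_le_right
  have h3 : S.relIndex (stabilizer G a) * (stabilizer G a).index = S.index :=
    Subgroup.relIndex_mul_index inf_le_left
  have h4 : p ^ f ∣ S.relIndex P := by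
    have h5 : p ^ f ∣ S.relIndex P * (P : Subgroup G).index := by
      rw [h2, ← h3, h1]; exact dvd_mul_left _ _
    refine Nat.Coprime.dvd_of_dvd_mul_right ?_ h5
    exact Nat.Coprime.pow_left f ((Nat.Prime.coprime_iff_not_dvd hp.out).2 P.not_dvd_index)
  have h5 : S.relIndex P = Nat.card (orbit P a) := by
    rw [hS, Subgroup.inf_relIndex_right, Nat.card_coe_set_eq, ← index_stabilizer]
    rfl
  have h6 : orbit P a = Set.univ := by
    rw [h5] at h4
    have hpos : 0 < Nat.card (orbit P a) := by
      haveI : Nonempty (orbit P a) := ⟨⟨a, mem_orbit_self a⟩⟩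
      exact Nat.card_pos
    have h7 : Nat.card Ω ≤ Nat.card (orbit P a) := by
      rw [hcard]; exact Nat.le_of_dvd hpos h4
    refine Set.eq_of_subset_of_ncard_le (Set.subset_univ _) ?_
    rw [Set.ncard_univ, ← Nat.card_coe_set_eq]
    exact h7
  have h7 : b ∈ orbit P a := by rw [h6]; trivial
  obtain ⟨g, hg⟩ := h7
  exact ⟨g.1, g.2, hg⟩

theorem permRep_apply {K : Type*} [CommSemiring K] {Ω : Type*} [MulAction G Ω] (g : G) (v : Ω → K)
    (x : Ω) : Cfsg.permRep K G Ω g v x = v (g⁻¹ • x) := rfl

theorem mem_permConstants {K : Type*} [CommSemiring K] {Ω : Type*} [MulAction G Ω] {v : Ω → K} :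
    v ∈ (Cfsg.permConstants K G Ω).toSubmodule ↔ ∃ c : K, ∀ x, v x = c := by
  show v ∈ Submodule.span K {fun _ => (1 : K)} ↔ _
  rw [Submodule.mem_span_singleton]
  constructor
  · rintro ⟨c, rfl⟩; exact ⟨c, fun x => by simp⟩
  · rintro ⟨c, hc⟩; exact ⟨c, funext fun x => by simp [hc x]⟩

theorem mem_permSumZero {K : Type*} [CommSemiring K] {Ω : Type*} [Fintype Ω] [MulAction G Ω]
    {v : Ω → K} : v ∈ (Cfsg.permSumZero K G Ω).toSubmodule ↔ ∑ x, v x = 0 := Iff.rfl

end Cfsg.Agent.H10
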