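import Mathlib

set_option autoImplicit false
set_option linter.all false

/-!
# H10.Perm4: elementary tools for multiply transitive / homogeneous groups
-/

namespace Cfsg.Agent.H10

open MulAction
open scoped Pointwise

section
variable {G : Type*} [Group G] {Ω : Type*} [MulAction G Ω]

theorem two_trans_of_base {a b : Ω} (hab : a ≠ b)
    (h : ∀ c d : Ω, c ≠ d → ∃ g : G, g • a = c ∧ g • b = d) : IsMultiplyPretransitive G Ω 2 := by
  rw [is_two_pretransitive_iff]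
  intro x y c d hxy hcd
  obtain ⟨g, hg1, hg2⟩ := h x y hxy
  obtain ⟨k, hk1, hk2⟩ := h c d hcd
  refine ⟨k * g⁻¹, ?_, ?_⟩
  · rw [mul_smul, ← hg1, inv_smul_smul, hk1]
  · rw [mul_smul, ← hg2, inv_smul_smul, hk2]

theorem three_trans_iff : IsMultiplyPretransitive G Ω 3 ↔
    ∀ a b c x y z : Ω, a ≠ b → a ≠ c → b ≠ c → x ≠ y → x ≠ z → y ≠ z →
      ∃ g : G, g • a = x ∧ g • b = y ∧ g • c = z := by
  rw [isMultiplyPretransitive_iff]
  constructor
  · intro h a b c x y z hab hac hbc hxy hxz hyz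
    let u : Fin 3 ↪ Ω := ⟨![a, b, c], by
      intro i j hij
      fin_cases i <;> fin_cases j <;> simp_all⟩
    let v : Fin 3 ↪ Ω := ⟨![x, y, z], by
      intro i j hij
      fin_cases i <;> fin_cases j <;> simp_all⟩
    obtain ⟨g, hg⟩ := h u v
    refine ⟨g, ?_, ?_, ?_⟩
    · exact DFunLike.congr_fun hg 0
    · exact DFunLike.congr_fun hg 1
    · exact DFunLike.congr_fun hg 2
  · intro h u v
    have hu : ∀ i j, i ≠ j → u i ≠ u j := fun i j hij h => hij (u.injective h)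
    have hv : ∀ i j, i ≠ j → v i ≠ v j := fun i j hij h => hij (v.injective h)
    obtain ⟨g, h0, h1, h2⟩ := h (u 0) (u 1) (u 2) (v 0) (v 1) (v 2) (hu _ _ (by decide))
      (hu _ _ (by decide)) (hu _ _ (by decide)) (hv _ _ (by decide)) (hv _ _ (by decide))
      (hv _ _ (by decide))
    refine ⟨g, ?_⟩
    ext i
    fin_cases i
    · exact h0
    · exact h1
    · exact h2

theorem three_trans_of_base {a b c : Ω} (hab : a ≠ b) (hac : a ≠ c) (hbc : b ≠ c)
    (h : ∀ x y z : Ω, x ≠ y → x ≠ z → y ≠ z → ∃ g : G, g • a = x ∧ g • b = y ∧ g • c = z) :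
    IsMultiplyPretransitive G Ω 3 := by
  rw [three_trans_iff]
  intro a' b' c' x y z h1 h2 h3 h4 h5 h6
  obtain ⟨g, hg1, hg2, hg3⟩ := h a' b' c' h1 h2 h3
  obtain ⟨k, hk1, hk2, hk3⟩ := h x y z h4 h5 h6
  refine ⟨k * g⁻¹, ?_, ?_, ?_⟩
  · rw [mul_smul, ← hg1, inv_smul_smul, hk1]
  · rw [mul_smul, ← hg2, inv_smul_smul, hk2]
  · rw [mul_smul, ← hg3, inv_smul_smul, hk3]

/-- an involution swapping two points -/
theorem exists_swap [Finite G] [FaithfulSMul G Ω] (h : Even (Nat.card G)) :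
    ∃ (t : G) (a b : Ω), a ≠ b ∧ t • a = b ∧ t • b = a := by
  haveI : Fact (Nat.Prime 2) := ⟨Nat.prime_two⟩
  obtain ⟨t, ht⟩ := exists_prime_orderOf_dvd_card' (G := G) 2 h.two_dvd
  have ht2 : t * t = 1 := by
    have := pow_orderOf_eq_one t
    rwa [ht, pow_two] at this
  have ht1 : t ≠ 1 := by
    rintro rfl
    simp at ht
  obtain ⟨a, ha⟩ : ∃ a : Ω, t • a ≠ a := by
    by_contra hcon
    push Not at hcon
    exact ht1 (FaithfulSMul.eq_of_smul_eq_smul (α := Ω) fun x => by rw [hcon x, one_smul])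
  exact ⟨t, a, t • a, Ne.symm ha, rfl, by rw [← mul_smul, ht2, one_smul]⟩

theorem two_trans_of_homog_even [Finite G] [FaithfulSMul G Ω] (he : Even (Nat.card G))
    (h : ∀ a b c d : Ω, a ≠ b → c ≠ d →
      ∃ g : G, (g • a = c ∧ g • b = d) ∨ (g • a = d ∧ g • b = c)) :
    IsMultiplyPretransitive G Ω 2 := by
  obtain ⟨t, a, b, hab, hta, htb⟩ := exists_swap (Ω := Ω) he
  refine two_trans_of_base hab fun c d hcd => ?_
  obtain ⟨g, ⟨h1, h2⟩ | ⟨h1, h2⟩⟩ := h a b c d hab hcd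
  · exact ⟨g, h1, h2⟩
  · exact ⟨g * t, by rw [mul_smul, hta, h2], by rw [mul_smul, htb, h1]⟩

variable [DecidableEq Ω]

/-- an unordered pair as an element of `powersetCard` -/
def pr {a b : Ω} (h : a ≠ b) : Set.powersetCard Ω 2 :=
  ⟨{a, b}, by rw [Set.powersetCard.mem_iff]; exact Finset.card_pair h⟩

theorem pr_coe {a b : Ω} (h : a ≠ b) : ((pr h : Set.powersetCard Ω 2) : Finset Ω) = {a, b} := rfl

theorem exists_pr (s : Set.powersetCard Ω 2) : ∃ (a b : Ω) (h : a ≠ b), s = pr h := by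
  obtain ⟨a, b, hab, hs⟩ := Finset.card_eq_two.1 (Set.powersetCard.mem_iff.1 s.2)
  exact ⟨a, b, hab, Subtype.ext hs⟩

theorem smul_pr {a b : Ω} (h : a ≠ b) (g : G) :
    g • (pr h : Set.powersetCard Ω 2) = pr (fun e => h (MulAction.injective g e) : g • a ≠ g • b) := by
  apply Subtype.ext
  rw [Set.powersetCard.coe_smul, pr_coe, pr_coe]
  ext x
  simp [Finset.mem_smul_finset]
  tauto

theorem mem_smul_iff {s : Set.powersetCard Ω 2} {g : G} {x : Ω} :
    g • x ∈ ((g • s : Set.powersetCard Ω 2) : Finset Ω) ↔ x ∈ (s : Finset Ω) := by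
  rw [Set.powersetCard.coe_smul, Finset.smul_mem_smul_finset_iff]

theorem pr_eq_iff {a b c d : Ω} (h : a ≠ b) (h' : c ≠ d) :
    (pr h : Set.powersetCard Ω 2) = pr h' ↔ (a = c ∧ b = d) ∨ (a = d ∧ b = c) := by
  constructor
  · intro e
    have e1 : ({a, b} : Finset Ω) = {c, d} := congrArg Subtype.val e
    have ha : a ∈ ({c, d} : Finset Ω) := by rw [← e1]; simp
    have hb : b ∈ ({c, d} : Finset Ω) := by rw [← e1]; simp
    simp only [Finset.mem_insert, Finset.mem_singleton] at ha hb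
    rcases ha with rfl | rfl <;> rcases hb with rfl | rfl
    · exact absurd rfl h
    · exact Or.inl ⟨rfl, rfl⟩
    · exact Or.inr ⟨rfl, rfl⟩
    · exact absurd rfl h
  · rintro (⟨rfl, rfl⟩ | ⟨rfl, rfl⟩)
    · rfl
    · apply Subtype.ext
      rw [pr_coe, pr_coe, Finset.pair_comm]

theorem homog_two_iff : IsPretransitive G (Set.powersetCard Ω 2) ↔ ∀ a b c d : Ω, a ≠ b → c ≠ d →
      ∃ g : G, (g • a = c ∧ g • b = d) ∨ (g • a = d ∧ g • b = c) := by
  constructor
  · intro h a b c d hab hcd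
    obtain ⟨g, hg⟩ := h.exists_smul_eq (pr hab) (pr hcd)
    rw [smul_pr, pr_eq_iff] at hg
    exact ⟨g, hg⟩
  · intro h
    refine ⟨fun s s' => ?_⟩
    obtain ⟨a, b, hab, rfl⟩ := exists_pr s
    obtain ⟨c, d, hcd, rfl⟩ := exists_pr s'
    obtain ⟨g, hg⟩ := h a b c d hab hcd
    exact ⟨g, by rw [smul_pr, pr_eq_iff]; exact hg⟩

end

end Cfsg.Agent.H10
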