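import Mathlib
import Cfsg.Agent.H10.Perm4

set_option autoImplicit false
set_option linter.all false

/-!
# H10.Perm7: sharply 2-transitive groups
-/

namespace Cfsg.Agent.H10

open MulAction
open scoped Pointwise

section
variable {G : Type*} [Group G] [Finite G] {α : Type*} [Finite α] [MulAction G α] [FaithfulSMul G α]

/-- sharply 2-transitive -/
structure Sharp2 (G : Type*) [Group G] (α : Type*) [MulAction G α] : Prop where
  trans : IsMultiplyPretransitive G α 2
  sharp : ∀ (g : G) (a b : α), a ≠ b → g • a = a → g • b = b → g = 1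

theorem Sharp2.of_stab {G : Type*} [Group G] {α : Type*} [MulAction G α]
    (h : IsMultiplyPretransitive G α 2) (hs : ∀ x : Fin 2 ↪ α, stabilizer G x = ⊥) :
    Sharp2 G α := by
  refine ⟨h, fun g a b hab ha hb => ?_⟩
  let x : Fin 2 ↪ α := ⟨![a, b], by
    intro i j hij
    fin_cases i <;> fin_cases j <;> simp_all⟩
  have h1 : g ∈ stabilizer G x := by
    rw [mem_stabilizer_iff]
    ext i
    fin_cases i
    · exact ha
    · exact hb
  rw [hs x] at h1
  exact Subgroup.mem_bot.1 h1

theorem Sharp2.card (h : Sharp2 G α) (h2 : 2 ≤ Nat.card α) :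
    Nat.card G = Nat.card α * (Nat.card α - 1) := by
  haveI : Fintype α := Fintype.ofFinite α
  haveI : Nontrivial α := Finite.one_lt_card_iff_nontrivial.1 h2
  obtain ⟨a, b, hab⟩ := exists_pair_ne α
  let x : Fin 2 ↪ α := ⟨![a, b], by
    intro i j hij
    fin_cases i <;> fin_cases j <;> simp_all⟩
  have hbij : Function.Bijective (fun g : G => g • x) := by
    constructor
    · intro g k hgk
      have hgk' : g • x = k • x := hgk
      have h1 : (k⁻¹ * g) • x = x := by rw [mul_smul, hgk', inv_smul_smul]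
      have h2 := h.sharp (k⁻¹ * g) a b hab (DFunLike.congr_fun h1 0) (DFunLike.congr_fun h1 1)
      rw [inv_mul_eq_one] at h2
      exact h2.symm
    · intro y
      exact h.trans.exists_smul_eq x y
  rw [Nat.card_congr (Equiv.ofBijective _ hbij), Nat.card_eq_fintype_card,
    Fintype.card_embedding_eq, Fintype.card_fin, Nat.card_eq_fintype_card]
  simp [Nat.descFactorial_succ, mul_comm]

/-- number of fixed point free elements -/
theorem Sharp2.card_fpf (h : Sharp2 G α) (h2 : 2 ≤ Nat.card α) :
    Nat.card {g : G // ∀ a : α, g • a ≠ a} = Nat.card α - 1 := by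
  classical
  haveI : Fintype α := Fintype.ofFinite α
  haveI : Fintype G := Fintype.ofFinite G
  haveI : Nontrivial α := Finite.one_lt_card_iff_nontrivial.1 h2
  haveI : IsPretransitive G α := by
    haveI := h.trans
    exact isPretransitive_of_is_two_pretransitive
  haveI : ∀ g : G, Fintype (fixedBy α g) := fun g => Fintype.ofFinite _
  have h1 := sum_card_fixedBy_eq_card_orbits_mul_card_group G α
  have h3 : Fintype.card (orbitRel.Quotient G α) = 1 := by
    rw [Fintype.card_eq_one_iff_nonempty_unique]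
    haveI : Subsingleton (orbitRel.Quotient G α) := (pretransitive_iff_subsingleton_quotient G α).1 inferInstance
    exact ⟨⟨⟨Quotient.mk'' (Classical.arbitrary α)⟩, fun x => Subsingleton.elim _ _⟩⟩
  rw [h3, one_mul] at h1
  have hle : ∀ g : G, g ≠ 1 → Fintype.card (fixedBy α g) ≤ 1 := by
    intro g hg
    rw [Fintype.card_le_one_iff_subsingleton]
    refine ⟨fun x y => Subtype.ext ?_⟩
    by_contra hxy
    exact hg (h.sharp g x y hxy x.2 y.2)
  have hfix1 : Fintype.card (fixedBy α (1 : G)) = Nat.card α := by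
    rw [← Nat.card_eq_fintype_card]
    have : fixedBy α (1 : G) = Set.univ := by
      ext x; simp [mem_fixedBy]
    rw [this, Nat.card_coe_set_eq, Set.ncard_univ]
  -- sum of (1 - fix)
  have h4 : ∑ g : G, (Fintype.card (fixedBy α g)) =
      Nat.card α + ∑ g ∈ Finset.univ.erase (1 : G), Fintype.card (fixedBy α g) := by
    rw [← Finset.add_sum_erase _ _ (Finset.mem_univ (1 : G)), hfix1]
  have h5 : ∑ g ∈ Finset.univ.erase (1 : G), Fintype.card (fixedBy α g) +
      (Finset.univ.filter fun g : G => ∀ a : α, g • a ≠ a).card = Fintype.card G - 1 := by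
    have e1 : (Finset.univ.filter fun g : G => ∀ a : α, g • a ≠ a).card =
        ∑ g ∈ Finset.univ.erase (1 : G), if (∀ a : α, g • a ≠ a) then 1 else 0 := by
      rw [Finset.card_filter]
      rw [← Finset.add_sum_erase _ _ (Finset.mem_univ (1 : G)), if_neg, zero_add]
      intro hcon
      exact hcon (Classical.arbitrary α) (one_smul _ _)
    rw [e1, ← Finset.sum_add_distrib]
    have e2 : ∀ g ∈ Finset.univ.erase (1 : G),
        Fintype.card (fixedBy α g) + (if (∀ a : α, g • a ≠ a) then 1 else 0) = 1 := by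
      intro g hg
      have hg1 := hle g (Finset.ne_of_mem_erase hg)
      split_ifs with hf
      · have : Fintype.card (fixedBy α g) = 0 := by
          rw [Fintype.card_eq_zero_iff]
          exact ⟨fun x => hf x x.2⟩
        omega
      · push Not at hf
        obtain ⟨a, ha⟩ := hf
        have : 0 < Fintype.card (fixedBy α g) := Fintype.card_pos_iff.2 ⟨⟨a, ha⟩⟩
        omega
    rw [Finset.sum_congr rfl e2, Finset.sum_const, smul_eq_mul, mul_one,
      Finset.card_erase_of_mem (Finset.mem_univ _), Finset.card_univ]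
  have h6 : Nat.card {g : G // ∀ a : α, g • a ≠ a} =
      (Finset.univ.filter fun g : G => ∀ a : α, g • a ≠ a).card := by
    rw [Nat.card_eq_fintype_card, Fintype.card_subtype]
  have hG := h.card h2
  rw [Nat.card_eq_fintype_card (α := G)] at hG
  have hpos : 0 < Fintype.card G := Fintype.card_pos
  omega

/-- structure of a finite sharply 2-transitive group -/
theorem Sharp2.structure (h : Sharp2 G α) (h2 : 2 ≤ Nat.card α) :
    ∃ p j : ℕ, p.Prime ∧ 1 ≤ j ∧ Nat.card α = p ^ j ∧ ∃ N : Subgroup G, N.Normal ∧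
      Nat.card N = p ^ j ∧ (∀ x ∈ N, ∀ y ∈ N, x * y = y * x) ∧ (∀ x ∈ N, x ^ p = 1) ∧
      (∀ g : G, g ∈ N ↔ g = 1 ∨ ∀ a : α, g • a ≠ a) ∧ ∀ a b : α, ∃ n ∈ N, n • a = b := by
  classical
  haveI : Nontrivial α := Finite.one_lt_card_iff_nontrivial.1 h2
  obtain ⟨a₀⟩ : Nonempty α := inferInstance
  set n := Nat.card α with hn
  have hG := h.card h2
  have hF := h.card_fpf h2
  -- semiregular centralizers of fixed point free elements
  have hsemi : ∀ x : G, (∀ a : α, x • a ≠ a) → ∀ c : G, c * x = x * c → c ≠ 1 → ∀ a : α, c • a ≠ a := by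
    intro x hx c hcx hc a hca
    apply hc
    refine h.sharp c a (x • a) (Ne.symm (hx a)) hca ?_
    rw [← mul_smul, hcx, mul_smul, hca]
  have hcent : ∀ x : G, (∀ a : α, x • a ≠ a) → Nat.card (Subgroup.centralizer ({x} : Set G)) ≤ n := by
    intro x hx
    refine Nat.card_le_card_of_injective (fun c : Subgroup.centralizer ({x} : Set G) => (c : G) • a₀) ?_
    intro c d hcd
    have hcd' : (c : G) • a₀ = (d : G) • a₀ := hcd
    have h1 : ((d : G)⁻¹ * c) • a₀ = a₀ := by rw [mul_smul, hcd', inv_smul_smul]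
    have h3 : ((d : G)⁻¹ * c) * x = x * ((d : G)⁻¹ * c) :=
      (Subgroup.mem_centralizer_iff.1 (mul_mem (inv_mem d.2) c.2) x rfl).symm
    by_contra hne
    have h4 : (d : G)⁻¹ * c ≠ 1 := by
      intro h5
      rw [inv_mul_eq_one] at h5
      exact hne (Subtype.ext h5.symm)
    exact hsemi x hx _ h3 h4 a₀ h1
  -- conjugates of a fixed point free element
  have hclass : ∀ x : G, (∀ a : α, x • a ≠ a) → (∀ y : G, (∀ a : α, y • a ≠ a) → ∃ g : G, g * x * g⁻¹ = y) ∧
      Nat.card (Subgroup.centralizer ({x} : Set G)) = n := by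
    intro x hx
    have hfc : ∀ g : G, ∀ a : α, (g * x * g⁻¹) • a ≠ a := by
      intro g a hga
      apply hx (g⁻¹ • a)
      rw [mul_smul, mul_smul] at hga
      rw [eq_inv_smul_iff]; exact hga
    let f : G ⧸ Subgroup.centralizer ({x} : Set G) → {g : G // ∀ a : α, g • a ≠ a} :=
      Quotient.lift (fun g => ⟨g * x * g⁻¹, hfc g⟩) (by
        intro g k hgk
        apply Subtype.ext
        have h3 : g⁻¹ * k ∈ Subgroup.centralizer ({x} : Set G) := QuotientGroup.leftRel_apply.1 hgk
        have h4 := Subgroup.mem_centralizer_iff.1 h3 x rfl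
        show g * x * g⁻¹ = k * x * k⁻¹
        calc g * x * g⁻¹ = g * (x * (g⁻¹ * k)) * k⁻¹ := by group
          _ = g * (g⁻¹ * k * x) * k⁻¹ := by rw [h4]
          _ = _ := by group)
    have hfinj : Function.Injective f := by
      intro q q'
      induction q using QuotientGroup.induction_on with | _ g => ?_
      induction q' using QuotientGroup.induction_on with | _ k => ?_
      intro hgk
      have h3 : g * x * g⁻¹ = k * x * k⁻¹ := congrArg Subtype.val hgk
      rw [QuotientGroup.eq, Subgroup.mem_centralizer_iff]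
      intro y hy
      rw [Set.mem_singleton_iff.1 hy]
      calc x * (g⁻¹ * k) = g⁻¹ * (g * x * g⁻¹) * k := by group
        _ = g⁻¹ * (k * x * k⁻¹) * k := by rw [h3]
        _ = _ := by group
    have hle : Nat.card (G ⧸ Subgroup.centralizer ({x} : Set G)) ≤ n - 1 := by
      rw [← hF]; exact Nat.card_le_card_of_injective f hfinj
    have hmul : Nat.card (Subgroup.centralizer ({x} : Set G)) *
        Nat.card (G ⧸ Subgroup.centralizer ({x} : Set G)) = n * (n - 1) := by
      rw [← hG]; exact Subgroup.card_mul_index _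
    have hc := hcent x hx
    have hn1 : 0 < n - 1 := by omega
    have hceq : Nat.card (Subgroup.centralizer ({x} : Set G)) = n := by
      by_contra hne
      have hlt : Nat.card (Subgroup.centralizer ({x} : Set G)) < n := lt_of_le_of_ne hc hne
      have := Nat.mul_le_mul (Nat.le_of_lt_succ (Nat.lt_succ_of_lt hlt)) hle
      have h5 : Nat.card (Subgroup.centralizer ({x} : Set G)) *
        Nat.card (G ⧸ Subgroup.centralizer ({x} : Set G)) < n * (n - 1) :=
        lt_of_le_of_lt (Nat.mul_le_mul_left _ hle) (Nat.mul_lt_mul_of_pos_right hlt hn1)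
      omega
    refine ⟨?_, hceq⟩
    have hqeq : Nat.card (G ⧸ Subgroup.centralizer ({x} : Set G)) = n - 1 := by
      rw [hceq] at hmul
      exact Nat.eq_of_mul_eq_mul_left (by omega) hmul
    have hbij : Function.Bijective f :=
      (Nat.bijective_iff_injective_and_card f).2 ⟨hfinj, by rw [hqeq, hF]⟩
    intro y hy
    obtain ⟨q, hq⟩ := hbij.2 ⟨y, hy⟩
    induction q using QuotientGroup.induction_on with | _ g => ?_
    exact ⟨g, congrArg Subtype.val hq⟩
  -- a prime divisor
  obtain ⟨p, hp, hpn⟩ := Nat.exists_prime_and_dvd (show n ≠ 1 by omega)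
  haveI : Fact p.Prime := ⟨hp⟩
  have hpG : p ∣ Nat.card G := by rw [hG]; exact hpn.mul_right _
  obtain ⟨x, hx⟩ := exists_prime_orderOf_dvd_card' p hpG
  have hx1 : x ≠ 1 := by
    rintro rfl
    rw [orderOf_one] at hx
    exact hp.one_lt.ne hx
  have hxf : ∀ a : α, x • a ≠ a := by
    have hpg : IsPGroup p (Subgroup.zpowers x) := IsPGroup.of_card (n := 1) (by
      rw [Nat.card_zpowers, hx, pow_one])
    have h3 := hpg.card_modEq_card_fixedPoints α
    intro a ha
    have h4 : Nat.card (fixedPoints (Subgroup.zpowers x) α) = 1 := by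
      rw [Nat.card_eq_one_iff_unique]
      constructor
      · refine ⟨fun u v => Subtype.ext ?_⟩
        by_contra huv
        exact hx1 (h.sharp x u v huv (u.2 ⟨x, Subgroup.mem_zpowers x⟩)
          (v.2 ⟨x, Subgroup.mem_zpowers x⟩))
      · refine ⟨⟨a, ?_⟩⟩
        rintro ⟨y, k, rfl⟩
        show x ^ k • a = a
        have : x ∈ stabilizer G a := ha
        exact zpow_mem this k
    rw [h4] at h3
    have h5 : n ≡ 0 [MOD p] := (Nat.modEq_zero_iff_dvd).2 hpn
    have h6 : 1 ≡ 0 [MOD p] := h3.symm.trans h5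
    exact hp.one_lt.ne' (Nat.dvd_one.1 ((Nat.modEq_zero_iff_dvd).1 h6))
  obtain ⟨hconj, hCx⟩ := hclass x hxf
  set N := Subgroup.centralizer ({x} : Set G) with hN
  -- `C(y)` consists of `1` and the fixed point free elements
  have hCall : ∀ y : G, (∀ a : α, y • a ≠ a) → ∀ g : G, g ∈ Subgroup.centralizer ({y} : Set G) ↔
      g = 1 ∨ ∀ a : α, g • a ≠ a := by
    intro y hy g
    have hCy := (hclass y hy).2
    have hsub : ∀ g ∈ Subgroup.centralizer ({y} : Set G), g = 1 ∨ ∀ a : α, g • a ≠ a := by
      intro g hg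
      by_cases hg1 : g = 1
      · exact Or.inl hg1
      · right
        exact hsemi y hy g (Subgroup.mem_centralizer_iff.1 hg y rfl).symm hg1
    refine ⟨hsub g, ?_⟩
    -- counting
    let S : Set G := {g | g = 1 ∨ ∀ a : α, g • a ≠ a}
    have hS : S.ncard ≤ n := by
      have : S = insert 1 {g : G | ∀ a : α, g • a ≠ a} := by
        ext g; simp [S]
      rw [this]
      refine (Set.ncard_insert_le _ _).trans ?_
      rw [← Nat.card_coe_set_eq]
      have : Nat.card {g : G | ∀ a : α, g • a ≠ a} = n - 1 := hF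
      rw [this]; omega
    have h7 : (Subgroup.centralizer ({y} : Set G) : Set G) = S := by
      apply Set.eq_of_subset_of_ncard_le hsub
      · refine hS.trans ?_
        rw [← Nat.card_coe_set_eq]
        exact hCy.ge
    intro hg
    have : g ∈ S := hg
    rw [← h7] at this
    exact this
  have hmemN := hCall x hxf
  have hNp : ∀ y ∈ N, y ^ p = 1 := by
    intro y hy
    rcases (hmemN y).1 hy with rfl | hyf
    · exact one_pow p
    · obtain ⟨g, rfl⟩ := hconj y hyf
      rw [conj_pow, ← hx, pow_orderOf_eq_one, mul_one, mul_inv_cancel]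
  have hNpg : IsPGroup p N := fun y => ⟨1, Subtype.ext (by
    rw [pow_one]; exact hNp y y.2)⟩
  obtain ⟨j, hj⟩ := IsPGroup.iff_card.1 hNpg
  have hnj : n = p ^ j := by rw [← hCx, hj]
  refine ⟨p, j, hp, ?_, hnj, N, ?_, hj, ?_, hNp, hmemN, ?_⟩
  · rcases Nat.eq_zero_or_pos j with h8 | h8
    · rw [h8, pow_zero] at hnj; omega
    · exact h8
  · refine ⟨fun y hy g => ?_⟩
    rw [hmemN] at hy ⊢
    rcases hy with rfl | hyf
    · left; group
    · right
      intro a hga
      apply hyf (g⁻¹ • a)
      rw [mul_smul, mul_smul] at hga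
      rw [eq_inv_smul_iff]; exact hga
  · intro y hy z hz
    rcases (hmemN y).1 hy with rfl | hyf
    · rw [one_mul, mul_one]
    · have := (hCall y hyf z).2 ((hmemN z).1 hz)
      exact Subgroup.mem_centralizer_iff.1 this y rfl
  · intro a b
    have hinj : Function.Injective (fun c : N => (c : G) • a) := by
      intro c d hcd
      have hcd' : (c : G) • a = (d : G) • a := hcd
      have h1 : ((d : G)⁻¹ * c) • a = a := by rw [mul_smul, hcd', inv_smul_smul]
      rcases (hmemN _).1 (mul_mem (inv_mem d.2) c.2) with h5 | h5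
      · rw [inv_mul_eq_one] at h5
        exact Subtype.ext h5.symm
      · exact absurd h1 (h5 a)
    have hbij : Function.Bijective (fun c : N => (c : G) • a) :=
      (Nat.bijective_iff_injective_and_card _).2 ⟨hinj, hCx⟩
    obtain ⟨c, hc⟩ := hbij.2 b
    exact ⟨c, c.2, hc⟩

end

end Cfsg.Agent.H10
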