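import Mathlib
import Cfsg.Agent.H10.Perm7

set_option autoImplicit false
set_option linter.all false

/-!
# H10.Perm8: regular normal subgroups of multiply primitive groups
-/

namespace Cfsg.Agent.H10

open MulAction
open scoped Pointwise

section
variable {G : Type*} [Group G] {X : Type*} [MulAction G X] {N : Subgroup G} [hN : N.Normal]

/-- in a regular normal subgroup an element is determined by its value -/
theorem reg_inj (hreg : ∀ x : X, stabilizer N x = ⊥) {m n : G} (hm : m ∈ N) (hn : n ∈ N) {x : X}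
    (h : m • x = n • x) : m = n := by
  have h1 : (⟨n⁻¹ * m, mul_mem (inv_mem hn) hm⟩ : N) ∈ stabilizer N x := by
    rw [mem_stabilizer_iff]
    show (n⁻¹ * m) • x = x
    rw [mul_smul, h, inv_smul_smul]
  rw [hreg x, Subgroup.mem_bot] at h1
  have h2 : n⁻¹ * m = 1 := congrArg Subtype.val h1
  rw [inv_mul_eq_one] at h2
  exact h2.symm

theorem reg_smul {g : G} {x : X} (hg : g • x = x) {n : G} : g • n • x = (g * n * g⁻¹) • x := by
  rw [mul_smul, mul_smul, inv_smul_eq_iff.2 hg.symm]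

theorem sq_of_two_primitive (h2 : IsMultiplyPreprimitive G X 2)
    (hreg : ∀ x : X, stabilizer N x = ⊥) (x₀ : X) {n : G} (hn : n ∈ N) (hn2 : n ^ 2 ≠ 1) :
    ∀ y : X, y = x₀ ∨ y = n • x₀ ∨ y = n⁻¹ • x₀ := by
  have hn1 : n ≠ 1 := by rintro rfl; simp at hn2
  have hnn : n ≠ n⁻¹ := by
    intro h
    apply hn2
    rw [pow_two]
    nth_rewrite 2 [h]
    exact mul_inv_cancel n
  have hx1 : n • x₀ ≠ x₀ := by
    intro h
    exact hn1 (reg_inj hreg hn (one_mem N) (h.trans (one_smul _ _).symm))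
  have hx2 : n⁻¹ • x₀ ≠ x₀ := by
    intro h
    have := reg_inj hreg (inv_mem hn) (one_mem N) (h.trans (one_smul _ _).symm)
    exact hn1 (inv_eq_one.1 this)
  have hpr := IsMultiplyPreprimitive.isPreprimitive_ofFixingSubgroup (M := G) (α := X) 2
    (s := {x₀}) (by rw [Set.encard_singleton]; norm_num)
  let B : Set (SubMulAction.ofFixingSubgroup G ({x₀} : Set X)) :=
    {y | (y : X) = n • x₀ ∨ (y : X) = n⁻¹ • x₀}
  have hB : IsBlock (fixingSubgroup G ({x₀} : Set X)) B := by
    rw [isBlock_iff_smul_eq_or_disjoint]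
    rintro ⟨g, hg⟩
    have hgx : g • x₀ = x₀ := (mem_fixingSubgroup_iff G).1 hg x₀ rfl
    have hgn : g * n * g⁻¹ ∈ N := hN.conj_mem n hn g
    have e1 : g • n • x₀ = (g * n * g⁻¹) • x₀ := reg_smul hgx
    have e2 : g • n⁻¹ • x₀ = (g * n * g⁻¹)⁻¹ • x₀ := by
      rw [reg_smul hgx]; congr 1; group
    by_cases hd : Disjoint ((⟨g, hg⟩ : fixingSubgroup G ({x₀} : Set X)) • B) B
    · exact Or.inr hd
    left
    rw [Set.not_disjoint_iff] at hd
    obtain ⟨_, ⟨y, hy, rfl⟩, hyB⟩ := hd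
    have hyB' : g • (y : X) = n • x₀ ∨ g • (y : X) = n⁻¹ • x₀ := hyB
    have hkey : g * n * g⁻¹ = n ∨ g * n * g⁻¹ = n⁻¹ := by
      rcases hy with h1 | h1 <;> rw [h1] at hyB'
      · rw [e1] at hyB'
        rcases hyB' with h3 | h3
        · exact Or.inl (reg_inj hreg hgn hn h3)
        · exact Or.inr (reg_inj hreg hgn (inv_mem hn) h3)
      · rw [e2] at hyB'
        rcases hyB' with h3 | h3
        · right
          exact inv_eq_iff_eq_inv.1 (reg_inj hreg (inv_mem hgn) hn h3)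
        · left
          exact inv_injective (reg_inj hreg (inv_mem hgn) (inv_mem hn) h3)
    have hsub : ∀ (g : G) (hg : g ∈ fixingSubgroup G ({x₀} : Set X)),
        (g * n * g⁻¹ = n ∨ g * n * g⁻¹ = n⁻¹) →
        (⟨g, hg⟩ : fixingSubgroup G ({x₀} : Set X)) • B ⊆ B := by
      rintro g hg hkey _ ⟨z, hz, rfl⟩
      have hgx : g • x₀ = x₀ := (mem_fixingSubgroup_iff G).1 hg x₀ rfl
      have e1 : g • n • x₀ = (g * n * g⁻¹) • x₀ := reg_smul hgx
      have e2 : g • n⁻¹ • x₀ = (g * n * g⁻¹)⁻¹ • x₀ := by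
        rw [reg_smul hgx]; congr 1; group
      show g • (z : X) = n • x₀ ∨ g • (z : X) = n⁻¹ • x₀
      rcases hz with h1 | h1 <;> rcases hkey with h3 | h3 <;> rw [h1]
      · left; rw [e1, h3]
      · right; rw [e1, h3]
      · right; rw [e2, h3]
      · left; rw [e2, h3, inv_inv]
    apply Set.Subset.antisymm (hsub g hg hkey)
    have h4 : g⁻¹ * n * g⁻¹⁻¹ = n ∨ g⁻¹ * n * g⁻¹⁻¹ = n⁻¹ := by
      rcases hkey with h3 | h3
      · left
        nth_rewrite 1 [← h3]; group
      · right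
        have : n⁻¹ = (g * n * g⁻¹) := h3.symm
        have h5 : n = g * n⁻¹ * g⁻¹ := by
          have := congrArg (·⁻¹) h3
          simp only [inv_inv] at this
          exact this.symm.trans (by group)
        nth_rewrite 1 [h5]; group
    have h5 := hsub g⁻¹ (inv_mem hg) h4
    intro y hy
    refine ⟨(⟨g, hg⟩ : fixingSubgroup G ({x₀} : Set X))⁻¹ • y, h5 ⟨y, hy, rfl⟩, smul_inv_smul _ _⟩
  have hm : ∀ {y : X}, y ≠ x₀ → y ∈ SubMulAction.ofFixingSubgroup G ({x₀} : Set X) := by
    intro y hy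
    exact hy
  rcases hpr.isTrivialBlock_of_isBlock hB with h | h
  · exfalso
    have h1 := h (x := ⟨n • x₀, hm hx1⟩) (Or.inl rfl) (y := ⟨n⁻¹ • x₀, hm hx2⟩) (Or.inr rfl)
    exact hnn (reg_inj hreg hn (inv_mem hn) (congrArg Subtype.val h1))
  · intro y
    by_cases hy : y = x₀
    · exact Or.inl hy
    · right
      have : (⟨y, hm hy⟩ : SubMulAction.ofFixingSubgroup G ({x₀} : Set X)) ∈ B := by rw [h]; trivial
      exact this

theorem reg_card [Finite X] (htrans : IsPretransitive N X) (hreg : ∀ x : X, stabilizer N x = ⊥)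
    (x₀ : X) : Nat.card N = Nat.card X := by
  refine Nat.card_congr (Equiv.ofBijective (fun n : N => (n : G) • x₀) ⟨?_, ?_⟩)
  · intro m n h
    exact Subtype.ext (reg_inj hreg m.2 n.2 h)
  · intro y
    obtain ⟨n, hn⟩ := htrans.exists_smul_eq x₀ y
    exact ⟨n, hn⟩

/-- regular normal subgroups of doubly primitive groups -/
theorem two_prim_reg [Finite X] (h2 : IsMultiplyPreprimitive G X 2) (hX : 2 ≤ Nat.card X)
    (htrans : IsPretransitive N X) (hreg : ∀ x : X, stabilizer N x = ⊥) :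
    Nat.card X = 3 ∨ ((∀ x ∈ N, ∀ y ∈ N, x * y = y * x) ∧ (∀ n ∈ N, n ^ 2 = 1) ∧
      ∃ m : ℕ, Nat.card X = 2 ^ m) := by
  haveI : Nontrivial X := Finite.one_lt_card_iff_nontrivial.1 hX
  obtain ⟨x₀⟩ : Nonempty X := inferInstance
  by_cases hsq : ∀ n ∈ N, n ^ 2 = 1
  · right
    have hcomm : ∀ x ∈ N, ∀ y ∈ N, x * y = y * x := by
      intro x hx y hy
      have h1 := hsq x hx
      have h3 := hsq y hy
      have h4 := hsq (x * y) (mul_mem hx hy)
      rw [pow_two] at h1 h3 h4
      have hx' : x⁻¹ = x := inv_eq_of_mul_eq_one_left h1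
      have hy' : y⁻¹ = y := inv_eq_of_mul_eq_one_left h3
      have hxy' : (x * y)⁻¹ = x * y := inv_eq_of_mul_eq_one_left h4
      rw [mul_inv_rev, hx', hy'] at hxy'
      exact hxy'.symm
    refine ⟨hcomm, hsq, ?_⟩
    haveI : Finite N := Nat.finite_of_card_ne_zero (by
      rw [reg_card htrans hreg x₀]; exact Nat.card_pos.ne')
    have hpg : IsPGroup 2 N := fun n => ⟨1, Subtype.ext (by rw [pow_one]; exact hsq n n.2)⟩
    haveI : Fact (Nat.Prime 2) := ⟨Nat.prime_two⟩
    obtain ⟨m, hm⟩ := IsPGroup.iff_card.1 hpg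
    exact ⟨m, by rw [← reg_card htrans hreg x₀, hm]⟩
  · left
    push Not at hsq
    obtain ⟨n, hn, hn2⟩ := hsq
    have hall := sq_of_two_primitive h2 hreg x₀ hn hn2
    have hn1 : n ≠ 1 := by rintro rfl; simp at hn2
    have hnn : n ≠ n⁻¹ := by
      intro h
      apply hn2
      rw [pow_two]
      nth_rewrite 2 [h]
      exact mul_inv_cancel n
    have h3 : (Set.univ : Set X) = {x₀, n • x₀, n⁻¹ • x₀} := by
      ext y; simpa using hall y
    rw [← Set.ncard_univ, h3, Set.ncard_eq_three]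
    refine ⟨x₀, n • x₀, n⁻¹ • x₀, ?_, ?_, ?_, rfl⟩
    · intro h
      exact hn1 (reg_inj hreg hn (one_mem N) (h.symm.trans (one_smul _ _).symm))
    · intro h
      have := reg_inj hreg (inv_mem hn) (one_mem N) (h.symm.trans (one_smul _ _).symm)
      exact hn1 (inv_eq_one.1 this)
    · intro h
      exact hnn (reg_inj hreg hn (inv_mem hn) h)

/-- regular normal subgroups of triply primitive groups -/
theorem three_prim_reg [Finite X] (h3 : IsMultiplyPreprimitive G X 3) (hX : 3 ≤ Nat.card X)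
    (htrans : IsPretransitive N X) (hreg : ∀ x : X, stabilizer N x = ⊥) :
    Nat.card X = 3 ∨ Nat.card X = 4 := by
  haveI := h3.isMultiplyPretransitive
  have h2 : IsMultiplyPreprimitive G X 2 := isMultiplyPreprimitive_of_isMultiplyPretransitive_succ G X (by
    rw [← Nat.cast_ofNat] ; rw [ENat.card_eq_coe_natCard]; exact_mod_cast hX)
  rcases two_prim_reg h2 (by omega) htrans hreg with h | ⟨hcomm, hsq, m, hm⟩
  · exact Or.inl h
  right
  haveI : Nontrivial X := Finite.one_lt_card_iff_nontrivial.1 (by omega)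
  obtain ⟨x₀, x₁, hx⟩ := exists_pair_ne X
  obtain ⟨⟨n, hn⟩, hnx⟩ := htrans.exists_smul_eq x₀ x₁
  have hnx' : n • x₀ = x₁ := hnx
  -- a third point
  obtain ⟨x₂, hx2⟩ : ∃ x₂ : X, x₂ ∉ ({x₀, x₁} : Set X) := by
    by_contra hcon
    push Not at hcon
    have h5 : (Set.univ : Set X) ⊆ {x₀, x₁} := fun x _ => hcon x
    have h6 := Set.ncard_le_ncard h5 (Set.toFinite _)
    rw [Set.ncard_univ, Set.ncard_pair hx] at h6
    omega
  obtain ⟨⟨l, hl⟩, hlx⟩ := htrans.exists_smul_eq x₀ x₂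
  have hlx' : l • x₀ = x₂ := hlx
  have hx3 : (l * n) • x₀ ∉ ({x₀, x₁} : Set X) := by
    rintro (h5 | h5)
    · have h6 := reg_inj hreg (mul_mem hl hn) (one_mem N) (h5.trans (one_smul _ _).symm)
      have h7 : l = n := by
        have h8 : n⁻¹ = n := inv_eq_of_mul_eq_one_left (by rw [← pow_two]; exact hsq n hn)
        rw [← h8]; exact eq_inv_of_mul_eq_one_left h6
      exact hx2 (Or.inr (by rw [← hlx', h7, hnx']; rfl))
    · rw [Set.mem_singleton_iff, ← hnx'] at h5
      have h6 := reg_inj hreg (mul_mem hl hn) hn h5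
      have h7 : l = 1 := mul_eq_right.1 h6
      exact hx2 (Or.inl (by rw [← hlx', h7, one_smul]))
  have hpr := IsMultiplyPreprimitive.isPreprimitive_ofFixingSubgroup (M := G) (α := X) 3
    (s := {x₀, x₁}) (by rw [Set.encard_pair hx]; norm_num)
  let B : Set (SubMulAction.ofFixingSubgroup G ({x₀, x₁} : Set X)) :=
    {y | (y : X) = l • x₀ ∨ (y : X) = (l * n) • x₀}
  have hnn : n * n = 1 := by rw [← pow_two]; exact hsq n hn
  have hB : IsBlock (fixingSubgroup G ({x₀, x₁} : Set X)) B := by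
    rw [isBlock_iff_smul_eq_or_disjoint]
    rintro ⟨g, hg⟩
    have hfix : ∀ g ∈ fixingSubgroup G ({x₀, x₁} : Set X), g • x₀ = x₀ ∧ g * n * g⁻¹ = n := by
      intro g hg
      have hgx : g • x₀ = x₀ := (mem_fixingSubgroup_iff G).1 hg x₀ (Or.inl rfl)
      refine ⟨hgx, ?_⟩
      have hgx1 : g • x₁ = x₁ := (mem_fixingSubgroup_iff G).1 hg x₁ (Or.inr rfl)
      apply reg_inj hreg (hN.conj_mem n hn g) hn (x := x₀)
      rw [← reg_smul hgx, hnx', hgx1]
    have hsub : ∀ (g : G) (hg : g ∈ fixingSubgroup G ({x₀, x₁} : Set X)),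
        (g * l * g⁻¹ = l ∨ g * l * g⁻¹ = l * n) →
        (⟨g, hg⟩ : fixingSubgroup G ({x₀, x₁} : Set X)) • B ⊆ B := by
      rintro g hg hkey _ ⟨z, hz, rfl⟩
      obtain ⟨hgx, hgn⟩ := hfix g hg
      show g • (z : X) = l • x₀ ∨ g • (z : X) = (l * n) • x₀
      have e1 : g • (l * n) • x₀ = (g * l * g⁻¹ * n) • x₀ := by
        rw [reg_smul hgx]
        congr 1
        calc g * (l * n) * g⁻¹ = (g * l * g⁻¹) * (g * n * g⁻¹) := by group
          _ = _ := by rw [hgn]
      rcases hz with h1 | h1 <;> rcases hkey with h3 | h3 <;> rw [h1]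
      · left; rw [reg_smul hgx, h3]
      · right; rw [reg_smul hgx, h3]
      · right; rw [e1, h3]
      · left; rw [e1, h3, mul_assoc, hnn, mul_one]
    by_cases hd : Disjoint ((⟨g, hg⟩ : fixingSubgroup G ({x₀, x₁} : Set X)) • B) B
    · exact Or.inr hd
    left
    obtain ⟨hgx, hgn⟩ := hfix g hg
    rw [Set.not_disjoint_iff] at hd
    obtain ⟨_, ⟨y, hy, rfl⟩, hyB⟩ := hd
    have hyB' : g • (y : X) = l • x₀ ∨ g • (y : X) = (l * n) • x₀ := hyB
    have hgl : g * l * g⁻¹ ∈ N := hN.conj_mem l hl g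
    have e1 : g • (l * n) • x₀ = (g * l * g⁻¹ * n) • x₀ := by
      rw [reg_smul hgx]
      congr 1
      calc g * (l * n) * g⁻¹ = (g * l * g⁻¹) * (g * n * g⁻¹) := by group
        _ = _ := by rw [hgn]
    have hkey : g * l * g⁻¹ = l ∨ g * l * g⁻¹ = l * n := by
      rcases hy with h1 | h1 <;> rw [h1] at hyB'
      · rw [reg_smul hgx] at hyB'
        rcases hyB' with h3 | h3
        · exact Or.inl (reg_inj hreg hgl hl h3)
        · exact Or.inr (reg_inj hreg hgl (mul_mem hl hn) h3)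
      · rw [e1] at hyB'
        rcases hyB' with h3 | h3
        · right
          have h4 := reg_inj hreg (mul_mem hgl hn) hl h3
          calc g * l * g⁻¹ = (g * l * g⁻¹ * n) * n := by rw [mul_assoc _ n n, hnn, mul_one]
            _ = l * n := by rw [h4]
        · left
          have h4 := reg_inj hreg (mul_mem hgl hn) (mul_mem hl hn) h3
          exact mul_right_cancel h4
    apply Set.Subset.antisymm (hsub g hg hkey)
    have h4 : g⁻¹ * l * g⁻¹⁻¹ = l ∨ g⁻¹ * l * g⁻¹⁻¹ = l * n := by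
      rcases hkey with h3 | h3
      · left
        nth_rewrite 1 [← h3]; group
      · right
        have h5 : l = g⁻¹ * l * g * (g⁻¹ * n * g) := by
          calc l = g⁻¹ * (g * l * g⁻¹) * g := by group
            _ = g⁻¹ * (l * n) * g := by rw [h3]
            _ = _ := by group
        have h6 : g⁻¹ * n * g = n := by
          nth_rewrite 1 [← hgn]; group
        rw [h6] at h5
        rw [inv_inv]
        calc g⁻¹ * l * g = g⁻¹ * l * g * (n * n) := by rw [hnn, mul_one]
          _ = (g⁻¹ * l * g * n) * n := by group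
          _ = l * n := by rw [← h5]
    have h5 := hsub g⁻¹ (inv_mem hg) h4
    intro y hy
    refine ⟨(⟨g, hg⟩ : fixingSubgroup G ({x₀, x₁} : Set X))⁻¹ • y, h5 ⟨y, hy, rfl⟩, smul_inv_smul _ _⟩
  rcases hpr.isTrivialBlock_of_isBlock hB with h | h
  · exfalso
    have h1 := h (x := ⟨l • x₀, by rw [hlx']; exact hx2⟩) (Or.inl rfl) (y := ⟨(l * n) • x₀, hx3⟩) (Or.inr rfl)
    have h6 := reg_inj hreg hl (mul_mem hl hn) (congrArg Subtype.val h1)
    have h7 : n = 1 := left_eq_mul.1 h6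
    apply hx
    rw [← hnx', h7, one_smul]
  · have h5 : (Set.univ : Set X) ⊆ {x₀, x₁, l • x₀, (l * n) • x₀} := by
      intro y _
      by_cases hy : y ∈ ({x₀, x₁} : Set X)
      · rcases hy with h6 | h6
        · exact Or.inl h6
        · exact Or.inr (Or.inl h6)
      · have : (⟨y, hy⟩ : SubMulAction.ofFixingSubgroup G ({x₀, x₁} : Set X)) ∈ B := by rw [h]; trivial
        rcases this with h6 | h6
        · exact Or.inr (Or.inr (Or.inl h6))
        · exact Or.inr (Or.inr (Or.inr h6))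
    have h6 := Set.ncard_le_ncard h5 (Set.toFinite _)
    rw [Set.ncard_univ] at h6
    have h7 : ({x₀, x₁, l • x₀, (l * n) • x₀} : Set X).ncard ≤ 4 := by
      refine (Set.ncard_insert_le _ _).trans ?_
      have := Set.ncard_insert_le x₁ ({l • x₀, (l * n) • x₀} : Set X)
      have h8 := Set.ncard_insert_le (l • x₀) ({(l * n) • x₀} : Set X)
      rw [Set.ncard_singleton] at h8
      omega
    rcases Nat.lt_or_ge m 2 with h8 | h8
    · interval_cases m <;> omega
    · have h9 : 2 ^ 2 ≤ 2 ^ m := Nat.pow_le_pow_right (by norm_num) h8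
      omega

end

end Cfsg.Agent.H10
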