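import Mathlib
import Cfsg.Agent.H10.Perm8
import Cfsg.Agent.H22.Perm

set_option autoImplicit false
set_option linter.all false

/-!
# H10.Perm9: normal subgroups of multiply primitive groups
-/

namespace Cfsg.Agent.H10

open MulAction
open scoped Pointwise

universe u v

/-- elementwise `k`-transitivity of a subgroup -/
def KT {G : Type u} [Group G] {X : Type v} [MulAction G X] (H : Subgroup G) (k : ℕ) : Prop :=
  ∀ x y : Fin k ↪ X, ∃ h ∈ H, ∀ i, h • x i = y i

theorem kt_iff {G : Type u} [Group G] {X : Type v} [MulAction G X] {H : Subgroup G} {k : ℕ} :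
    KT (X := X) H k ↔ IsMultiplyPretransitive H X k := by
  constructor
  · intro h
    refine ⟨fun x y => ?_⟩
    obtain ⟨g, hg, h1⟩ := h x y
    exact ⟨⟨g, hg⟩, by ext i; exact h1 i⟩
  · intro h x y
    obtain ⟨⟨g, hg⟩, h1⟩ := h.exists_smul_eq x y
    exact ⟨g, hg, fun i => by rw [← h1]; rfl⟩

/-- passing from the stabilizer -/
theorem kt_succ {G : Type u} [Group G] {X : Type v} [MulAction G X] {H : Subgroup G} {k : ℕ}
    (htrans : IsPretransitive H X) (a : X)
    (h : KT (X := SubMulAction.ofStabilizer G a) (H.subgroupOf (stabilizer G a)) k) :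
    KT (X := X) H (k + 1) := by
  intro x y
  obtain ⟨⟨h1, hh1⟩, hx⟩ := htrans.exists_smul_eq (x (Fin.last k)) a
  obtain ⟨⟨h2, hh2⟩, hy⟩ := htrans.exists_smul_eq (y (Fin.last k)) a
  have hx : h1 • x (Fin.last k) = a := hx
  have hy : h2 • y (Fin.last k) = a := hy
  have key : ∀ (g : G) (z : Fin (k+1) ↪ X), g • z (Fin.last k) = a → ∃ z' : Fin k ↪ SubMulAction.ofStabilizer G a,
      ∀ i, ((z' i : SubMulAction.ofStabilizer G a) : X) = g • z i.castSucc := by
    intro g z hz
    refine ⟨⟨fun i => ⟨g • z i.castSucc, ?_⟩, ?_⟩, fun i => rfl⟩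
    · rw [SubMulAction.mem_ofStabilizer_iff]
      intro h3
      rw [← hz] at h3
      have := z.injective ((smul_left_cancel_iff g).1 h3)
      exact absurd this (Fin.castSucc_lt_last i).ne
    · intro i j hij
      have h3 : g • z i.castSucc = g • z j.castSucc := congrArg Subtype.val hij
      exact Fin.castSucc_injective _ (z.injective ((smul_left_cancel_iff g).1 h3))
  obtain ⟨x', hx'⟩ := key h1 x hx
  obtain ⟨y', hy'⟩ := key h2 y hy
  obtain ⟨⟨g, hga⟩, hg, hgi⟩ := h x' y'
  have hgH : g ∈ H := hg
  refine ⟨h2⁻¹ * g * h1, mul_mem (mul_mem (inv_mem hh2) hgH) hh1, fun i => ?_⟩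
  refine Fin.lastCases ?_ (fun i => ?_) i
  · rw [mul_smul, mul_smul, hx, mem_stabilizer_iff.1 hga, inv_smul_eq_iff, hy]
  · have h3 : g • ((x' i : SubMulAction.ofStabilizer G a) : X) = (y' i : SubMulAction.ofStabilizer G a) :=
      congrArg Subtype.val (hgi i)
    rw [hx', hy'] at h3
    rw [mul_smul, mul_smul, h3, inv_smul_smul]

theorem kt_of_prim (k : ℕ) (hk : 1 ≤ k) : ∀ {G : Type u} [Group G] {X : Type v} [MulAction G X]
    [Finite X] [FaithfulSMul G X], k + 2 ≤ Nat.card X → IsMultiplyPreprimitive G X k →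
    ∀ (H : Subgroup G) [H.Normal], (∃ a : X, ∃ h ∈ H, h ≠ 1 ∧ h • a = a) → KT (X := X) H k := by
  induction k, hk using Nat.le_induction with
  | base =>
    intro G _ X _ _ _ hX h1 H hHn ⟨a, h, hh, hh1, _⟩
    rw [is_one_preprimitive_iff] at h1
    have ht := Cfsg.Agent.H22.isPretransitive_of_normal_of_primitive h1 H hHn
      (fun hb => hh1 (by rw [hb] at hh; exact Subgroup.mem_bot.1 hh))
    intro x y
    obtain ⟨⟨g, hg⟩, hgx⟩ := ht.exists_smul_eq (x 0) (y 0)
    refine ⟨g, hg, fun i => ?_⟩
    rw [Subsingleton.elim i 0]; exact hgx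
  | succ k hk ih =>
    intro G _ X _ _ _ hX hp H hHn ⟨a, h, hh, hh1, hha⟩
    have hle : ((k + 1 : ℕ) : ℕ∞) ≤ ENat.card X := by
      rw [ENat.card_eq_coe_natCard]; exact_mod_cast (by omega : k + 1 ≤ Nat.card X)
    have h1 : IsPreprimitive G X := by
      rw [← is_one_preprimitive_iff]
      exact isMultiplyPreprimitive_of_le G X hp (by omega) hle
    have hHb : H ≠ ⊥ := fun hb => hh1 (by rw [hb] at hh; exact Subgroup.mem_bot.1 hh)
    have ht := Cfsg.Agent.H22.isPretransitive_of_normal_of_primitive h1 H hHn hHb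
    haveI := h1.toIsPretransitive
    have hp' : IsMultiplyPreprimitive (stabilizer G a) (SubMulAction.ofStabilizer G a) k :=
      isMultiplyPreprimitive_ofStabilizer G X
    haveI hF : FaithfulSMul (stabilizer G a) (SubMulAction.ofStabilizer G a) := by
      constructor
      intro g₁ g₂ hg
      apply Subtype.ext
      apply FaithfulSMul.eq_of_smul_eq_smul (α := X)
      intro x
      by_cases hx : x = a
      · rw [hx, mem_stabilizer_iff.1 g₁.2, mem_stabilizer_iff.1 g₂.2]
      · exact congrArg Subtype.val (hg ⟨x, hx⟩)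
    have hcard : k + 2 ≤ Nat.card (SubMulAction.ofStabilizer G a) := by
      have := SubMulAction.nat_card_ofStabilizer_add_one_eq G a
      omega
    by_cases hA : ∃ b : SubMulAction.ofStabilizer G a, ∃ h' ∈ H.subgroupOf (stabilizer G a),
        h' ≠ 1 ∧ h' • b = b
    · exact kt_succ ht a (ih hcard hp' (H.subgroupOf (stabilizer G a)) hA)
    · push Not at hA
      have hprim' : IsPreprimitive (stabilizer G a) (SubMulAction.ofStabilizer G a) := by
        rw [← is_one_preprimitive_iff]
        refine isMultiplyPreprimitive_of_le _ _ hp' hk ?_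
        rw [ENat.card_eq_coe_natCard]; exact_mod_cast (by omega)
      have ht' := Cfsg.Agent.H22.isPretransitive_of_normal_of_primitive hprim'
        (H.subgroupOf (stabilizer G a)) inferInstance (fun hb => by
          have h3 : (⟨h, mem_stabilizer_iff.2 hha⟩ : stabilizer G a) ∈ H.subgroupOf (stabilizer G a) := hh
          rw [hb, Subgroup.mem_bot] at h3
          exact hh1 (congrArg Subtype.val h3))
      have hkt2 : KT (X := X) H 2 := by
        apply kt_succ ht a
        intro x y
        obtain ⟨⟨g, hg⟩, hgx⟩ := ht'.exists_smul_eq (x 0) (y 0)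
        refine ⟨g, hg, fun i => ?_⟩
        rw [Subsingleton.elim i 0]; exact hgx
      rcases Nat.lt_or_ge k 2 with hk2 | hk2
      · obtain rfl : k = 1 := by omega
        exact hkt2
      exfalso
      have hsh : Sharp2 H X := by
        refine ⟨kt_iff.1 hkt2, ?_⟩
        rintro ⟨g, hg⟩ b c hbc hgb hgc
        have hgb : g • b = b := hgb
        have hgc : g • c = c := hgc
        obtain ⟨⟨m, hm⟩, hmb⟩ := ht.exists_smul_eq b a
        have hmb : m • b = a := hmb
        have h3 : m * g * m⁻¹ ∈ stabilizer G a := by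
          rw [mem_stabilizer_iff, ← hmb, mul_smul, mul_smul, inv_smul_smul, hgb]
        have h4 : m • c ∈ SubMulAction.ofStabilizer G a := by
          rw [SubMulAction.mem_ofStabilizer_iff, ← hmb]
          intro h5
          exact hbc ((smul_left_cancel_iff m).1 h5).symm
        by_contra hg1
        apply hA ⟨m • c, h4⟩ ⟨m * g * m⁻¹, h3⟩ (mul_mem (mul_mem hm hg) (inv_mem hm))
        · intro h5
          apply hg1
          have h6 : m * g * m⁻¹ = 1 := congrArg Subtype.val h5
          apply Subtype.ext
          show g = 1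
          rw [mul_inv_eq_one] at h6
          exact mul_eq_left.1 h6
        · apply Subtype.ext
          show (m * g * m⁻¹) • m • c = m • c
          rw [mul_smul, mul_smul, inv_smul_smul, hgc]
      haveI : Finite G := Finite.of_injective _ (MulAction.toPerm_injective (α := G) (β := X))
      obtain ⟨p, j, hpp, hj, hcX, N, hNn, hNc, hNcomm, hNp, hNmem, hNt⟩ := hsh.structure (by omega)
      haveI hMn : (N.map H.subtype).Normal := by
        constructor
        rintro _ ⟨⟨n, hn⟩, hnN, rfl⟩ g
        have hgn : g * n * g⁻¹ ∈ H := hHn.conj_mem n hn g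
        refine ⟨⟨g * n * g⁻¹, hgn⟩, ?_, rfl⟩
        rw [SetLike.mem_coe, hNmem]
        rcases (hNmem ⟨n, hn⟩).1 hnN with h5 | h5
        · left
          have h6 : n = 1 := congrArg Subtype.val h5
          apply Subtype.ext
          show g * n * g⁻¹ = 1
          rw [h6]; group
        · right
          intro b hb
          have hb' : (g * n * g⁻¹) • b = b := hb
          apply h5 (g⁻¹ • b)
          show n • g⁻¹ • b = g⁻¹ • b
          rw [mul_smul, mul_smul] at hb'
          rw [eq_inv_smul_iff]; exact hb'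
      have h3p : IsMultiplyPreprimitive G X 3 := isMultiplyPreprimitive_of_le G X hp (by omega) hle
      have hMt : IsPretransitive (N.map H.subtype) X := by
        refine ⟨fun b c => ?_⟩
        obtain ⟨n, hn, hnb⟩ := hNt b c
        exact ⟨⟨n, ⟨n, hn, rfl⟩⟩, hnb⟩
      have hMr : ∀ x : X, stabilizer (N.map H.subtype) x = ⊥ := by
        intro x
        rw [eq_bot_iff]
        rintro ⟨_, ⟨n, hn, rfl⟩⟩ hnx
        rw [Subgroup.mem_bot]
        apply Subtype.ext
        have hnx' : n • x = x := hnx
        rcases (hNmem n).1 hn with h5 | h5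
        · show (n : G) = 1
          rw [h5]; rfl
        · exact absurd hnx' (h5 x)
      have := three_prim_reg h3p (by omega) hMt hMr
      omega

end Cfsg.Agent.H10
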