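import Mathlib
import Cfsg.Agent.H10.Perm9

set_option autoImplicit false
set_option linter.all false

/-!
# H10.Perm11: generously transitive groups
-/

namespace Cfsg.Agent.H10

open MulAction
open scoped Pointwise

section
variable {α : Type*} [Finite α] [DecidableEq α]

def Gen (G : Subgroup (Equiv.Perm α)) (k : ℕ) : Prop :=
  ∀ s : Finset α, s.card = k + 1 → ∀ σ : Equiv.Perm ↥s, ∃ g ∈ G, ∀ x : ↥s, g (x : α) = σ x

theorem Gen.step {G : Subgroup (Equiv.Perm α)} {k : ℕ} (h : Gen G k) {s : Finset α} (hs : s.card = k + 1)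
    (x y : Fin k ↪ α) (hx : ∀ i, x i ∈ s) (hy : ∀ i, y i ∈ s) : ∃ g ∈ G, ∀ i, g (x i) = y i := by
  let x' : Fin k ↪ ↥s := ⟨fun i => ⟨x i, hx i⟩, fun i j hij => x.injective (congrArg Subtype.val hij)⟩
  let y' : Fin k ↪ ↥s := ⟨fun i => ⟨y i, hy i⟩, fun i j hij => y.injective (congrArg Subtype.val hij)⟩
  obtain ⟨σ, hσ⟩ := (Equiv.Perm.isMultiplyPretransitive ↥s k).exists_smul_eq x' y'
  obtain ⟨g, hg, hgx⟩ := h s hs σ
  refine ⟨g, hg, fun i => ?_⟩
  have h1 := hgx (x' i)
  have h2 : σ (x' i) = y' i := by rw [← hσ]; rfl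
  rw [h2] at h1
  exact h1

theorem Gen.trans {G : Subgroup (Equiv.Perm α)} {k : ℕ} (hk : k < Nat.card α) (h : Gen G k) :
    ∀ (d : ℕ) (x y : Fin k ↪ α), (Finset.univ.filter (fun i => x i ≠ y i)).card = d →
      ∃ g ∈ G, ∀ i, g (x i) = y i := by
  haveI := Fintype.ofFinite α
  intro d
  induction d using Nat.strong_induction_on with
  | _ d ih =>
    intro x y hd
    by_cases hxy : x = y
    · exact ⟨1, one_mem _, fun i => by rw [hxy]; rfl⟩
    have : ∃ i, x i ≠ y i := by
      by_contra hcon
      push Not at hcon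
      exact hxy (by ext i; exact hcon i)
    obtain ⟨i, hi⟩ := this
    -- intermediate tuple
    have hcards : ∀ t : Finset α, t.card = k → ∃ a, a ∉ t := by
      intro t ht
      by_contra hcon
      push Not at hcon
      have : t = Finset.univ := by ext a; simp [hcon a]
      rw [this, Finset.card_univ, ← Nat.card_eq_fintype_card] at ht
      omega
    have hxr : (Finset.univ.image x).card = k := by
      rw [Finset.card_image_of_injective _ x.injective]; simp
    have key : ∃ z : Fin k ↪ α, z i = y i ∧ (∀ j, x j = y j → z j = y j) ∧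
        ∃ s : Finset α, s.card = k + 1 ∧ (∀ j, x j ∈ s) ∧ ∀ j, z j ∈ s := by
      by_cases hyi : ∃ j, x j = y i
      · obtain ⟨j, hj⟩ := hyi
        obtain ⟨a, ha⟩ := hcards _ hxr
        refine ⟨(Equiv.swap i j).toEmbedding.trans x, ?_, ?_, insert a (Finset.univ.image x), ?_, ?_, ?_⟩
        · simp [hj]
        · intro l hl
          have hli : l ≠ i := by rintro rfl; exact hi hl
          have hlj : l ≠ j := by
            rintro rfl
            rw [hj] at hl
            exact hli (y.injective hl).symm
          show x (Equiv.swap i j l) = y l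
          rw [Equiv.swap_apply_of_ne_of_ne hli hlj, hl]
        · rw [Finset.card_insert_of_notMem ha, hxr]
        · intro j; simp
        · intro l; simp
      · push Not at hyi
        have ha : y i ∉ Finset.univ.image x := by simpa using hyi
        refine ⟨⟨Function.update x i (y i), ?_⟩, ?_, ?_, insert (y i) (Finset.univ.image x), ?_, ?_, ?_⟩
        · intro l m hlm
          by_cases hl : l = i <;> by_cases hm : m = i
          · rw [hl, hm]
          · subst hl
            rw [Function.update_self, Function.update_of_ne hm] at hlm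
            exact absurd hlm.symm (hyi m)
          · subst hm
            rw [Function.update_self, Function.update_of_ne hl] at hlm
            exact absurd hlm (hyi l)
          · rw [Function.update_of_ne hl, Function.update_of_ne hm] at hlm
            exact x.injective hlm
        · show Function.update x i (y i) i = y i
          exact Function.update_self _ _ _
        · intro l hl
          have hli : l ≠ i := by rintro rfl; exact hi hl
          show Function.update x i (y i) l = y l
          rw [Function.update_of_ne hli, hl]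
        · rw [Finset.card_insert_of_notMem ha, hxr]
        · intro j; simp
        · intro l
          show Function.update x i (y i) l ∈ _
          by_cases hl : l = i
          · rw [hl, Function.update_self]; simp
          · rw [Function.update_of_ne hl]; simp
    obtain ⟨z, hzi, hzx, s, hs, hxs, hzs⟩ := key
    obtain ⟨g, hg, hgx⟩ := h.step hs x z hxs hzs
    have hlt : (Finset.univ.filter (fun j => z j ≠ y j)).card < d := by
      rw [← hd]
      apply Finset.card_lt_card
      rw [Finset.ssubset_iff_of_subset]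
      · refine ⟨i, by simp [hi], by simp [hzi]⟩
      · intro j
        simp only [Finset.mem_filter, Finset.mem_univ, true_and]
        intro h1 h2
        exact h1 (hzx j h2)
    obtain ⟨g', hg', hgz⟩ := ih _ hlt z y rfl
    refine ⟨g' * g, mul_mem hg' hg, fun j => ?_⟩
    show g' (g (x j)) = y j
    rw [hgx, hgz]

theorem Gen.isMult {G : Subgroup (Equiv.Perm α)} {k : ℕ} (hk : k < Nat.card α) (h : Gen G k) :
    IsMultiplyPretransitive G α k := by
  refine ⟨fun x y => ?_⟩
  obtain ⟨g, hg, hgx⟩ := h.trans hk _ x y rfl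
  exact ⟨⟨g, hg⟩, by ext i; exact hgx i⟩

theorem Gen.orb {G : Subgroup (Equiv.Perm α)} {k : ℕ} (h : Gen G k) {s : Finset α} (hs : s.card = k)
    {a b : α} (ha : a ∉ s) {g : Equiv.Perm α} (hg : g ∈ G) (hgs : ∀ x, x ∈ s ↔ g x ∈ s) (hga : g a = b) :
    ∃ g ∈ G, (∀ x ∈ s, g x = x) ∧ g a = b := by
  have hginv : ∀ x, x ∈ s ↔ g⁻¹ x ∈ s := by
    intro x
    rw [hgs (g⁻¹ x)]; simp
  let τ : Equiv.Perm α := (Equiv.Perm.subtypeCongr (p := fun x => x ∈ s)
    ((g⁻¹ : Equiv.Perm α).subtypePerm (p := fun x => x ∈ s) (fun x => (hginv x).symm)) 1)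
  have hτ1 : ∀ x ∈ s, τ x = g⁻¹ x := by
    intro x hx
    simp [τ, Equiv.Perm.subtypeCongr.left_apply, hx]
  have hτ2 : ∀ x, x ∉ s → τ x = x := by
    intro x hx
    simp [τ, Equiv.Perm.subtypeCongr.right_apply, hx]
  have hτs : ∀ x, x ∈ insert a s ↔ τ x ∈ insert a s := by
    intro x
    by_cases hx : x ∈ s
    · rw [hτ1 x hx]
      exact ⟨fun _ => Finset.mem_insert_of_mem ((hginv x).1 hx), fun _ => Finset.mem_insert_of_mem hx⟩
    · rw [hτ2 x hx]
  obtain ⟨k', hk', hkx⟩ := h (insert a s) (by rw [Finset.card_insert_of_notMem ha, hs])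
    (τ.subtypePerm (fun x => (hτs x).symm))
  refine ⟨g * k', mul_mem hg hk', fun x hx => ?_, ?_⟩
  · have h1 : k' x = τ x := hkx ⟨x, Finset.mem_insert_of_mem hx⟩
    show g (k' x) = x
    rw [h1, hτ1 x hx]; simp
  · have h1 : k' a = τ a := hkx ⟨a, Finset.mem_insert_self a s⟩
    show g (k' a) = b
    rw [h1, hτ2 a ha, hga]

end

end Cfsg.Agent.H10
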