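import Mathlib
import Cfsg.Agent.H10.Perm11

set_option autoImplicit false
set_option linter.all false

/-!
# H10.Perm12: generously transitive groups, orbits of length prime to p
-/

namespace Cfsg.Agent.H10

open MulAction
open scoped Pointwise

theorem exists_enum {α : Type*} {k : ℕ} (s : Finset α) (hs : s.card = k) :
    ∃ x : Fin k ↪ α, Set.range x = (s : Set α) := by
  classical
  let e := (s.equivFinOfCardEq hs).symm
  refine ⟨e.toEmbedding.trans ⟨Subtype.val, Subtype.val_injective⟩, ?_⟩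
  ext a
  constructor
  · rintro ⟨i, rfl⟩
    exact (e i).2
  · intro ha
    refine ⟨e.symm ⟨a, ha⟩, ?_⟩
    show ((e (e.symm ⟨a, ha⟩) : s) : α) = a
    rw [Equiv.apply_symm_apply]

/-- in a k-transitive group pointwise stabilizers of k-sets are conjugate -/
theorem exists_smul_finset {G : Type*} [Group G] {α : Type*} [MulAction G α] {k : ℕ}
    (h : IsMultiplyPretransitive G α k) {s t : Finset α} (hs : s.card = k) (ht : t.card = k) :
    ∃ g : G, g • (s : Set α) = (t : Set α) := by
  obtain ⟨x, hx⟩ := exists_enum s hs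
  obtain ⟨y, hy⟩ := exists_enum t ht
  obtain ⟨g, hg⟩ := h.exists_smul_eq x y
  refine ⟨g, ?_⟩
  rw [← hx, ← hy, ← hg]
  ext a
  constructor
  · rintro ⟨_, ⟨i, rfl⟩, rfl⟩
    exact ⟨i, rfl⟩
  · rintro ⟨i, rfl⟩
    exact ⟨x i, ⟨i, rfl⟩, rfl⟩

theorem card_fixing_eq {G : Type*} [Group G] {α : Type*} [MulAction G α] {k : ℕ}
    (h : IsMultiplyPretransitive G α k) {s t : Finset α} (hs : s.card = k) (ht : t.card = k) :
    Nat.card (fixingSubgroup G (s : Set α)) = Nat.card (fixingSubgroup G (t : Set α)) := by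
  obtain ⟨g, hg⟩ := exists_smul_finset h hs ht
  exact Nat.card_congr (SubMulAction.fixingSubgroupEquivFixingSubgroup hg).toEquiv

section
variable {α : Type*} [Finite α] [DecidableEq α]

theorem exists_perm_order {p : ℕ} (hp : p.Prime) {s : Finset α} (hs : p ≤ s.card) :
    ∃ (σ : Equiv.Perm α) (u : Finset α), u ⊆ s ∧ u.card = p ∧ orderOf σ = p ∧ ∀ x, x ∉ u → σ x = x := by
  obtain ⟨u, hus, hu⟩ := Finset.exists_subset_card_eq hs
  obtain ⟨q, rfl⟩ : ∃ q, p = q + 2 := ⟨p - 2, by have := hp.two_le; omega⟩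
  let e := u.equivFinOfCardEq hu
  let σ' : Equiv.Perm u := e.symm.permCongr (finRotate (q + 2))
  refine ⟨Equiv.Perm.ofSubtype σ', u, hus, hu, ?_, ?_⟩
  · have h1 : orderOf (Equiv.Perm.ofSubtype σ') = orderOf σ' :=
      orderOf_injective _ (Equiv.Perm.ofSubtype_injective) σ'
    rw [h1]
    have h2 : orderOf σ' = orderOf (finRotate (q + 2)) := by
      have : σ' = e.symm.permCongrHom (finRotate (q + 2)) := rfl
      rw [this]
      exact orderOf_injective e.symm.permCongrHom.toMonoidHom (e.symm.permCongrHom.injective) _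
    rw [h2, (isCycle_finRotate).orderOf, support_finRotate]
    simp
  · intro x hx
    exact Equiv.Perm.ofSubtype_apply_of_not_mem σ' hx

end

end Cfsg.Agent.H10
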