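import Mathlib
import Cfsg.Agent.H10.Perm12

set_option autoImplicit false
set_option linter.all false

/-!
# H10.Perm13: Gleason's lemma and constant stabilizer orders
-/

namespace Cfsg.Agent.H10

open MulAction
open scoped Pointwise

universe u v

/-- if the point stabilizers are all transitive on the rest then the group is transitive -/
theorem trans_of_stab {G : Type u} [Group G] {X : Type v} [MulAction G X] [Finite X] (h3 : 3 ≤ Nat.card X)
    (h : ∀ a : X, IsPretransitive (stabilizer G a) (SubMulAction.ofStabilizer G a)) : IsPretransitive G X := by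
  haveI := Fintype.ofFinite X
  classical
  refine ⟨fun b c => ?_⟩
  obtain ⟨a, ha⟩ : ∃ a, a ∉ ({b, c} : Finset X) := by
    by_contra hcon
    push Not at hcon
    have : (Finset.univ : Finset X) ⊆ {b, c} := fun x _ => hcon x
    have h1 := Finset.card_le_card this
    rw [Finset.card_univ, ← Nat.card_eq_fintype_card] at h1
    have h2 := Finset.card_le_two (a := b) (b := c)
    omega
  simp only [Finset.mem_insert, Finset.mem_singleton, not_or] at ha
  obtain ⟨g, hg⟩ := (h a).exists_smul_eq ⟨b, fun h => ha.1 h.symm⟩ ⟨c, fun h => ha.2 h.symm⟩
  exact ⟨g, congrArg Subtype.val hg⟩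

theorem gleason {p : ℕ} [Fact p.Prime] (k : ℕ) (hk : 1 ≤ k) : ∀ {G : Type u} [Group G] {X : Type v} [MulAction G X]
    [Finite X], k < Nat.card X → (∀ s : Finset X, s.card = k → ∃ P : Subgroup G, IsPGroup p P ∧
      fixedPoints P X = (s : Set X)) → IsMultiplyPretransitive G X k := by
  induction k, hk using Nat.le_induction with
  | base =>
    intro G _ X _ _ hX h
    rw [is_one_pretransitive_iff]
    refine ⟨fun a b => ?_⟩
    by_contra hcon
    have hb : b ∉ orbit G a := by
      rintro ⟨g, hg⟩; exact hcon ⟨g, hg⟩
    obtain ⟨P, hP, hPa⟩ := h {a} (Finset.card_singleton a)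
    obtain ⟨Q, hQ, hQb⟩ := h {b} (Finset.card_singleton b)
    have h1 := hP.card_modEq_card_fixedPoints (orbit G a)
    have h2 := hQ.card_modEq_card_fixedPoints (orbit G a)
    have h3 : Nat.card (fixedPoints P (orbit G a)) = 1 := by
      rw [Nat.card_eq_one_iff_unique]
      constructor
      · constructor
        rintro ⟨⟨x, hx⟩, hx'⟩ ⟨⟨y, hy⟩, hy'⟩
        have key : ∀ z : orbit G a, z ∈ fixedPoints P (orbit G a) → (z : X) = a := by
          intro z hz
          have : (z : X) ∈ fixedPoints P X := fun g => congrArg Subtype.val (hz g)
          rw [hPa] at this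
          simpa using this
        apply Subtype.ext; apply Subtype.ext
        rw [key _ hx', key _ hy']
      · refine ⟨⟨⟨a, mem_orbit_self a⟩, fun g => ?_⟩⟩
        apply Subtype.ext
        have : a ∈ fixedPoints P X := by rw [hPa]; simp
        exact this g
    have h4 : Nat.card (fixedPoints Q (orbit G a)) = 0 := by
      rw [Nat.card_eq_zero]
      left
      constructor
      rintro ⟨z, hz⟩
      have : (z : X) ∈ fixedPoints Q X := fun g => congrArg Subtype.val (hz g)
      rw [hQb] at this
      have h5 : (z : X) = b := by simpa using this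
      exact hb (h5 ▸ z.2)
    rw [h3] at h1
    rw [h4] at h2
    have h5 : 1 ≡ 0 [MOD p] := h1.symm.trans h2
    rw [Nat.modEq_zero_iff_dvd] at h5
    exact (Fact.out : p.Prime).one_lt.ne' (Nat.dvd_one.1 h5)
  | succ k hk ih =>
    intro G _ X _ _ hX h
    classical
    have hst : ∀ a : X, IsMultiplyPretransitive (stabilizer G a) (SubMulAction.ofStabilizer G a) k := by
      intro a
      have hc := SubMulAction.nat_card_ofStabilizer_add_one_eq G a
      apply ih (by omega)
      intro s hs
      have hmap : (s.map (Function.Embedding.subtype _)).card = k := by rw [Finset.card_map, hs]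
      have hna : a ∉ s.map (Function.Embedding.subtype _) := by
        intro h1
        rw [Finset.mem_map] at h1
        obtain ⟨⟨x, hx⟩, _, hxa⟩ := h1
        exact hx hxa
      obtain ⟨P, hP, hPs⟩ := h (insert a (s.map (Function.Embedding.subtype _))) (by
        rw [Finset.card_insert_of_notMem hna, hmap])
      have hPa : P ≤ stabilizer G a := by
        intro g hg
        have : a ∈ fixedPoints P X := by rw [hPs]; simp
        exact this ⟨g, hg⟩
      refine ⟨P.subgroupOf (stabilizer G a), hP.comap_subtype, ?_⟩
      ext x
      constructor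
      · intro hx
        have h1 : (x : X) ∈ fixedPoints P X := by
          rintro ⟨g, hg⟩
          exact congrArg Subtype.val (hx ⟨⟨g, hPa hg⟩, hg⟩)
        rw [hPs] at h1
        have h2 : (x : X) ≠ a := x.2
        simp only [Finset.coe_insert, Set.mem_insert_iff, h2, false_or, Finset.mem_coe, Finset.mem_map] at h1
        obtain ⟨y, hy, hyx⟩ := h1
        have : y = x := Subtype.ext hyx
        rw [← this]; exact hy
      · intro hx
        rintro ⟨⟨g, hga⟩, hg⟩
        apply Subtype.ext
        have h1 : (x : X) ∈ fixedPoints P X := by
          rw [hPs]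
          simp only [Finset.coe_insert, Set.mem_insert_iff, Finset.mem_coe, Finset.mem_map]
          right
          exact ⟨x, hx, rfl⟩
        exact h1 ⟨g, hg⟩
    have htr : IsPretransitive G X := trans_of_stab (by omega) (fun a => by
      haveI := hst a
      rw [← is_one_pretransitive_iff]
      refine isMultiplyPretransitive_of_le (n := k) hk ?_
      have := SubMulAction.nat_card_ofStabilizer_add_one_eq G a
      omega)
    obtain ⟨a⟩ : Nonempty X := by
      rw [← not_isEmpty_iff]; intro h; rw [Nat.card_of_isEmpty] at hX; omega
    exact SubMulAction.ofStabilizer.isMultiplyPretransitive.2 (hst a)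

/-- size of invariant sets all of whose orbits have size `d` -/
theorem dvd_of_orbits {H : Type*} [Group H] {X : Type*} [MulAction H X] [Finite X] {d : ℕ}
    (hd : ∀ x : X, Nat.card (orbit H x) = d) : d ∣ Nat.card X := by
  haveI := Fintype.ofFinite X
  classical
  haveI : Finite (orbitRel.Quotient H X) := Quotient.finite _
  haveI := Fintype.ofFinite (orbitRel.Quotient H X)
  rw [Nat.card_congr (selfEquivSigmaOrbits H X), Nat.card_sigma]
  apply Finset.dvd_sum
  intro ω _
  rw [hd]

theorem dvd_card_of_orbits {H : Type*} [Group H] {X : Type*} [MulAction H X] [Finite X] {d : ℕ}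
    (S : Set X) (hS : ∀ h : H, ∀ x ∈ S, h • x ∈ S) (hd : ∀ x ∈ S, Nat.card (orbit H x) = d) :
    d ∣ Nat.card S := by
  let U : SubMulAction H X := ⟨S, fun h {x} hx => hS h x hx⟩
  have h1 : ∀ x : U, Nat.card (orbit H x) = d := by
    intro x
    rw [← hd x x.2, ← SubMulAction.val_image_orbit x]
    exact (Nat.card_image_of_injective Subtype.val_injective _).symm
  exact dvd_of_orbits (X := U) h1

theorem card_orb_mul {H : Type*} [Group H] {X : Type*} [MulAction H X] (x : X) :
    Nat.card (orbit H x) * Nat.card (stabilizer H x) = Nat.card H := by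
  rw [← (stabilizer H x).index_mul_card, index_stabilizer, Nat.card_coe_set_eq]

theorem const_stab (k : ℕ) (hk : 1 ≤ k) : ∀ {G : Type u} [Group G] {X : Type v} [MulAction G X]
    [Finite X] [FaithfulSMul G X], k + 1 ≤ Nat.card X → ∀ l m : ℕ, 1 < l →
    (∀ s : Finset X, s.card = k → Nat.card (fixingSubgroup G (s : Set X)) = l) →
    (∀ s : Finset X, s.card = k + 1 → Nat.card (fixingSubgroup G (s : Set X)) = m) →
    IsMultiplyPretransitive G X k := by
  induction k, hk using Nat.le_induction with
  | base =>
    intro G _ X _ _ _ hX l m hl h1 h2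
    classical
    haveI : Finite G := Finite.of_injective _ (MulAction.toPerm_injective (α := G) (β := X))
    rw [is_one_pretransitive_iff]
    refine ⟨fun a b => ?_⟩
    by_contra hcon
    have hb : b ∉ orbit G a := by
      rintro ⟨g, hg⟩; exact hcon ⟨g, hg⟩
    have hst : ∀ c : X, Nat.card (stabilizer G c) = l := by
      intro c
      rw [← h1 {c} (Finset.card_singleton c)]
      apply Nat.card_congr
      refine Equiv.subtypeEquivRight (fun g => ?_)
      rw [mem_fixingSubgroup_iff, mem_stabilizer_iff]
      simp
    have hm : ∀ c : X, c ≠ a → Nat.card (orbit (stabilizer G a) c) * m = l := by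
      intro c hc
      have e0 := card_orb_mul (H := stabilizer G a) c
      rw [hst a] at e0
      rw [← e0, ← h2 {a, c} (Finset.card_pair hc.symm)]
      congr 1
      symm
      refine Nat.card_congr ⟨fun g => ⟨((g : stabilizer G a) : G), ?_⟩, fun g => ⟨⟨(g : G), ?_⟩, ?_⟩, fun g => rfl, fun g => rfl⟩
      rotate_left
      · exact (mem_fixingSubgroup_iff G).1 g.2 a (by simp)
      · exact (mem_fixingSubgroup_iff G).1 g.2 c (by simp)
      · rw [mem_fixingSubgroup_iff]
        intro y hy
        simp only [Finset.coe_insert, Finset.coe_singleton, Set.mem_insert_iff, Set.mem_singleton_iff] at hy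
        rcases hy with rfl | rfl
        · exact (g : stabilizer G y).2
        · exact g.2
    have hm0 : m ≠ 0 := by
      rintro rfl
      have := hm b (fun h => hb (by rw [h]; exact mem_orbit_self a))
      omega
    have hd : ∀ c : X, c ≠ a → Nat.card (orbit (stabilizer G a) c) = l / m := by
      intro c hc
      rw [← hm c hc, Nat.mul_div_cancel _ (Nat.pos_of_ne_zero hm0)]
    have hd1 : l / m ≠ 1 := by
      intro h
      -- the stabilizer is trivial
      have h3 : stabilizer G a = ⊥ := by
        rw [eq_bot_iff]
        intro g hg
        rw [Subgroup.mem_bot]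
        apply FaithfulSMul.eq_of_smul_eq_smul (α := X)
        intro c
        rw [one_smul]
        by_cases hc : c = a
        · rw [hc]; exact hg
        · have h4 := hd c hc
          rw [h, Nat.card_eq_one_iff_unique] at h4
          haveI := h4.1
          exact congrArg Subtype.val (Subsingleton.elim
            (⟨g • c, ⟨⟨g, hg⟩, rfl⟩⟩ : orbit (stabilizer G a) c) ⟨c, mem_orbit_self c⟩)
      have h4 := hst a
      rw [h3, Subgroup.card_bot] at h4
      omega
    have hO1 : l / m ∣ Nat.card ((orbit G a) \ {a} : Set X) := by
      apply dvd_card_of_orbits (H := stabilizer G a)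
      · rintro g x ⟨hx, hxa⟩
        refine ⟨?_, ?_⟩
        · exact mem_orbit_of_mem_orbit (g : G) hx
        · intro h
          apply hxa
          have h5 : (g : G) • x = a := h
          have h6 : (g : G) • a = a := g.2
          exact (smul_left_cancel_iff (g : G)).1 (h5.trans h6.symm)
      · rintro x ⟨hx, hxa⟩
        exact hd x hxa
    have hO2 : l / m ∣ Nat.card (orbit G b) := by
      apply dvd_card_of_orbits (H := stabilizer G a)
      · intro g x hx
        exact mem_orbit_of_mem_orbit (g : G) hx
      · intro x hx
        apply hd
        rintro rfl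
        apply hb
        rw [← orbit_eq_iff] at hx
        rw [hx]; exact mem_orbit_self b
    have hOO : Nat.card (orbit G a) = Nat.card (orbit G b) := by
      have e1 := card_orb_mul (H := G) a
      have e2 := card_orb_mul (H := G) b
      rw [hst] at e1 e2
      rw [← e2] at e1
      exact Nat.eq_of_mul_eq_mul_right (by omega) e1
    have hO3 : Nat.card ((orbit G a) \ {a} : Set X) + 1 = Nat.card (orbit G a) := by
      rw [Nat.card_coe_set_eq, Nat.card_coe_set_eq]
      exact Set.ncard_diff_singleton_add_one (mem_orbit_self a) (Set.toFinite _)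
    rw [← hOO, ← hO3] at hO2
    have := (Nat.dvd_add_right hO1).1 hO2
    exact hd1 (Nat.dvd_one.1 this)
  | succ k hk ih =>
    intro G _ X _ _ _ hX l m hl h1 h2
    classical
    have hst : ∀ a : X, IsMultiplyPretransitive (stabilizer G a) (SubMulAction.ofStabilizer G a) k := by
      intro a
      haveI hF : FaithfulSMul (stabilizer G a) (SubMulAction.ofStabilizer G a) := by
        constructor
        intro g₁ g₂ hg
        apply Subtype.ext
        apply FaithfulSMul.eq_of_smul_eq_smul (α := X)
        intro x
        by_cases hx : x = a
        · rw [hx, mem_stabilizer_iff.1 g₁.2, mem_stabilizer_iff.1 g₂.2]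
        · exact congrArg Subtype.val (hg ⟨x, hx⟩)
      have hc := SubMulAction.nat_card_ofStabilizer_add_one_eq G a
      have key : ∀ s : Finset (SubMulAction.ofStabilizer G a), ∃ t : Finset X, t.card = s.card + 1 ∧
          Nat.card (fixingSubgroup (stabilizer G a) (s : Set (SubMulAction.ofStabilizer G a))) =
            Nat.card (fixingSubgroup G (t : Set X)) := by
        intro s
        have hna : a ∉ s.map (Function.Embedding.subtype _) := by
          intro h1
          rw [Finset.mem_map] at h1
          obtain ⟨⟨x, hx⟩, _, hxa⟩ := h1
          exact hx hxa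
        refine ⟨insert a (s.map (Function.Embedding.subtype _)), ?_, ?_⟩
        · rw [Finset.card_insert_of_notMem hna, Finset.card_map]
        · rw [Nat.card_congr (SubMulAction.fixingSubgroupInsertEquiv a (s : Set (SubMulAction.ofStabilizer G a))).symm.toEquiv]
          congr 2
          ext g
          simp
      apply ih (by omega) l m hl
      · intro s hs
        obtain ⟨t, ht, hst⟩ := key s
        rw [hst]; exact h1 t (by omega)
      · intro s hs
        obtain ⟨t, ht, hst⟩ := key s
        rw [hst]; exact h2 t (by omega)
    have htr : IsPretransitive G X := trans_of_stab (by omega) (fun a => by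
      haveI := hst a
      rw [← is_one_pretransitive_iff]
      refine isMultiplyPretransitive_of_le (n := k) hk ?_
      have := SubMulAction.nat_card_ofStabilizer_add_one_eq G a
      omega)
    obtain ⟨a⟩ : Nonempty X := by
      rw [← not_isEmpty_iff]; intro h; rw [Nat.card_of_isEmpty] at hX; omega
    exact SubMulAction.ofStabilizer.isMultiplyPretransitive.2 (hst a)

end Cfsg.Agent.H10
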