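import Mathlib
import Cfsg.Agent.H10.Perm13

set_option autoImplicit false
set_option linter.all false

/-!
# H10.Perm14: homogeneous groups
-/

namespace Cfsg.Agent.H10

open MulAction
open scoped Pointwise

section
variable {α : Type*} [DecidableEq α]

/-- elementwise `k`-homogeneity -/
def HomE (G : Subgroup (Equiv.Perm α)) (k : ℕ) : Prop :=
  ∀ s t : Finset α, s.card = k → t.card = k → ∃ g ∈ G, s.map (g : Equiv.Perm α).toEmbedding = t

theorem homE_iff {G : Subgroup (Equiv.Perm α)} {k : ℕ} :
    IsPretransitive G (Set.powersetCard α k) ↔ HomE G k := by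
  have key : ∀ (g : G) (s : Set.powersetCard α k), ((g • s : Set.powersetCard α k) : Finset α) =
      (s : Finset α).map (g : Equiv.Perm α).toEmbedding := by
    intro g s
    have h1 := Set.powersetCard.coe_smul (n := k) (g := g) (s := s)
    refine h1.trans ?_
    rw [Finset.map_eq_image]
    rfl
  constructor
  · intro h s t hs ht
    obtain ⟨g, hg⟩ := h.exists_smul_eq ⟨s, Set.powersetCard.mem_iff.2 hs⟩ ⟨t, Set.powersetCard.mem_iff.2 ht⟩
    refine ⟨g, g.2, ?_⟩
    have := congrArg (fun x : Set.powersetCard α k => (x : Finset α)) hg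
    simp only [key] at this
    exact this
  · intro h
    refine ⟨fun s t => ?_⟩
    obtain ⟨g, hg, hgs⟩ := h s t (Set.powersetCard.mem_iff.1 s.2) (Set.powersetCard.mem_iff.1 t.2)
    refine ⟨⟨g, hg⟩, ?_⟩
    apply Subtype.ext
    rw [key]
    exact hgs

theorem above_card (S T : Finset α) (hT : T ⊆ S) :
    ((S.powersetCard (T.card + 1)).filter (fun U => T ⊆ U)).card = S.card - T.card := by
  rw [← Finset.card_sdiff_of_subset hT]
  symm
  apply Finset.card_bij (fun x _ => insert x T)
  · intro x hx
    rw [Finset.mem_sdiff] at hx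
    rw [Finset.mem_filter, Finset.mem_powersetCard]
    refine ⟨⟨Finset.insert_subset hx.1 hT, Finset.card_insert_of_notMem hx.2⟩, Finset.subset_insert _ _⟩
  · intro x hx y hy hxy
    rw [Finset.mem_sdiff] at hx hy
    have : x ∈ insert y T := by rw [← hxy]; exact Finset.mem_insert_self _ _
    rcases Finset.mem_insert.1 this with h | h
    · exact h
    · exact absurd h hx.2
  · intro U hU
    rw [Finset.mem_filter, Finset.mem_powersetCard] at hU
    obtain ⟨⟨hUS, hUc⟩, hTU⟩ := hU
    have h1 : (U \ T).card = 1 := by
      rw [Finset.card_sdiff_of_subset hTU, hUc]; omega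
    obtain ⟨x, hx⟩ := Finset.card_eq_one.1 h1
    have hx1 : x ∈ U \ T := by rw [hx]; exact Finset.mem_singleton_self x
    rw [Finset.mem_sdiff] at hx1
    refine ⟨x, Finset.mem_sdiff.2 ⟨hUS hx1.1, hx1.2⟩, ?_⟩
    apply Finset.eq_of_subset_of_card_le
    · exact Finset.insert_subset hx1.1 hTU
    · rw [hUc, Finset.card_insert_of_notMem hx1.2]

/-- the number of members of a `G`-invariant family contained in a set is invariant -/
theorem card_filter_map (g : Equiv.Perm α) (O : Finset α → Prop) [DecidablePred O]
    (hO : ∀ T : Finset α, O (T.map g.toEmbedding) ↔ O T) (U : Finset α) (j : ℕ) :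
    (((U.map g.toEmbedding).powersetCard j).filter O).card = ((U.powersetCard j).filter O).card := by
  rw [Finset.powersetCard_map, Finset.filter_map, Finset.card_map]
  congr 1
  ext T
  simp only [Finset.mem_filter, Function.comp]
  rw [show (Finset.mapEmbedding g.toEmbedding).toEmbedding T = T.map g.toEmbedding from rfl, hO]

end

end Cfsg.Agent.H10
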