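import Mathlib
import Cfsg.Agent.H10.Perm14

set_option autoImplicit false
set_option linter.all false

/-!
# H10.Perm15: combining transitivity with pointwise stabilizers
-/

namespace Cfsg.Agent.H10

open MulAction
open scoped Pointwise

theorem combine_trans {G : Type*} [Group G] {α : Type*} [MulAction G α] [Finite α] {m j : ℕ}
    (s : Set α) (hs : s.ncard = m) (h1 : IsMultiplyPretransitive G α m)
    (h2 : IsMultiplyPretransitive (fixingSubgroup G s) (SubMulAction.ofFixingSubgroup G s) j) :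
    IsMultiplyPretransitive G α (m + j) := by
  classical
  haveI := Fintype.ofFinite α
  obtain ⟨e, he⟩ := exists_enum (k := m) s.toFinset (by rw [← Set.ncard_eq_toFinset_card', hs])
  rw [Set.coe_toFinset] at he
  have key : ∀ x : Fin (m + j) ↪ α, ∃ (g : G) (x' : Fin j ↪ SubMulAction.ofFixingSubgroup G s),
      (∀ i : Fin m, g • x (Fin.castAdd j i) = e i) ∧
      ∀ i : Fin j, g • x (Fin.natAdd m i) = x' i := by
    intro x
    obtain ⟨g, hg⟩ := h1.exists_smul_eq ((Fin.castAddEmb j).trans x) e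
    have hg' : ∀ i : Fin m, g • x (Fin.castAdd j i) = e i := fun i => by rw [← hg]; rfl
    refine ⟨g, ⟨fun i => ⟨g • x (Fin.natAdd m i), ?_⟩, ?_⟩, hg', fun i => rfl⟩
    · rw [SubMulAction.mem_ofFixingSubgroup_iff, ← he]
      rintro ⟨l, hl⟩
      rw [← hg', smul_left_cancel_iff] at hl
      have := x.injective hl
      rw [Fin.ext_iff] at this
      simp at this
      omega
    · intro i l hil
      have h3 : g • x (Fin.natAdd m i) = g • x (Fin.natAdd m l) := congrArg Subtype.val hil
      have h4 := x.injective ((smul_left_cancel_iff g).1 h3)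
      exact Fin.natAdd_injective _ _ h4
  refine ⟨fun x y => ?_⟩
  obtain ⟨g, x', hg1, hg2⟩ := key x
  obtain ⟨k, y', hk1, hk2⟩ := key y
  obtain ⟨⟨h, hh⟩, hxy⟩ := h2.exists_smul_eq x' y'
  have hxy' : ∀ i, h • ((x' i : SubMulAction.ofFixingSubgroup G s) : α) = (y' i : SubMulAction.ofFixingSubgroup G s) :=
    fun i => by rw [← hxy]; rfl
  refine ⟨k⁻¹ * h * g, ?_⟩
  ext i
  show (k⁻¹ * h * g) • x i = y i
  rw [mul_smul, mul_smul, inv_smul_eq_iff]
  refine Fin.addCases (fun i => ?_) (fun i => ?_) i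
  · rw [hg1, hk1]
    exact (mem_fixingSubgroup_iff G).1 hh _ (by rw [← he]; exact ⟨i, rfl⟩)
  · rw [hg2, hk2, hxy']

end Cfsg.Agent.H10
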