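import Mathlib
import Cfsg.Agent.H10.Perm15

set_option autoImplicit false
set_option linter.all false

/-!
# H10.Perm16: small supports in multiply transitive groups
-/

namespace Cfsg.Agent.H10

open MulAction
open scoped Pointwise

section
variable {α : Type*} [Fintype α] [DecidableEq α]

theorem inv_app {β : Type*} (f : Equiv.Perm β) (x : β) : f⁻¹ (f x) = x := f.symm_apply_apply x

theorem alt_le_of_small {G : Subgroup (Equiv.Perm α)} (hG : IsPreprimitive G α) {h : Equiv.Perm α}
    (hh : h ∈ G) (h1 : h ≠ 1) (h3 : h.support.card ≤ 3) : alternatingGroup α ≤ G := by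
  have h2 := Equiv.Perm.two_le_card_support_of_ne_one h1
  rcases Nat.lt_or_ge h.support.card 3 with h4 | h4
  · have h5 : h.IsSwap := Equiv.Perm.card_support_eq_two.1 (by omega)
    rw [Equiv.Perm.subgroup_eq_top_of_isPreprimitive_of_isSwap_mem hG h h5 hh]
    exact le_top
  · have h5 : h.IsThreeCycle := card_support_eq_three_iff.1 (by omega)
    exact Equiv.Perm.alternatingGroup_le_of_isPreprimitive_of_isThreeCycle_mem hG h5 hh

theorem exists_fix {G : Subgroup (Equiv.Perm α)} {k : ℕ} (hkn : k ≤ Fintype.card α)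
    (hG : IsMultiplyPretransitive G α k) (T : Finset α) (hT : T.card + 1 ≤ k) {b c : α}
    (hb : b ∉ T) (hc : c ∉ T) : ∃ h ∈ G, (∀ x ∈ T, h x = x) ∧ h b = c := by
  have h1 : IsMultiplyPretransitive G α (T.card + 1) :=
    isMultiplyPretransitive_of_le (n := k) hT (by rw [Nat.card_eq_fintype_card]; exact hkn)
  have h2 : IsMultiplyPretransitive (fixingSubgroup G (T : Set α)) (SubMulAction.ofFixingSubgroup G (T : Set α)) 1 :=
    SubMulAction.ofFixingSubgroup.isMultiplyPretransitive (G := G) (T : Set α) (n := T.card + 1) (by simp)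
  rw [is_one_pretransitive_iff] at h2
  obtain ⟨⟨g, hg⟩, hgb⟩ := h2.exists_smul_eq ⟨b, hb⟩ ⟨c, hc⟩
  refine ⟨g, g.2, fun x hx => ?_, ?_⟩
  · exact (mem_fixingSubgroup_iff G).1 hg x hx
  · exact congrArg Subtype.val hgb

theorem exists_segment (g : Equiv.Perm α) (j : ℕ) (hj : j ≤ g.support.card) :
    ∃ T : Finset α, T ⊆ g.support ∧ T.card = j ∧ ∀ x ∈ T, ∀ y ∈ T, g x ∉ T → g y ∉ T → x = y := by
  induction j with
  | zero => exact ⟨∅, by simp, by simp, by simp⟩
  | succ j ih =>
    obtain ⟨T, hTs, hT, hex⟩ := ih (by omega)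
    by_cases he : ∃ x ∈ T, g x ∉ T
    · obtain ⟨x, hx, hgx⟩ := he
      refine ⟨insert (g x) T, ?_, by rw [Finset.card_insert_of_notMem hgx, hT], ?_⟩
      · exact Finset.insert_subset (Equiv.Perm.apply_mem_support.2 (hTs hx)) hTs
      · have key : ∀ y ∈ insert (g x) T, g y ∉ insert (g x) T → y = g x := by
          intro y hy hgy
          rcases Finset.mem_insert.1 hy with rfl | hy
          · rfl
          · exfalso
            have h1 : g y ∉ T := fun h => hgy (Finset.mem_insert_of_mem h)
            have h2 := hex y hy x hx h1 hgx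
            rw [h2] at hgy
            exact hgy (Finset.mem_insert_self _ _)
        intro y hy z hz hgy hgz
        rw [key y hy hgy, key z hz hgz]
    · push Not at he
      obtain ⟨y0, hy0, hy0T⟩ := Finset.exists_mem_notMem_of_card_lt_card (s := T) (t := g.support) (by omega)
      refine ⟨insert y0 T, Finset.insert_subset hy0 hTs, by rw [Finset.card_insert_of_notMem hy0T, hT], ?_⟩
      have key : ∀ y ∈ insert y0 T, g y ∉ insert y0 T → y = y0 := by
        intro y hy hgy
        rcases Finset.mem_insert.1 hy with rfl | hy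
        · rfl
        · exact absurd (Finset.mem_insert_of_mem (he y hy)) hgy
      intro y hy z hz hgy hgz
      rw [key y hy hgy, key z hz hgz]

/-- bound for the support of `g⁻¹ * (h * g * h⁻¹)` when `h` fixes `T` -/
theorem supp_bound (g h : Equiv.Perm α) (T R : Finset α) (hR : R ⊆ T) (hT : ∀ x ∈ T, h x = x)
    (hRT : ∀ x ∈ R, g x ∈ T) (U : Finset α) (hU1 : U ⊆ g.support) (hU2 : ∀ x ∈ U, ∃ y ∈ g.support, h y = x)
    (hRU : R ⊆ U) :
    (g⁻¹ * (h * g * h⁻¹)).support.card + U.card + R.card ≤ 2 * g.support.card := by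
  have h1 : (h * g * h⁻¹).support.card = g.support.card := Equiv.Perm.card_support_conj
  have h2 : U ⊆ (h * g * h⁻¹).support := by
    intro x hx
    obtain ⟨y, hy, rfl⟩ := hU2 x hx
    rw [Equiv.Perm.mem_support] at hy ⊢
    show h (g (h⁻¹ (h y))) ≠ h y
    rw [inv_app]
    exact fun h3 => hy (h.injective h3)
  have h3 : (g⁻¹ * (h * g * h⁻¹)).support ⊆ (g.support ∪ (h * g * h⁻¹).support) \ R := by
    intro x hx
    rw [Finset.mem_sdiff]
    constructor
    · by_contra hcon
      rw [Finset.mem_union, not_or, Equiv.Perm.notMem_support, Equiv.Perm.notMem_support] at hcon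
      rw [Equiv.Perm.mem_support] at hx
      apply hx
      show g⁻¹ ((h * g * h⁻¹) x) = x
      rw [hcon.2, Equiv.Perm.inv_eq_iff_eq, hcon.1]
    · intro hxR
      rw [Equiv.Perm.mem_support] at hx
      apply hx
      show g⁻¹ (h (g (h⁻¹ x))) = x
      have h4 : h⁻¹ x = x := by rw [Equiv.Perm.inv_eq_iff_eq, hT x (hR hxR)]
      rw [h4, hT _ (hRT x hxR), inv_app]
  have h4 := Finset.card_le_card h3
  have h5 : R ⊆ g.support ∪ (h * g * h⁻¹).support := (hRU.trans hU1).trans Finset.subset_union_left
  rw [Finset.card_sdiff_of_subset h5] at h4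
  have h6 := Finset.card_union_add_card_inter g.support (h * g * h⁻¹).support
  have h7 : U.card ≤ (g.support ∩ (h * g * h⁻¹).support).card :=
    Finset.card_le_card (Finset.subset_inter hU1 h2)
  have h8 := Finset.card_le_card h5
  rw [h1] at h6
  omega

theorem small_support {G : Subgroup (Equiv.Perm α)} {k : ℕ} (hk : 3 ≤ k)
    (hkn : k ≤ Fintype.card α) (hG : IsMultiplyPretransitive G α k) (g : Equiv.Perm α)
    (hg : g ∈ G) (hg1 : g ≠ 1) (hsupp : g.support.card < 2 * k - 2) :
    ∃ h : Equiv.Perm α, h ∈ G ∧ h ≠ 1 ∧ h.support.card ≤ 3 := by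
  by_contra hcon
  push Not at hcon
  -- minimal support element
  obtain ⟨m, hm, hmin⟩ : ∃ m, (∃ h : Equiv.Perm α, h ∈ G ∧ h ≠ 1 ∧ h.support.card = m) ∧
      ∀ h : Equiv.Perm α, h ∈ G → h ≠ 1 → m ≤ h.support.card := by
    have hex : ∃ m, ∃ h : Equiv.Perm α, h ∈ G ∧ h ≠ 1 ∧ h.support.card = m := ⟨_, g, hg, hg1, rfl⟩
    classical
    refine ⟨Nat.find hex, Nat.find_spec hex, fun h hh hh1 => Nat.find_min' hex ⟨h, hh, hh1, rfl⟩⟩
  have hmk : m < 2 * k - 2 := lt_of_le_of_lt (hmin g hg hg1) hsupp
  clear hsupp hg1 hg g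
  obtain ⟨g, hg, hg1, hgm⟩ := hm
  have hm4 : 3 < m := by rw [← hgm]; exact hcon g hg hg1
  -- the degree is larger than k
  have hnk : k < Fintype.card α := by
    by_contra hcn
    have hGt : G = ⊤ := by
      apply Equiv.Perm.eq_top_of_isMultiplyPretransitive
      refine isMultiplyPretransitive_of_le (n := k) ?_ ?_
      · rw [Nat.card_eq_fintype_card]; omega
      · rw [Nat.card_eq_fintype_card]; exact hkn
    obtain ⟨a, b, hab⟩ := Fintype.exists_pair_of_one_lt_card (show 1 < Fintype.card α by omega)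
    have h1 := hcon (Equiv.swap a b) (by rw [hGt]; trivial) (by
      intro h
      have := congrArg (fun f : Equiv.Perm α => f a) h
      simp at this
      exact hab this.symm)
    rw [Equiv.Perm.card_support_swap hab] at h1
    omega
  -- m < n
  obtain ⟨q, hq⟩ : ∃ q, q ∉ g.support := by
    by_contra hcq
    push Not at hcq
    have hall : g.support = Finset.univ := by ext x; simp [hcq x]
    obtain ⟨T, -, hT⟩ := Finset.exists_superset_card_eq (s := (∅ : Finset α)) (n := k - 1) (by simp) (by omega)
    obtain ⟨b, -, hb⟩ := Finset.exists_mem_notMem_of_card_lt_card (s := T) (t := Finset.univ) (by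
      rw [Finset.card_univ]; omega)
    obtain ⟨c, -, hc⟩ := Finset.exists_mem_notMem_of_card_lt_card (s := insert b T) (t := Finset.univ) (by
      rw [Finset.card_univ, Finset.card_insert_of_notMem hb]; omega)
    rw [Finset.mem_insert, not_or] at hc
    obtain ⟨h, hh, hhT, hhb⟩ := exists_fix hkn hG T (by omega) hb hc.2
    have h1 := hmin h hh (by rintro rfl; exact hc.1 hhb.symm)
    have h2 : h.support ⊆ Finset.univ \ T := by
      intro x hx
      rw [Finset.mem_sdiff]
      exact ⟨Finset.mem_univ _, fun hxT => Equiv.Perm.mem_support.1 hx (hhT x hxT)⟩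
    have h3 := Finset.card_le_card h2
    rw [Finset.card_sdiff_of_subset (Finset.subset_univ _), Finset.card_univ] at h3
    rw [hall, Finset.card_univ] at hgm
    omega
  rw [Equiv.Perm.notMem_support] at hq
  have hqs : q ∉ g.support := Equiv.Perm.notMem_support.2 hq
  -- nonidentity criterion
  have hne : ∀ (h : Equiv.Perm α) (b : α), b ∈ g.support → h b = q → g⁻¹ * (h * g * h⁻¹) ≠ 1 := by
    intro h b hb hbq h1
    rw [inv_mul_eq_one] at h1
    have h2 : g q = (h * g * h⁻¹) q := congrArg (fun f : Equiv.Perm α => f q) h1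
    rw [hq] at h2
    have h3 : (h * g * h⁻¹) q = h (g b) := by
      show h (g (h⁻¹ q)) = _
      rw [← hbq, inv_app]
    rw [h3, ← hbq] at h2
    exact Equiv.Perm.mem_support.1 hb (h.injective h2).symm
  rcases Nat.lt_or_ge k m with hkm | hkm
  · -- case B
    obtain ⟨T, hTs, hT, hex⟩ := exists_segment g (k - 1) (by omega)
    by_cases he : ∃ x ∈ T, g x ∉ T
    · obtain ⟨x0, hx0, hgx0⟩ := he
      have hgs : g x0 ∈ g.support := Equiv.Perm.apply_mem_support.2 (hTs hx0)
      obtain ⟨p', hp', hp'T⟩ := Finset.exists_mem_notMem_of_card_lt_card (s := insert (g x0) T) (t := g.support) (by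
        rw [Finset.card_insert_of_notMem hgx0]; omega)
      rw [Finset.mem_insert, not_or] at hp'T
      obtain ⟨h, hh, hhT, hhb⟩ := exists_fix hkn hG T (by omega) hgx0 hp'T.2
      have hf1 : g⁻¹ * (h * g * h⁻¹) ≠ 1 := by
        intro h1
        rw [inv_mul_eq_one] at h1
        have h2 : g x0 = (h * g * h⁻¹) x0 := congrArg (fun f : Equiv.Perm α => f x0) h1
        have h3 : (h * g * h⁻¹) x0 = p' := by
          show h (g (h⁻¹ x0)) = _
          rw [show h⁻¹ x0 = x0 by rw [Equiv.Perm.inv_eq_iff_eq, hhT x0 hx0], hhb]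
        rw [h3] at h2
        exact hp'T.1 h2.symm
      have h1 := supp_bound g h T (T.erase x0) (Finset.erase_subset _ _) hhT (fun x hx => by
          by_contra hgx
          exact (Finset.mem_erase.1 hx).1 (hex x (Finset.mem_of_mem_erase hx) x0 hx0 hgx hgx0))
        (insert p' T) (Finset.insert_subset hp' hTs) (fun x hx => by
          rcases Finset.mem_insert.1 hx with rfl | hx
          · exact ⟨g x0, hgs, hhb⟩
          · exact ⟨x, hTs hx, hhT x hx⟩) ((Finset.erase_subset _ _).trans (Finset.subset_insert _ _))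
      have h2 := hmin _ (mul_mem (inv_mem hg) (mul_mem (mul_mem hh hg) (inv_mem hh))) hf1
      rw [Finset.card_insert_of_notMem hp'T.2, Finset.card_erase_of_mem hx0] at h1
      omega
    · push Not at he
      obtain ⟨b, hb, hbT⟩ := Finset.exists_mem_notMem_of_card_lt_card (s := T) (t := g.support) (by omega)
      obtain ⟨h, hh, hhT, hhb⟩ := exists_fix hkn hG T (by omega) hbT (fun hqT => hqs (hTs hqT))
      have h1 := supp_bound g h T T subset_rfl hhT he T hTs (fun x hx => ⟨x, hTs hx, hhT x hx⟩) subset_rfl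
      have h2 := hmin _ (mul_mem (inv_mem hg) (mul_mem (mul_mem hh hg) (inv_mem hh))) (hne h b hb hhb)
      omega
  · -- case A
    obtain ⟨p, hp⟩ : ∃ p, p ∈ g.support := by
      have : 0 < g.support.card := by omega
      exact Finset.card_pos.1 this
    have hT : (g.support.erase p).card = m - 1 := by rw [Finset.card_erase_of_mem hp, hgm]
    obtain ⟨h, hh, hhT, hhb⟩ := exists_fix hkn hG (g.support.erase p) (by omega) (Finset.notMem_erase p _)
      (fun hqT => hqs (Finset.mem_of_mem_erase hqT))
    have hR : g⁻¹ p ∈ g.support.erase p := by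
      rw [Finset.mem_erase]
      constructor
      · intro h1
        rw [Equiv.Perm.inv_eq_iff_eq] at h1
        exact Equiv.Perm.mem_support.1 hp h1.symm
      · rw [← Equiv.Perm.apply_mem_support]; simpa using hp
    have h1 := supp_bound g h (g.support.erase p) ((g.support.erase p).erase (g⁻¹ p)) (Finset.erase_subset _ _) hhT
      (fun x hx => by
        rw [Finset.mem_erase, Finset.mem_erase] at hx
        rw [Finset.mem_erase]
        refine ⟨fun h1 => hx.1 ?_, Equiv.Perm.apply_mem_support.2 hx.2.2⟩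
        rw [← h1, inv_app])
      (g.support.erase p) (Finset.erase_subset _ _) (fun x hx => ⟨x, Finset.mem_of_mem_erase hx, hhT x hx⟩)
      (Finset.erase_subset _ _)
    have h2 := hcon _ (mul_mem (inv_mem hg) (mul_mem (mul_mem hh hg) (inv_mem hh))) (hne h p hp hhb)
    rw [Finset.card_erase_of_mem hR, hT] at h1
    omega

end

end Cfsg.Agent.H10
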