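import Cfsg.Agent.H10.Perm1
import Cfsg.Agent.S0670

set_option autoImplicit false
set_option linter.all false

/-!
# H10.Perm2: the permutation module of degree `p ^ f` in characteristic `p`
-/

namespace Cfsg.Agent.H10

open MulAction

variable {G : Type*} [Group G] {K : Type*} [Field K] {Ω : Type*} [Fintype Ω] [MulAction G Ω]

theorem sum_smul_eq (g : G) (f : Ω → K) : ∑ x, f (g • x) = ∑ x, f x :=
  Fintype.sum_equiv (MulAction.toPerm g) _ _ (fun x => rfl)

/-- the annihilator of a subrepresentation -/
noncomputable def annih (W : Subrepresentation (Cfsg.permRep K G Ω)) :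
    Subrepresentation (Cfsg.permRep K G Ω) where
  toSubmodule :=
    { carrier := {u | ∀ w ∈ W.toSubmodule, ∑ x, u x * w x = 0}
      add_mem' := by
        intro u v hu hv w hw
        simp only [Pi.add_apply, add_mul, Finset.sum_add_distrib]
        rw [hu w hw, hv w hw, add_zero]
      zero_mem' := by intro w _; simp
      smul_mem' := by
        intro c u hu w hw
        simp only [Pi.smul_apply, smul_eq_mul, mul_assoc, ← Finset.mul_sum]
        rw [hu w hw, mul_zero] }
  apply_mem_toSubmodule g u hu := by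
    intro w hw
    have h1 := hu (Cfsg.permRep K G Ω g⁻¹ w) (W.apply_mem_toSubmodule _ hw)
    rw [← h1, ← sum_smul_eq g]
    refine Finset.sum_congr rfl fun x _ => ?_
    rw [permRep_apply, permRep_apply, inv_smul_smul, inv_inv]

theorem mem_annih {W : Subrepresentation (Cfsg.permRep K G Ω)} {u : Ω → K} :
    u ∈ (annih W).toSubmodule ↔ ∀ w ∈ W.toSubmodule, ∑ x, u x * w x = 0 := Iff.rfl

theorem annih_ne_bot {W : Subrepresentation (Cfsg.permRep K G Ω)} (hW : W.toSubmodule ≠ ⊤) :
    (annih W).toSubmodule ≠ ⊥ := by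
  classical
  obtain ⟨f, hf0, hf⟩ := Submodule.exists_le_ker_of_lt_top W.toSubmodule (lt_top_iff_ne_top.2 hW)
  have hfx : ∀ v : Ω → K, f v = ∑ x, f (Pi.single x 1) * v x := by
    intro v
    conv_lhs => rw [← Finset.univ_sum_single v]
    rw [map_sum]
    refine Finset.sum_congr rfl fun x _ => ?_
    have : (Pi.single x (v x) : Ω → K) = v x • Pi.single x 1 := by
      rw [← Pi.single_smul, smul_eq_mul, mul_one]
    rw [this, map_smul, smul_eq_mul, mul_comm]
  rw [Submodule.ne_bot_iff]
  refine ⟨fun x => f (Pi.single x 1), fun w hw => ?_, fun h => hf0 ?_⟩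
  · rw [← hfx]; exact hf hw
  · ext v
    have := congrFun h v
    simpa using this

/-- every proper subrepresentation has sum zero (degree a `p`-power, characteristic `p`) -/
theorem le_sumZero_of_ne_top [Finite G] {p f : ℕ} [Fact p.Prime] [CharP K p] [IsPretransitive G Ω]
    (hf : 1 ≤ f) (hcard : Fintype.card Ω = p ^ f) (W : Subrepresentation (Cfsg.permRep K G Ω))
    (hW : W.toSubmodule ≠ ⊤) : W.toSubmodule ≤ (Cfsg.permSumZero K G Ω).toSubmodule := by
  have h1 := S0670.result hf hcard (annih W) (annih_ne_bot hW)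
  have h2 : (fun _ => (1 : K)) ∈ (annih W).toSubmodule :=
    h1 (mem_permConstants.2 ⟨1, fun x => rfl⟩)
  intro w hw
  rw [mem_permSumZero]
  have := mem_annih.1 h2 w hw
  simpa using this

/-- the equivariant endomorphism attached to an invariant function on pairs -/
noncomputable def orbMap (r : Ω → Ω → K) : (Ω → K) →ₗ[K] (Ω → K) where
  toFun v x := ∑ y, r x y * v y
  map_add' v w := by ext x; simp [mul_add, Finset.sum_add_distrib]
  map_smul' c v := by
    ext x
    simp only [Pi.smul_apply, smul_eq_mul, RingHom.id_apply, Finset.mul_sum]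
    exact Finset.sum_congr rfl fun y _ => by ring

theorem orbMap_apply (r : Ω → Ω → K) (v : Ω → K) (x : Ω) : orbMap r v x = ∑ y, r x y * v y := rfl

theorem orbMap_comm {r : Ω → Ω → K} (hr : ∀ (g : G) x y, r (g • x) (g • y) = r x y) (g : G)
    (v : Ω → K) : orbMap r (Cfsg.permRep K G Ω g v) = Cfsg.permRep K G Ω g (orbMap r v) := by
  ext x
  rw [orbMap_apply, permRep_apply, orbMap_apply, ← sum_smul_eq g]
  refine Finset.sum_congr rfl fun y _ => ?_
  rw [permRep_apply, inv_smul_smul]
  congr 1
  have := hr g (g⁻¹ • x) y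
  rw [smul_inv_smul] at this
  exact this

/-- image of a subrepresentation under an equivariant map -/
noncomputable def mapRep (B : (Ω → K) →ₗ[K] (Ω → K))
    (hB : ∀ (g : G) v, B (Cfsg.permRep K G Ω g v) = Cfsg.permRep K G Ω g (B v))
    (W : Subrepresentation (Cfsg.permRep K G Ω)) : Subrepresentation (Cfsg.permRep K G Ω) where
  toSubmodule := W.toSubmodule.map B
  apply_mem_toSubmodule g v hv := by
    obtain ⟨w, hw, rfl⟩ := hv
    exact ⟨Cfsg.permRep K G Ω g w, W.apply_mem_toSubmodule _ hw, hB g w⟩

/-- kernel of an equivariant map -/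
noncomputable def kerRep (B : (Ω → K) →ₗ[K] (Ω → K))
    (hB : ∀ (g : G) v, B (Cfsg.permRep K G Ω g v) = Cfsg.permRep K G Ω g (B v)) :
    Subrepresentation (Cfsg.permRep K G Ω) where
  toSubmodule := LinearMap.ker B
  apply_mem_toSubmodule g v hv := by
    rw [LinearMap.mem_ker] at hv ⊢
    rw [hB, hv, map_zero]

variable (K G Ω) in
noncomputable def topRep : Subrepresentation (Cfsg.permRep K G Ω) where
  toSubmodule := ⊤
  apply_mem_toSubmodule g v hv := trivial

end Cfsg.Agent.H10
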