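import Mathlib
import Cfsg.Agent.H10.Perm2
import Cfsg.Agent.S0673

set_option autoImplicit false
set_option linter.all false

/-!
# H10.Perm3: transitive groups of prime degree
-/

namespace Cfsg.Agent.H10

open MulAction

section
variable {G : Type*} [Group G] {K : Type*} [Field K] {Ω : Type*} [Fintype Ω] [MulAction G Ω]

theorem finrank_annih (W : Subrepresentation (Cfsg.permRep K G Ω)) :
    Module.finrank K (annih W).toSubmodule + Module.finrank K W.toSubmodule = Fintype.card Ω := by
  classical
  let e : (Ω → K) →ₗ[K] Module.Dual K (Ω → K) :=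
    { toFun := fun u =>
        { toFun := fun w => ∑ x, u x * w x
          map_add' := fun v w => by simp [mul_add, Finset.sum_add_distrib]
          map_smul' := fun c v => by
            simp only [Pi.smul_apply, smul_eq_mul, RingHom.id_apply, Finset.mul_sum]
            exact Finset.sum_congr rfl fun y _ => by ring }
      map_add' := fun u v => by ext x; simp [add_mul, Finset.sum_add_distrib]
      map_smul' := fun c v => by ext x; simp [Finset.mul_sum, mul_assoc] }
  have he : ∀ u w, e u w = ∑ x, u x * w x := fun u w => rfl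
  have hinj : Function.Injective e := by
    rw [← LinearMap.ker_eq_bot, eq_bot_iff]
    intro u hu
    rw [LinearMap.mem_ker] at hu
    rw [Submodule.mem_bot]
    funext x
    have := LinearMap.congr_fun hu (Pi.single x 1)
    rw [he] at this
    simpa [Pi.single_apply] using this
  have hfr : Module.finrank K (Ω → K) = Module.finrank K (Module.Dual K (Ω → K)) :=
    (Subspace.dual_finrank_eq).symm
  have hbij : Function.Bijective e :=
    ⟨hinj, (LinearMap.injective_iff_surjective_of_finrank_eq_finrank hfr).1 hinj⟩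
  let E := LinearEquiv.ofBijective e hbij
  have h1 : (annih W).toSubmodule.map (E : (Ω → K) →ₗ[K] Module.Dual K (Ω → K)) =
      W.toSubmodule.dualAnnihilator := by
    ext φ
    rw [Submodule.mem_dualAnnihilator]
    constructor
    · rintro ⟨u, hu, rfl⟩ w hw
      exact hu w hw
    · intro h
      obtain ⟨u, rfl⟩ := hbij.2 φ
      exact ⟨u, fun w hw => h w hw, rfl⟩
  rw [← LinearEquiv.finrank_map_eq E, h1, add_comm,
    Subspace.finrank_add_finrank_dualAnnihilator_eq, Module.finrank_fintype_fun_eq_card]

end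

/-- functions `ZMod p → ZMod p` preserving a small translation invariant space are affine -/
theorem affine_of_preserves {p : ℕ} [Fact p.Prime] {K : Type*} [Field K] [CharP K p] {r : ℕ}
    (hr2 : 2 ≤ r) (hrp : 2 * r ≤ p + 1) (W : Submodule K (ZMod p → K))
    (hW : ∀ f : ZMod p → K, f ∈ W ↔ ∃ P : Polynomial K, P.degree < r ∧ ∀ j : ZMod p, f j = P.eval (ZMod.cast j : K))
    (π : ZMod p → ZMod p) (hπ : ∀ f ∈ W, (fun j => f (π j)) ∈ W) :
    ∃ a b : ZMod p, ∀ j, π j = a * j + b := by
  classical
  have hp := (Fact.out : p.Prime)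
  have hcinj : Function.Injective (ZMod.cast : ZMod p → K) := by
    have : (ZMod.cast : ZMod p → K) = ZMod.castHom (dvd_refl p) K := rfl
    rw [this]
    exact (ZMod.castHom (dvd_refl p) K).injective
  have hinj : ∀ P : Polynomial K, P.natDegree < p → (∀ j : ZMod p, P.eval (ZMod.cast j : K) = 0) → P = 0 := by
    intro P hP h0
    by_contra hne
    have h1 : (Finset.univ.image (ZMod.cast : ZMod p → K)).card ≤ P.natDegree := by
      refine (Finset.card_le_card ?_).trans ((Multiset.toFinset_card_le _).trans (Polynomial.card_roots' P))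
      intro x hx
      obtain ⟨j, -, rfl⟩ := Finset.mem_image.1 hx
      rw [Multiset.mem_toFinset, Polynomial.mem_roots hne]
      exact h0 j
    rw [Finset.card_image_of_injective _ hcinj, Finset.card_univ, ZMod.card] at h1
    omega
  -- `x ∈ W`
  have hX : ∀ m < r, (fun j : ZMod p => (ZMod.cast j : K) ^ m) ∈ W := by
    intro m hm
    rw [hW]
    refine ⟨Polynomial.X ^ m, ?_, fun j => by simp⟩
    rw [Polynomial.degree_X_pow]
    exact Nat.cast_lt.2 hm
  obtain ⟨Q, hQd, hQ⟩ := (hW _).1 (hπ _ (hX 1 (by omega)))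
  simp only [pow_one] at hQ
  have hQn : Q.natDegree < r := by
    by_cases h0 : Q = 0
    · rw [h0, Polynomial.natDegree_zero]; omega
    · rw [Polynomial.degree_eq_natDegree h0] at hQd
      exact Nat.cast_lt.1 hQd
  have hd : Q.natDegree ≤ 1 := by
    by_contra hlt
    rw [not_le] at hlt
    obtain ⟨d, hdef⟩ : ∃ d, d = Q.natDegree := ⟨_, rfl⟩
    obtain ⟨m, hm⟩ : ∃ m, m = (r + d - 1) / d := ⟨_, rfl⟩
    rw [← hdef] at hlt hQn
    have hm1 : r ≤ m * d := by
      have h1 := Nat.div_add_mod (r + d - 1) d
      have h2 := Nat.mod_lt (r + d - 1) (show 0 < d by omega)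
      rw [← hm] at h1
      rw [mul_comm]
      omega
    have hm2 : m * d ≤ r + d - 1 := by
      rw [hm]; exact Nat.div_mul_le_self _ _
    have hm3 : m < r := by
      by_contra h
      rw [not_lt] at h
      have : r * 2 ≤ m * d := Nat.mul_le_mul h hlt
      omega
    obtain ⟨P, hPd, hP⟩ := (hW _).1 (hπ _ (hX m hm3))
    have hPn : P.natDegree < r := by
      by_cases h0 : P = 0
      · rw [h0, Polynomial.natDegree_zero]; omega
      · rw [Polynomial.degree_eq_natDegree h0] at hPd
        exact Nat.cast_lt.1 hPd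
    have h1 : Q ^ m - P = 0 := by
      apply hinj
      · refine lt_of_le_of_lt (Polynomial.natDegree_sub_le _ _) ?_
        rw [Polynomial.natDegree_pow, ← hdef]
        rw [max_lt_iff]
        constructor <;> omega
      · intro j
        rw [Polynomial.eval_sub, Polynomial.eval_pow, ← hQ, ← hP, sub_self]
    have h2 : (Q ^ m).natDegree = P.natDegree := by rw [sub_eq_zero.1 h1]
    rw [Polynomial.natDegree_pow, ← hdef] at h2
    omega
  obtain ⟨c, d, hcd⟩ := Polynomial.exists_eq_X_add_C_of_natDegree_le_one hd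
  have hval : ∀ j : ZMod p, (ZMod.cast (π j) : K) = c * ZMod.cast j + d := by
    intro j
    rw [hQ j, hcd]; simp
  refine ⟨π 1 - π 0, π 0, fun j => hcinj ?_⟩
  have hcast : ∀ x y : ZMod p, (ZMod.cast (x + y) : K) = ZMod.cast x + ZMod.cast y :=
    fun x y => ZMod.cast_add (dvd_refl p) x y
  have hcastm : ∀ x y : ZMod p, (ZMod.cast (x * y) : K) = ZMod.cast x * ZMod.cast y :=
    fun x y => ZMod.cast_mul (dvd_refl p) x y
  have hcasts : ∀ x y : ZMod p, (ZMod.cast (x - y) : K) = ZMod.cast x - ZMod.cast y :=
    fun x y => ZMod.cast_sub (dvd_refl p) x y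
  rw [hcast, hcastm, hcasts, hval, hval 1, hval 0, ZMod.cast_one (dvd_refl p), ZMod.cast_zero]
  ring

/-- coordinates on a set of prime size carrying a transitive group -/
theorem exists_coord {α : Type*} [Fintype α] [DecidableEq α] {p : ℕ} [Fact p.Prime]
    (hα : Fintype.card α = p) (G : Subgroup (Equiv.Perm α)) [IsPretransitive G α] :
    ∃ (c : G) (e : ZMod p ≃ α), ∀ j, e (j + 1) = c • e j := by
  have hp := (Fact.out : p.Prime)
  obtain ⟨a₀⟩ : Nonempty α := by
    rw [← Fintype.card_pos_iff, hα]; exact hp.pos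
  have hdvd : p ∣ Nat.card G := by
    have h1 : (stabilizer G a₀).index = p := by
      rw [index_stabilizer_of_transitive, Nat.card_eq_fintype_card, hα]
    rw [← h1]; exact Subgroup.index_dvd_card _
  obtain ⟨c, hc⟩ := exists_prime_orderOf_dvd_card' (G := G) p hdvd
  have hc' : orderOf (c : Equiv.Perm α) = Fintype.card α := by rw [Subgroup.orderOf_coe, hc, hα]
  have hcyc := Equiv.Perm.isCycle_of_prime_order'' (by rw [hα]; exact hp) hc'
  have hsupp : (c : Equiv.Perm α).support = Finset.univ :=
    Finset.eq_univ_of_card _ (hcyc.orderOf.symm.trans hc')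
  have hpow : ∀ n m : ℕ, n % p = m % p → (c ^ n) • a₀ = (c ^ m) • a₀ := by
    intro n m h
    rw [← pow_mod_orderOf c n, ← pow_mod_orderOf c m, hc, h]
  let f : ZMod p → α := fun j => (c ^ j.val) • a₀
  have hf : ∀ j, f (j + 1) = c • f j := by
    intro j
    show (c ^ (j + 1).val) • a₀ = c • (c ^ j.val) • a₀
    rw [← mul_smul, ← pow_succ']
    apply hpow
    haveI : Fact (1 < p) := ⟨hp.one_lt⟩
    rw [ZMod.val_add, ZMod.val_one, Nat.mod_mod]
  have hsurj : Function.Surjective f := by
    intro x
    have hx : x ∈ (c : Equiv.Perm α).support := by rw [hsupp]; exact Finset.mem_univ _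
    have ha : a₀ ∈ (c : Equiv.Perm α).support := by rw [hsupp]; exact Finset.mem_univ _
    obtain ⟨i, hi⟩ := hcyc.exists_pow_eq (Equiv.Perm.mem_support.1 ha) (Equiv.Perm.mem_support.1 hx)
    refine ⟨(i : ZMod p), ?_⟩
    show (c ^ ((i : ZMod p)).val) • a₀ = x
    rw [← hi, ZMod.val_natCast]
    have h1 := hpow (i % p) i (Nat.mod_mod _ _)
    rw [h1]
    rfl
  have hbij : Function.Bijective f := by
    rw [Fintype.bijective_iff_surjective_and_card]
    exact ⟨hsurj, by rw [ZMod.card, hα]⟩
  exact ⟨c, Equiv.ofBijective f hbij, hf⟩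

/-- a group acting faithfully by affine maps in some coordinate is solvable -/
theorem solvable_of_affine {p : ℕ} [Fact p.Prime] {G : Type*} [Group G] {α : Type*}
    [MulAction G α] [FaithfulSMul G α] (e : ZMod p ≃ α)
    (h : ∀ g : G, ∃ a b : ZMod p, ∀ j, e.symm (g • e j) = a * j + b) : Group.IsSolvable G := by
  let sl : G → ZMod p := fun g => e.symm (g • e 1) - e.symm (g • e 0)
  have hsl : ∀ g j, e.symm (g • e j) = sl g * j + e.symm (g • e 0) := by
    intro g j
    obtain ⟨a, b, hab⟩ := h g
    simp only [sl, hab]; ring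
  let φ : G →* ZMod p :=
    { toFun := sl
      map_one' := by simp [sl]
      map_mul' := by
        intro g k
        have h1 : ∀ j, e.symm ((g * k) • e j) = sl g * e.symm (k • e j) + e.symm (g • e 0) := by
          intro j
          rw [← hsl g, Equiv.apply_symm_apply, mul_smul]
        show e.symm ((g * k) • e 1) - e.symm ((g * k) • e 0) = sl g * (e.symm (k • e 1) - e.symm (k • e 0))
        rw [h1, h1]; ring }
  have hφ : ∀ g, φ g = sl g := fun g => rfl
  let ψ := MonoidHom.toHomUnits φ
  have hker : ∀ g ∈ ψ.ker, ∀ j, e.symm (g • e j) = j + e.symm (g • e 0) := by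
    intro g hg j
    have h1 : φ g = 1 := congrArg Units.val (MonoidHom.mem_ker.1 hg)
    rw [hsl, ← hφ, h1, one_mul]
  haveI : Group.IsSolvable ψ.ker := by
    apply Group.isSolvable_of_comm
    rintro ⟨x, hx⟩ ⟨y, hy⟩
    apply Subtype.ext
    show x * y = y * x
    apply FaithfulSMul.eq_of_smul_eq_smul (α := α)
    intro t
    obtain ⟨j, rfl⟩ := e.surjective t
    rw [mul_smul, mul_smul]
    apply e.symm.injective
    have h1 := hker x hx (e.symm (y • e j))
    have h2 := hker y hy (e.symm (x • e j))
    rw [Equiv.apply_symm_apply] at h1 h2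
    rw [h1, h2, hker x hx j, hker y hy j]
    ring
  exact Group.isSolvable_of_ker_le_range ψ.ker.subtype ψ (by rw [Subgroup.range_subtype])

section
variable {K : Type*} [Field K] {α : Type*} [Fintype α] [DecidableEq α] {p : ℕ} [Fact p.Prime]
  [CharP K p]

/-- no invariant subspace of dimension `r` with `2 ≤ r`, `2 r ≤ p + 1` -/
theorem solvable_of_small_rep (hα : Fintype.card α = p) (G : Subgroup (Equiv.Perm α))
    [IsPretransitive G α] (W : Subrepresentation (Cfsg.permRep K G α))
    (h2 : 2 ≤ Module.finrank K W.toSubmodule) (hp : 2 * Module.finrank K W.toSubmodule ≤ p + 1) :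
    Group.IsSolvable G := by
  obtain ⟨c, e, he⟩ := exists_coord hα G
  let E : (ZMod p → K) ≃ₗ[K] (α → K) := LinearEquiv.funCongrLeft K K e.symm
  have hE : ∀ w x, E w x = w (e.symm x) := fun w x => rfl
  let U : Submodule K (ZMod p → K) := W.toSubmodule.comap (E : (ZMod p → K) →ₗ[K] (α → K))
  have hU : ∀ w, w ∈ U ↔ E w ∈ W.toSubmodule := fun w => Iff.rfl
  have hec : ∀ x, e.symm (c⁻¹ • x) = e.symm x - 1 := by
    intro x
    apply e.injective
    rw [Equiv.apply_symm_apply, inv_smul_eq_iff, ← he, sub_add_cancel, Equiv.apply_symm_apply]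
  obtain ⟨r, hr, hfr, hmem⟩ := S0673.result (p := p) (K := K) U (by
    intro f hf
    rw [hU] at hf ⊢
    have h1 := W.apply_mem_toSubmodule c hf
    have h3 : E (fun j => f (j - 1)) = Cfsg.permRep K G α c (E f) := by
      funext x
      rw [permRep_apply, hE, hE, hec]
    rw [h3]; exact h1)
  have hfU : Module.finrank K U = Module.finrank K W.toSubmodule := by
    have : U.map (E : (ZMod p → K) →ₗ[K] (α → K)) = W.toSubmodule :=
      Submodule.map_comap_eq_of_surjective E.surjective _
    rw [← LinearEquiv.finrank_map_eq E U, this]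
  have hr' : r = Module.finrank K W.toSubmodule := by rw [← hfr, hfU]
  apply solvable_of_affine e
  intro g
  refine affine_of_preserves (K := K) (r := r) (by omega) (by omega) U hmem _ ?_
  intro f hf
  rw [hU] at hf ⊢
  have h1 := W.apply_mem_toSubmodule g⁻¹ hf
  have h3 : E (fun j => f (e.symm (g • e j))) = Cfsg.permRep K G α g⁻¹ (E f) := by
    funext x
    rw [permRep_apply, hE, hE, inv_inv, Equiv.apply_symm_apply]
  rw [h3]; exact h1

end

theorem finrank_constants {G : Type*} [Group G] {K : Type*} [Field K] {Ω : Type*} [Fintype Ω]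
    [Nonempty Ω] [MulAction G Ω] : Module.finrank K (Cfsg.permConstants K G Ω).toSubmodule = 1 := by
  apply finrank_span_singleton
  intro h
  obtain ⟨a⟩ := ‹Nonempty Ω›
  have := congrFun h a
  simp at this

theorem annih_constants {G : Type*} [Group G] {K : Type*} [Field K] {Ω : Type*} [Fintype Ω]
    [MulAction G Ω] : (annih (Cfsg.permConstants K G Ω)).toSubmodule =
      (Cfsg.permSumZero K G Ω).toSubmodule := by
  ext u
  rw [mem_annih, mem_permSumZero]
  constructor
  · intro h
    have := h (fun _ => 1) (mem_permConstants.2 ⟨1, fun _ => rfl⟩)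
    simpa using this
  · intro h w hw
    obtain ⟨c, hc⟩ := mem_permConstants.1 hw
    simp only [hc, ← Finset.sum_mul, h, zero_mul]

theorem finrank_sumZero {G : Type*} [Group G] {K : Type*} [Field K] {Ω : Type*} [Fintype Ω]
    [Nonempty Ω] [MulAction G Ω] :
    Module.finrank K (Cfsg.permSumZero K G Ω).toSubmodule + 1 = Fintype.card Ω := by
  rw [← annih_constants, ← finrank_annih (Cfsg.permConstants K G Ω), finrank_constants]

end Cfsg.Agent.H10
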