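import Mathlib
import Cfsg.Agent.H10.Perm3
import Cfsg.Agent.H10.Perm4

set_option autoImplicit false
set_option linter.all false

/-!
# H10.Perm5: transitive groups of prime degree: Sylow facts
-/

namespace Cfsg.Agent.H10

open MulAction
open scoped Pointwise

section
variable {α : Type*} [Fintype α] [DecidableEq α] {p : ℕ} [Fact p.Prime]

theorem coord_pow {G : Type*} [Group G] [MulAction G α] {c : G} {e : ZMod p ≃ α}
    (he : ∀ j, e (j + 1) = c • e j) (n : ℕ) (j : ZMod p) : e (j + n) = c ^ n • e j := by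
  induction n with
  | zero => simp
  | succ n ih => rw [Nat.cast_succ, ← add_assoc, he, ih, ← mul_smul, ← pow_succ']

theorem coord_order {G : Type*} [Group G] [MulAction G α] [FaithfulSMul G α] {c : G}
    {e : ZMod p ≃ α} (he : ∀ j, e (j + 1) = c • e j) : orderOf c = p := by
  have hp := (Fact.out : p.Prime)
  haveI : Fact (1 < p) := ⟨hp.one_lt⟩
  refine orderOf_eq_prime ?_ ?_
  · apply FaithfulSMul.eq_of_smul_eq_smul (α := α)
    intro x
    obtain ⟨j, rfl⟩ := e.surjective x
    rw [← coord_pow he, one_smul]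
    simp
  · rintro rfl
    have := he 0
    rw [one_smul] at this
    have h1 := e.injective this
    simp at h1

/-- `p ^ 2` does not divide the order of a group of degree `p` -/
theorem not_sq_dvd (hα : Fintype.card α = p) (G : Subgroup (Equiv.Perm α)) :
    ¬ p ^ 2 ∣ Nat.card G := by
  intro h
  have hp := (Fact.out : p.Prime)
  have h1 : p ^ 2 ∣ Nat.card (Equiv.Perm α) := h.trans (Subgroup.card_subgroup_dvd_card G)
  rw [Nat.card_eq_fintype_card, Fintype.card_perm, hα] at h1
  obtain ⟨m, hm⟩ : ∃ m, p = m + 1 := ⟨p - 1, by have := hp.pos; omega⟩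
  have h2 : p.factorial = p * (p - 1).factorial := by
    rw [hm]; rfl
  rw [h2, pow_two] at h1
  have h3 := Nat.dvd_of_mul_dvd_mul_left hp.pos h1
  have h4 := (hp.dvd_factorial).1 h3
  have := hp.pos
  omega

theorem card_sylow_eq (hα : Fintype.card α = p) (G : Subgroup (Equiv.Perm α))
    [IsPretransitive G α] (P : Sylow p G) : Nat.card P = p := by
  have hp := (Fact.out : p.Prime)
  obtain ⟨n, hn⟩ := IsPGroup.iff_card.1 P.isPGroup'
  obtain ⟨c, e, he⟩ := exists_coord hα G
  have hc := coord_order he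
  have h1 : p ∣ Nat.card G := by rw [← hc]; exact orderOf_dvd_natCard c
  have h2 : p ∣ Nat.card P := P.dvd_card_of_dvd_card h1
  have h3 : Nat.card P ∣ Nat.card G := Subgroup.card_subgroup_dvd_card _
  have h3' : Nat.card P = p ^ n := hn
  rw [h3'] at h2 h3 ⊢
  rcases n with _ | _ | n
  · rw [pow_zero, Nat.dvd_one] at h2; exact absurd h2 hp.ne_one
  · rw [zero_add, pow_one]
  · exfalso
    exact not_sq_dvd hα G ((pow_dvd_pow p (by omega)).trans h3)

/-- an involution inverting the `p`-cycle -/
theorem exists_inverting (hα : Fintype.card α = p) (hp2 : p ≠ 2) (G : Subgroup (Equiv.Perm α))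
    [IsPretransitive G α] (P : Sylow p G)
    (heven : Even (Nat.card (Subgroup.normalizer ((P : Subgroup G) : Set G)))) :
    ∃ (c : G) (e : ZMod p ≃ α) (t : G) (b : ZMod p), (∀ j, e (j + 1) = c • e j) ∧
      ∀ j, t • e j = e (b - j) := by
  have hp := (Fact.out : p.Prime)
  obtain ⟨c, e, he⟩ := exists_coord hα G
  have hc := coord_order he
  obtain ⟨Q, hQ⟩ := (IsPGroup.of_card (n := 1) (by rw [Nat.card_zpowers, hc, pow_one]) :
    IsPGroup p (Subgroup.zpowers c)).exists_le_sylow
  have hQc : (Q : Subgroup G) = Subgroup.zpowers c := by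
    symm
    apply Subgroup.eq_of_le_of_card_ge hQ
    rw [Nat.card_zpowers, hc]
    exact (card_sylow_eq hα G Q).le
  have hN : Nat.card (Subgroup.normalizer ((P : Subgroup G) : Set G)) =
      Nat.card (Subgroup.normalizer ((Q : Subgroup G) : Set G)) := by
    have h1 := Sylow.card_eq_index_normalizer P
    have h2 := Sylow.card_eq_index_normalizer Q
    have h3 := Subgroup.card_mul_index (Subgroup.normalizer ((P : Subgroup G) : Set G))
    have h4 := Subgroup.card_mul_index (Subgroup.normalizer ((Q : Subgroup G) : Set G))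
    have h5 : (Subgroup.normalizer ((P : Subgroup G) : Set G)).index =
        (Subgroup.normalizer ((Q : Subgroup G) : Set G)).index := h1.symm.trans h2
    rw [h5, ← h4] at h3
    exact Nat.eq_of_mul_eq_mul_right (Nat.pos_of_ne_zero Subgroup.index_ne_zero_of_finite) h3
  rw [hN] at heven
  haveI : Fact (Nat.Prime 2) := ⟨Nat.prime_two⟩
  obtain ⟨t, ht⟩ := exists_prime_orderOf_dvd_card' 2 heven.two_dvd
  have ht2 : (t : G) * t = 1 := by
    have := pow_orderOf_eq_one t
    rw [ht, pow_two] at this
    exact congrArg Subtype.val this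
  have ht1 : (t : G) ≠ 1 := by
    intro h
    have : t = 1 := Subtype.ext h
    rw [this] at ht
    simp at ht
  have h1 : (t : G) * c * (t : G)⁻¹ ∈ Subgroup.zpowers c := by
    rw [← hQc]
    exact (Subgroup.mem_normalizer_iff.1 t.2 c).1 (by
      show c ∈ (Q : Subgroup G)
      rw [hQc]; exact Subgroup.mem_zpowers c)
  obtain ⟨k, hk⟩ : ∃ k : ℕ, c ^ k = (t : G) * c * (t : G)⁻¹ := by
    have := (isOfFinOrder_of_finite c).mem_powers_iff_mem_zpowers.2 h1
    exact this
  have hstep : ∀ j, (t : G) • e (j + 1) = c ^ k • (t : G) • e j := by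
    intro j
    rw [he, ← mul_smul, ← mul_smul]
    congr 1
    rw [hk]; group
  let τ : ZMod p → ZMod p := fun j => e.symm ((t : G) • e j)
  have hτ : ∀ j, (t : G) • e j = e (τ j) := fun j => (Equiv.apply_symm_apply e _).symm
  have hτ1 : ∀ j, τ (j + 1) = τ j + k := by
    intro j
    apply e.injective
    rw [← hτ, hstep, hτ, ← coord_pow he]
  have hτn : ∀ n : ℕ, τ n = τ 0 + k * n := by
    intro n
    induction n with
    | zero => simp
    | succ n ih => rw [Nat.cast_succ, hτ1, ih]; ring
  have hτj : ∀ j, τ j = τ 0 + k * j := by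
    intro j
    have := hτn j.val
    rwa [ZMod.natCast_zmod_val] at this
  have hττ : ∀ j, τ (τ j) = j := by
    intro j
    apply e.injective
    rw [← hτ, ← hτ, ← mul_smul, ht2, one_smul]
  have h2 : (2 : ZMod p) ≠ 0 := by
    intro h
    have : ((2 : ℕ) : ZMod p) = 0 := by exact_mod_cast h
    rw [ZMod.natCast_eq_zero_iff] at this
    exact hp2 ((Nat.prime_dvd_prime_iff_eq hp Nat.prime_two).1 this)
  have hk2 : (k : ZMod p) * k = 1 := by
    have e0 := hττ 0
    have e1 := hττ 1
    rw [hτj (τ 0)] at e0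
    rw [hτj (τ 1), hτj 1] at e1
    linear_combination e1 - e0
  rcases mul_self_eq_one_iff.1 hk2 with h | h
  · exfalso
    apply ht1
    have e0 := hττ 0
    rw [hτj (τ 0), h, one_mul] at e0
    have e1 : τ 0 = 0 := by
      have : 2 * τ 0 = 0 := by linear_combination e0
      exact (mul_eq_zero.1 this).resolve_left h2
    apply FaithfulSMul.eq_of_smul_eq_smul (α := α)
    intro x
    obtain ⟨j, rfl⟩ := e.surjective x
    rw [hτ, hτj, e1, h, zero_add, one_mul, one_smul]
  · refine ⟨c, e, t, τ 0, he, fun j => ?_⟩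
    rw [hτ, hτj, h]
    congr 1
    ring

end

end Cfsg.Agent.H10
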