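import Mathlib
import Cfsg.Agent.H10.Perm16
import Cfsg.Agent.H10.Perm5

set_option autoImplicit false
set_option linter.all false

/-!
# H10.Perm17: Jordan's theorem on prime cycles
-/

namespace Cfsg.Agent.H10

open MulAction
open scoped Pointwise

theorem conj_of_not_sq {K : Type*} [Group K] [Finite K] {p : ℕ} [hp : Fact p.Prime]
    (hK : ¬ p ^ 2 ∣ Nat.card K) {x y : K} (hx : orderOf x = p) (hy : orderOf y = p) :
    ∃ (z : K) (i : ℕ), z * x * z⁻¹ = y ^ i := by
  have key : ∀ x : K, orderOf x = p → ∃ P : Sylow p K, (P : Subgroup K) = Subgroup.zpowers x := by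
    intro x hx
    obtain ⟨Q, hQ⟩ := (IsPGroup.of_card (n := 1) (by rw [Nat.card_zpowers, hx, pow_one]) :
      IsPGroup p (Subgroup.zpowers x)).exists_le_sylow
    refine ⟨Q, ?_⟩
    symm
    apply Subgroup.eq_of_le_of_card_ge hQ
    obtain ⟨n, hn⟩ := IsPGroup.iff_card.1 Q.isPGroup'
    have h3 : Nat.card Q ∣ Nat.card K := Subgroup.card_subgroup_dvd_card _
    have hn' : Nat.card Q = p ^ n := hn
    have h4 : n < 2 := by
      by_contra hcon
      push Not at hcon
      exact hK ((pow_dvd_pow p hcon).trans (hn' ▸ h3))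
    rw [Nat.card_zpowers, hx]
    show Nat.card Q ≤ p
    rw [hn']
    calc p ^ n ≤ p ^ 1 := Nat.pow_le_pow_right hp.out.pos (by omega)
      _ = p := pow_one p
  obtain ⟨P, hP⟩ := key x hx
  obtain ⟨Q, hQ⟩ := key y hy
  obtain ⟨z, hz⟩ := MulAction.exists_smul_eq K P Q
  have h1 : z * x * z⁻¹ ∈ (Q : Subgroup K) := by
    rw [← hz]
    have : x ∈ P := by show x ∈ (P : Subgroup K); rw [hP]; exact Subgroup.mem_zpowers x
    rw [Sylow.smul_def]
    exact ⟨x, this, rfl⟩
  rw [hQ] at h1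
  obtain ⟨i, hi⟩ := (mem_powers_iff_mem_zpowers (x := y)).2 h1
  exact ⟨z, i, hi.symm⟩

section
variable {α : Type*} [Fintype α] [DecidableEq α]

theorem not_sq_dvd_of_fix {p : ℕ} [hp : Fact p.Prime] (K : Subgroup (Equiv.Perm α)) (S : Finset α)
    (hS : S.card = p) (hK : ∀ k ∈ K, ∀ x, x ∉ S → k x = x) : ¬ p ^ 2 ∣ Nat.card K := by
  intro h
  have h1 : K ≤ (Equiv.Perm.ofSubtype (p := fun x => x ∈ S)).range := by
    intro k hk
    have hkS : ∀ x, x ∈ S ↔ k x ∈ S := by
      intro x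
      constructor
      · intro hx
        by_contra hx'
        have h2 := hK k hk _ hx'
        have h3 := k.injective h2
        rw [h3] at hx'
        exact hx' hx
      · intro hx
        by_contra hx'
        rw [hK k hk x hx'] at hx
        exact hx' hx
    refine ⟨k.subtypePerm (fun x => (hkS x).symm), ?_⟩
    ext x
    by_cases hx : x ∈ S
    · rw [Equiv.Perm.ofSubtype_apply_of_mem _ hx]; rfl
    · rw [Equiv.Perm.ofSubtype_apply_of_not_mem _ hx, hK k hk x hx]
  have h2 := (h.trans (Subgroup.card_dvd_of_le h1))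
  rw [← Nat.card_congr (MonoidHom.ofInjective Equiv.Perm.ofSubtype_injective).toEquiv, Nat.card_perm,
    Nat.card_eq_fintype_card, Fintype.card_coe, hS] at h2
  obtain ⟨m, hm⟩ : ∃ m, p = m + 1 := ⟨p - 1, by have := hp.out.pos; omega⟩
  have h3 : p.factorial = p * (p - 1).factorial := by
    rw [hm]; rfl
  rw [h3, pow_two] at h2
  have h4 := Nat.dvd_of_mul_dvd_mul_left hp.out.pos h2
  have h5 := (hp.out.dvd_factorial).1 h4
  have := hp.out.pos
  omega

/-- in an `(n-p)`-transitive group with a `p`-cycle, the normalizer of the cycle induces everything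
on the fixed points -/
theorem cycle_normalizer {p : ℕ} [hp : Fact p.Prime] {G : Subgroup (Equiv.Perm α)} {g : Equiv.Perm α}
    (hg : g ∈ G) (hgc : g.IsCycle) (hgp : g.support.card = p)
    (hG : IsMultiplyPretransitive G α (Fintype.card α - p)) (τ : Equiv.Perm α)
    (hτ : ∀ x ∈ g.support, τ x = x) :
    ∃ x ∈ G, (∀ y, y ∉ g.support → x y = τ y) ∧ ∃ i : ℕ, x * g * x⁻¹ = g ^ i := by
  obtain ⟨e, he⟩ := exists_enum (k := Fintype.card α - p) (g.supportᶜ) (by rw [Finset.card_compl, hgp])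
  obtain ⟨⟨y, hy⟩, hye⟩ := hG.exists_smul_eq e (τ • e)
  have hyτ : ∀ z, z ∉ g.support → y z = τ z := by
    intro z hz
    have : z ∈ Set.range e := by rw [he]; simpa using hz
    obtain ⟨i, rfl⟩ := this
    exact congrArg (fun f : Fin (Fintype.card α - p) ↪ α => f i) hye
  have hτs : ∀ z, z ∈ g.support ↔ τ z ∈ g.support := by
    intro z
    constructor
    · intro hz; rw [hτ z hz]; exact hz
    · intro hz
      by_contra hz'
      have h1 := hτ _ hz
      have h2 := τ.injective h1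
      rw [h2] at hz
      exact hz' hz
  -- K = elements of G fixing the complement
  let K : Subgroup (Equiv.Perm α) :=
    { carrier := {k | k ∈ G ∧ ∀ x, x ∉ g.support → k x = x}
      one_mem' := ⟨one_mem _, fun _ _ => rfl⟩
      mul_mem' := fun {a b} ha hb => ⟨mul_mem ha.1 hb.1, fun x hx => by
        show a (b x) = x
        rw [hb.2 x hx, ha.2 x hx]⟩
      inv_mem' := fun {a} ha => ⟨inv_mem ha.1, fun x hx => by
        rw [Equiv.Perm.inv_eq_iff_eq, ha.2 x hx]⟩ }
  have hgK : g ∈ K := ⟨hg, fun x hx => Equiv.Perm.notMem_support.1 hx⟩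
  have hg'K : y * g * y⁻¹ ∈ K := by
    refine ⟨mul_mem (mul_mem hy hg) (inv_mem hy), fun x hx => ?_⟩
    -- x = y z with z not in the support
    obtain ⟨z, rfl⟩ := y.surjective x
    have hz : z ∉ g.support := by
      intro hz
      -- y maps the complement onto the complement
      have h1 : (g.supportᶜ).image y = g.supportᶜ := by
        apply Finset.eq_of_subset_of_card_le
        · intro w hw
          rw [Finset.mem_image] at hw
          obtain ⟨u, hu, rfl⟩ := hw
          rw [Finset.mem_compl] at hu ⊢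
          rw [hyτ u hu, ← hτs]
          exact hu
        · rw [Finset.card_image_of_injective _ y.injective]
      have h2 : y z ∈ (g.supportᶜ).image y := by
        rw [h1, Finset.mem_compl]; exact hx
      rw [Finset.mem_image] at h2
      obtain ⟨u, hu, huz⟩ := h2
      rw [Finset.mem_compl] at hu
      rw [y.injective huz] at hu
      exact hu hz
    show y (g (y⁻¹ (y z))) = y z
    rw [inv_app, Equiv.Perm.notMem_support.1 hz]
  have hKs := not_sq_dvd_of_fix (p := p) K g.support hgp (fun k hk => hk.2)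
  have hgo : orderOf g = p := by rw [hgc.orderOf, hgp]
  obtain ⟨⟨z, hz⟩, i, hzi⟩ := conj_of_not_sq (K := K) hKs (x := ⟨y * g * y⁻¹, hg'K⟩) (y := ⟨g, hgK⟩)
    (by
      rw [← hgo, Subgroup.orderOf_mk]
      have : y * g * y⁻¹ = MulAut.conj y g := rfl
      rw [this]
      exact orderOf_injective (MulAut.conj y).toMonoidHom (MulAut.conj y).injective g)
    (by rw [Subgroup.orderOf_mk]; exact hgo)
  have hzi' : z * (y * g * y⁻¹) * z⁻¹ = g ^ i := congrArg Subtype.val hzi
  refine ⟨z * y, mul_mem hz.1 hy, fun w hw => ?_, i, ?_⟩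
  · show z (y w) = τ w
    rw [hyτ w hw, hz.2]
    rw [← hτs]; exact hw
  · rw [← hzi']; group

theorem jordan_cycle (G : Subgroup (Equiv.Perm α)) (hG : IsPreprimitive G α) {p : ℕ} (hp : p.Prime)
    (hpn : p + 3 ≤ Fintype.card α) {g : Equiv.Perm α} (hgc : g.IsCycle) (hgp : g.support.card = p)
    (hg : g ∈ G) : alternatingGroup α ≤ G := by
  haveI : Fact p.Prime := ⟨hp⟩
  have hp2 := hp.two_le
  by_cases hp3 : p = 3
  · subst hp3
    exact Equiv.Perm.alternatingGroup_le_of_isPreprimitive_of_isThreeCycle_mem hG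
      (card_support_eq_three_iff.1 hgp) hg
  -- multiple transitivity
  have ht := Equiv.Perm.isPretransitive_of_isCycle_mem hgc hg
  have hprim : IsPreprimitive (fixingSubgroup G (g.support : Set α)ᶜ)
      (SubMulAction.ofFixingSubgroup G (g.support : Set α)ᶜ) := by
    apply IsPreprimitive.of_prime_card
    have : Nat.card (SubMulAction.ofFixingSubgroup G (g.support : Set α)ᶜ) = p := by
      rw [← hgp, ← Fintype.card_coe, ← Nat.card_eq_fintype_card]
      refine Nat.card_congr (Equiv.subtypeEquivRight (fun x => ?_))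
      rw [SubMulAction.mem_ofFixingSubgroup_iff]
      simp
    rw [this]; exact hp
  have hcard : ((g.support : Set α)ᶜ).ncard = Fintype.card α - p := by
    rw [← Finset.coe_compl, Set.ncard_coe_finset, Finset.card_compl, hgp]
  obtain ⟨n, hn⟩ : ∃ n, Fintype.card α - p = n + 1 := ⟨Fintype.card α - p - 1, by omega⟩
  have h1 := hG.isMultiplyPreprimitive (s := (g.support : Set α)ᶜ) (n := n) (hcard.trans hn)
    (by rw [Nat.card_eq_fintype_card]; omega) hprim
  have h2 : IsMultiplyPretransitive G α (Fintype.card α - p) := by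
    haveI := h1.isMultiplyPretransitive
    refine isMultiplyPretransitive_of_le (n := n + 2) (by omega) ?_
    rw [Nat.card_eq_fintype_card]; omega
  obtain ⟨a, ha, b, hb, c, hc, hab, hac, hbc⟩ := Finset.two_lt_card.1 (show 2 < (g.supportᶜ).card by
    rw [Finset.card_compl, hgp]; omega)
  rw [Finset.mem_compl] at ha hb hc
  have hτ1 : ∀ x ∈ g.support, Equiv.swap a b x = x := by
    intro x hx
    exact Equiv.swap_apply_of_ne_of_ne (by rintro rfl; exact ha hx) (by rintro rfl; exact hb hx)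
  have hτ2 : ∀ x ∈ g.support, Equiv.swap a c x = x := by
    intro x hx
    exact Equiv.swap_apply_of_ne_of_ne (by rintro rfl; exact ha hx) (by rintro rfl; exact hc hx)
  obtain ⟨x₁, hx₁, hx₁τ, i, hi⟩ := cycle_normalizer hg hgc hgp h2 (Equiv.swap a b) hτ1
  obtain ⟨x₂, hx₂, hx₂τ, j, hj⟩ := cycle_normalizer hg hgc hgp h2 (Equiv.swap a c) hτ2
  obtain ⟨w, hw⟩ : ∃ w, w = x₁⁻¹ * x₂⁻¹ * x₁ * x₂ := ⟨_, rfl⟩
  have hwG : w ∈ G := by
    rw [hw]
    exact mul_mem (mul_mem (mul_mem (inv_mem hx₁) (inv_mem hx₂)) hx₁) hx₂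
  have hwg : w * g = g * w := by
    have e1 : x₁ * x₂ * g * (x₁ * x₂)⁻¹ = g ^ (i * j) := by
      calc x₁ * x₂ * g * (x₁ * x₂)⁻¹ = x₁ * (x₂ * g * x₂⁻¹) * x₁⁻¹ := by group
        _ = x₁ * g ^ j * x₁⁻¹ := by rw [hj]
        _ = (x₁ * g * x₁⁻¹) ^ j := (conj_pow).symm
        _ = g ^ (i * j) := by rw [hi, pow_mul]
    have e2 : x₂ * x₁ * g * (x₂ * x₁)⁻¹ = g ^ (i * j) := by
      calc x₂ * x₁ * g * (x₂ * x₁)⁻¹ = x₂ * (x₁ * g * x₁⁻¹) * x₂⁻¹ := by group
        _ = x₂ * g ^ i * x₂⁻¹ := by rw [hi]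
        _ = (x₂ * g * x₂⁻¹) ^ i := (conj_pow).symm
        _ = g ^ (i * j) := by rw [hj, ← pow_mul, mul_comm]
    have e3 : x₁ * x₂ * g * (x₁ * x₂)⁻¹ = x₂ * x₁ * g * (x₂ * x₁)⁻¹ := e1.trans e2.symm
    have e4 : w = (x₂ * x₁)⁻¹ * (x₁ * x₂) := by rw [hw]; group
    calc w * g = (x₂ * x₁)⁻¹ * (x₁ * x₂ * g * (x₁ * x₂)⁻¹) * (x₁ * x₂) := by rw [e4]; group
      _ = (x₂ * x₁)⁻¹ * (x₂ * x₁ * g * (x₂ * x₁)⁻¹) * (x₁ * x₂) := by rw [e3]
      _ = g * w := by rw [e4]; group
  -- action of w outside the support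
  obtain ⟨ρ, hρ⟩ : ∃ ρ, ρ = (Equiv.swap a b * Equiv.swap a c) ^ 2 := ⟨_, rfl⟩
  have hinv : ∀ (x τ : Equiv.Perm α), (∀ y, y ∉ g.support → x y = τ y) → τ * τ = 1 →
      (∀ y, y ∉ g.support → τ y ∉ g.support) → ∀ y, y ∉ g.support → x⁻¹ y = τ y := by
    intro x τ hx hτ hτs y hy
    rw [Equiv.Perm.inv_eq_iff_eq, hx _ (hτs y hy)]
    have : (τ * τ) y = y := by rw [hτ]; rfl
    exact this.symm
  have hsw : ∀ u v : α, u ∉ g.support → v ∉ g.support → ∀ y, y ∉ g.support → Equiv.swap u v y ∉ g.support := by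
    intro u v hu hv y hy
    rw [Equiv.swap_apply_def]
    split_ifs <;> assumption
  have hwρ : ∀ y, y ∉ g.support → w y = ρ y := by
    intro y hy
    have s1 := hsw a c ha hc y hy
    have s2 := hsw a b ha hb _ s1
    have s3 := hsw a c ha hc _ s2
    rw [hw, hρ, pow_two]
    show x₁⁻¹ (x₂⁻¹ (x₁ (x₂ y))) = Equiv.swap a b (Equiv.swap a c (Equiv.swap a b (Equiv.swap a c y)))
    rw [hx₂τ y hy, hx₁τ _ s1, hinv x₂ _ hx₂τ (Equiv.swap_mul_self _ _) (hsw a c ha hc) _ s2,
      hinv x₁ _ hx₁τ (Equiv.swap_mul_self _ _) (hsw a b ha hb) _ s3]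
  have hρs : ∀ y, y ∈ g.support → ρ y = y := by
    intro y hy
    rw [hρ, pow_two]
    show Equiv.swap a b (Equiv.swap a c (Equiv.swap a b (Equiv.swap a c y))) = y
    rw [hτ2 y hy, hτ1 y hy, hτ2 y hy, hτ1 y hy]
  have hρn : ∀ y, y ∉ g.support → ρ y ∉ g.support := by
    intro y hy hy'
    have := hρs _ hy'
    rw [ρ.injective this] at hy'
    exact hy hy'
  -- w acts as a power of g on the support
  obtain ⟨x₀, hx₀⟩ : ∃ x₀, x₀ ∈ g.support := Finset.card_pos.1 (by omega)
  have hcomm : ∀ (l : ℤ) (y : α), w ((g ^ l) y) = (g ^ l) (w y) := by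
    intro l y
    have : w * g ^ l = g ^ l * w := (Commute.zpow_right (show Commute w g from hwg) l)
    exact congrArg (fun f : Equiv.Perm α => f y) this
  have hwx₀ : w x₀ ∈ g.support := by
    rw [Equiv.Perm.mem_support] at hx₀ ⊢
    intro h
    apply hx₀
    have h3 := hcomm 1 x₀
    rw [zpow_one, h] at h3
    exact w.injective h3
  obtain ⟨m, hm⟩ : ∃ m : ℤ, (g ^ m) x₀ = w x₀ :=
    hgc.sameCycle (Equiv.Perm.mem_support.1 hx₀) (Equiv.Perm.mem_support.1 hwx₀)
  have hwm : ∀ y ∈ g.support, w y = (g ^ m) y := by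
    intro y hy
    obtain ⟨l, rfl⟩ : ∃ l : ℤ, (g ^ l) x₀ = y :=
      hgc.sameCycle (Equiv.Perm.mem_support.1 hx₀) (Equiv.Perm.mem_support.1 hy)
    rw [hcomm, ← hm, ← Equiv.Perm.mul_apply, ← Equiv.Perm.mul_apply, ← zpow_add, ← zpow_add, add_comm]
  have hpow1 : ∀ (r : ℕ) (y : α), y ∈ g.support → (w ^ r) y = ((g ^ m) ^ r) y ∧ (w ^ r) y ∈ g.support := by
    intro r
    induction r with
    | zero => intro y hy; exact ⟨rfl, hy⟩
    | succ r ih =>
      intro y hy
      obtain ⟨h3, h4⟩ := ih y hy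
      rw [pow_succ', pow_succ', Equiv.Perm.mul_apply, Equiv.Perm.mul_apply, ← h3, hwm _ h4]
      exact ⟨rfl, Equiv.Perm.zpow_apply_mem_support.2 h4⟩
  have hpow2 : ∀ (r : ℕ) (y : α), y ∉ g.support → (w ^ r) y = (ρ ^ r) y ∧ (ρ ^ r) y ∉ g.support := by
    intro r
    induction r with
    | zero => intro y hy; exact ⟨rfl, hy⟩
    | succ r ih =>
      intro y hy
      obtain ⟨h3, h4⟩ := ih y hy
      rw [pow_succ', pow_succ', Equiv.Perm.mul_apply, Equiv.Perm.mul_apply, h3, hwρ _ h4]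
      exact ⟨rfl, hρn _ h4⟩
  have hgo : g ^ p = 1 := by
    have h3 := pow_orderOf_eq_one g
    rwa [hgc.orderOf, hgp] at h3
  have hwp : w ^ p = ρ ^ p := by
    ext y
    by_cases hy : y ∈ g.support
    · rw [(hpow1 p y hy).1, ← zpow_natCast, ← zpow_mul, mul_comm, zpow_mul, zpow_natCast, hgo, one_zpow]
      have : ∀ r : ℕ, (ρ ^ r) y = y := by
        intro r
        induction r with
        | zero => rfl
        | succ r ih => rw [pow_succ', Equiv.Perm.mul_apply, ih, hρs y hy]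
      rw [this]; rfl
    · exact (hpow2 p y hy).1
  have h3c : (Equiv.swap a b * Equiv.swap a c).IsThreeCycle :=
    Equiv.Perm.isThreeCycle_swap_mul_swap_same hab hac hbc
  have hρ3 : ρ.IsThreeCycle := by
    rw [hρ, pow_two]; exact h3c.isThreeCycle_sq
  have hρp : (ρ ^ p).IsThreeCycle := by
    have h4 : ρ ^ p = ρ ^ (p % 3) := by
      rw [← hρ3.orderOf, pow_mod_orderOf]
    rw [h4]
    have h5 : p % 3 = 1 ∨ p % 3 = 2 := by
      have : p % 3 ≠ 0 := by
        intro h
        have := (Nat.prime_dvd_prime_iff_eq Nat.prime_three hp).1 (Nat.dvd_of_mod_eq_zero h)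
        exact hp3 this.symm
      omega
    rcases h5 with h5 | h5 <;> rw [h5]
    · rw [pow_one]; exact hρ3
    · rw [pow_two]; exact hρ3.isThreeCycle_sq
  exact Equiv.Perm.alternatingGroup_le_of_isPreprimitive_of_isThreeCycle_mem hG hρp
    (by rw [← hwp]; exact pow_mem hwG p)

end

end Cfsg.Agent.H10
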