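import Mathlib
import Cfsg.Agent.H10.Perm13
import Cfsg.Agent.H21.Socle

set_option autoImplicit false
set_option linter.all false
set_option maxHeartbeats 400000

/-!
# H10.Perm18: normal subgroups of doubly transitive groups (Burnside)
-/

namespace Cfsg.Agent.H10

open MulAction
open scoped Pointwise

section
variable {G : Type*} [Group G] {X : Type*} [MulAction G X]

theorem card_orbit_sub (K : Subgroup G) (x : X) :
    Nat.card (orbit K x) * Nat.card (K ⊓ stabilizer G x : Subgroup G) = Nat.card K := by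
  rw [← card_orb_mul (H := K) x]
  congr 1
  exact Nat.card_congr ⟨fun g => ⟨⟨g, g.2.1⟩, g.2.2⟩, fun g => ⟨(g : K), (g : K).2, g.2⟩, fun g => rfl, fun g => rfl⟩

theorem half_trans_aux [Finite X] [FaithfulSMul G X] {N : Subgroup G} (ht : IsPretransitive N X) {c : ℕ}
    (hc : ∀ a b : X, a ≠ b → Nat.card (N ⊓ stabilizer G a ⊓ stabilizer G b : Subgroup G) = c)
    (B : Set X) (hB : IsBlock N B) (hB1 : B.Nontrivial) (a x₀ : X) (ha : a ∉ B) (hx₀ : x₀ ∈ B) :
    ∀ n ∈ N, n • a = a → n • x₀ = x₀ → ∀ y ∈ B, n • y = y := by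
  haveI : Finite G := Finite.of_injective _ (MulAction.toPerm_injective (α := G) (β := X))
  have hax : a ≠ x₀ := by rintro rfl; exact ha hx₀
  have hc0 : 0 < c := by rw [← hc a x₀ hax]; exact Nat.card_pos
  obtain ⟨A, hA⟩ : ∃ A, A = Nat.card (N ⊓ stabilizer G a : Subgroup G) := ⟨_, rfl⟩
  have hAx : Nat.card (N ⊓ stabilizer G x₀ : Subgroup G) = A := by
    have e1 := card_orbit_sub N a
    have e2 := card_orbit_sub N x₀
    haveI := ht
    rw [orbit_eq_univ] at e1 e2
    rw [hA]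
    rw [← e1] at e2
    exact Nat.eq_of_mul_eq_mul_left (by
      haveI : Nonempty X := ⟨a⟩
      rw [Nat.card_coe_set_eq, Set.ncard_univ]; exact Nat.card_pos) e2
  have hsm : ∀ n ∈ N, ∀ y ∈ B, n • y ∈ B → ∀ z ∈ B, n • z ∈ B := by
    intro n hn y hy hny z hz
    have h1 : (⟨n, hn⟩ : N) • B = B := hB.smul_eq_of_mem hy hny
    rw [← h1]
    exact ⟨z, hz, rfl⟩
  -- divisibility for x₀
  have hd1 : A / c ∣ Nat.card (B \ {x₀} : Set X) := by
    apply dvd_card_of_orbits (H := (N ⊓ stabilizer G x₀ : Subgroup G))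
    · rintro ⟨n, hn⟩ y ⟨hy, hyx⟩
      have hnx : n • x₀ = x₀ := hn.2
      refine ⟨hsm n hn.1 x₀ hx₀ (by rw [hnx]; exact hx₀) y hy, ?_⟩
      intro h
      have h' : n • y = x₀ := h
      apply hyx
      rw [← hnx] at h'
      exact (smul_left_cancel_iff n).1 h'
    · rintro y ⟨hy, hyx⟩
      have e1 := card_orbit_sub (N ⊓ stabilizer G x₀) y
      rw [hc x₀ y (Ne.symm hyx), hAx] at e1
      rw [← e1, Nat.mul_div_cancel _ hc0]
  -- K
  let K : Subgroup G := N ⊓ stabilizer G a ⊓ stabilizer G B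
  have hKB : ∀ k ∈ K, ∀ y ∈ B, k • y ∈ B := by
    rintro k ⟨-, hk⟩ y hy
    have hk' : k • B = B := hk
    rw [← hk']; exact ⟨y, hy, rfl⟩
  have hKy : ∀ y ∈ B, K ⊓ stabilizer G y = N ⊓ stabilizer G a ⊓ stabilizer G y := by
    intro y hy
    apply le_antisymm
    · exact fun k hk => ⟨hk.1.1, hk.2⟩
    · rintro k ⟨⟨hkN, hka⟩, hky⟩
      refine ⟨⟨⟨hkN, hka⟩, ?_⟩, hky⟩
      have hky' : k • y = y := hky
      have h1 : (⟨k, hkN⟩ : N) • B = B := hB.smul_eq_of_mem hy (show k • y ∈ B by rw [hky']; exact hy)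
      exact h1
  have hKo : ∀ y ∈ B, Nat.card (orbit K y) = Nat.card K / c := by
    intro y hy
    have hay : a ≠ y := by rintro rfl; exact ha hy
    have e1 := card_orbit_sub K y
    rw [hKy y hy, hc a y hay] at e1
    rw [← e1, Nat.mul_div_cancel _ hc0]
  have hd2 : Nat.card K / c ∣ Nat.card B := by
    apply dvd_card_of_orbits (H := K)
    · rintro ⟨k, hk⟩ y hy
      exact hKB k hk y hy
    · exact hKo
  have hcK : c ∣ Nat.card K := by
    have e1 := card_orbit_sub K x₀
    rw [hKy x₀ hx₀, hc a x₀ hax] at e1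
    exact ⟨_, by rw [← e1, mul_comm]⟩
  have hd3 : Nat.card K / c ∣ A / c := by
    apply Nat.div_dvd_div hcK
    rw [hA]
    exact Subgroup.card_dvd_of_le inf_le_left
  have hB3 : Nat.card (B \ {x₀} : Set X) + 1 = Nat.card B := by
    rw [Nat.card_coe_set_eq, Nat.card_coe_set_eq]
    exact Set.ncard_diff_singleton_add_one hx₀ (Set.toFinite _)
  rw [← hB3] at hd2
  have hK1 : Nat.card K / c = 1 := Nat.dvd_one.1 ((Nat.dvd_add_right (hd3.trans hd1)).1 hd2)
  intro n hn hna hnx y hy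
  have hnK : n ∈ K := by
    have : n ∈ K ⊓ stabilizer G x₀ := by rw [hKy x₀ hx₀]; exact ⟨⟨hn, hna⟩, hnx⟩
    exact this.1
  have h1 := hKo y hy
  rw [hK1, Nat.card_eq_one_iff_unique] at h1
  haveI := h1.1
  exact congrArg Subtype.val (Subsingleton.elim (⟨n • y, ⟨⟨n, hnK⟩, rfl⟩⟩ : orbit K y) ⟨y, mem_orbit_self y⟩)

/-- an imprimitive transitive group all of whose 2-point stabilizers have the same order is
a Frobenius group or regular (Wielandt) -/
theorem half_trans_imprim [Finite X] [FaithfulSMul G X] {N : Subgroup G} (ht : IsPretransitive N X) {c : ℕ}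
    (hc : ∀ a b : X, a ≠ b → Nat.card (N ⊓ stabilizer G a ⊓ stabilizer G b : Subgroup G) = c)
    (B : Set X) (hB : IsBlock N B) (hB1 : B.Nontrivial) (hB2 : B ≠ Set.univ) :
    ∀ n ∈ N, ∀ a b : X, a ≠ b → n • a = a → n • b = b → n = 1 := by
  haveI : Finite G := Finite.of_injective _ (MulAction.toPerm_injective (α := G) (β := X))
  obtain ⟨x, hx, y, hy, hxy⟩ := hB1
  obtain ⟨b₀, hb₀⟩ := (Set.ne_univ_iff_exists_notMem B).1 hB2
  have hB1 : B.Nontrivial := ⟨x, hx, y, hy, hxy⟩
  -- N_{xb} = N_{xy}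
  have key : ∀ b, b ∉ B → (N ⊓ stabilizer G x ⊓ stabilizer G b : Subgroup G) = N ⊓ stabilizer G x ⊓ stabilizer G y := by
    intro b hb
    apply Subgroup.eq_of_le_of_card_ge
    · rintro n ⟨⟨hn, hnx⟩, hnb⟩
      exact ⟨⟨hn, hnx⟩, half_trans_aux ht hc B hB hB1 b x hb hx n hn hnb hnx y hy⟩
    · rw [hc x y hxy, hc x b (by rintro rfl; exact hb hx)]
  have htriv : (N ⊓ stabilizer G x ⊓ stabilizer G y : Subgroup G) = ⊥ := by
    rw [eq_bot_iff]
    intro n hn
    rw [Subgroup.mem_bot]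
    apply FaithfulSMul.eq_of_smul_eq_smul (α := X)
    intro z
    rw [one_smul]
    by_cases hz : z ∈ B
    · have h1 := hn
      rw [← key b₀ hb₀] at h1
      exact half_trans_aux ht hc B hB hB1 b₀ x hb₀ hx n h1.1.1 h1.2 h1.1.2 z hz
    · rw [← key z hz] at hn
      exact hn.2
  have hc1 : c = 1 := by
    rw [← hc x y hxy, htriv, Subgroup.card_bot]
  intro n hn a b hab hna hnb
  have h1 := hc a b hab
  rw [hc1, Subgroup.card_eq_one] at h1
  have h2 : n ∈ (N ⊓ stabilizer G a ⊓ stabilizer G b : Subgroup G) := ⟨⟨hn, hna⟩, hnb⟩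
  rw [h1] at h2
  exact Subgroup.mem_bot.1 h2

end

theorem card_fpf_gen {G : Type*} [Group G] [Finite G] {α : Type*} [MulAction G α] [Finite α] [hne : Nonempty α]
    [IsPretransitive G α] (hs : ∀ (g : G) (a b : α), a ≠ b → g • a = a → g • b = b → g = 1) :
    Nat.card {g : G // ∀ a : α, g • a ≠ a} = Nat.card α - 1 := by
  classical
  haveI : Fintype α := Fintype.ofFinite α
  haveI : Fintype G := Fintype.ofFinite G
  haveI : ∀ g : G, Fintype (fixedBy α g) := fun g => Fintype.ofFinite _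
  have h1 := sum_card_fixedBy_eq_card_orbits_mul_card_group G α
  have h3 : Fintype.card (orbitRel.Quotient G α) = 1 := by
    rw [Fintype.card_eq_one_iff_nonempty_unique]
    haveI : Subsingleton (orbitRel.Quotient G α) := (pretransitive_iff_subsingleton_quotient G α).1 inferInstance
    exact ⟨⟨⟨Quotient.mk'' (Classical.arbitrary α)⟩, fun x => Subsingleton.elim _ _⟩⟩
  rw [h3, one_mul] at h1
  have hle : ∀ g : G, g ≠ 1 → Fintype.card (fixedBy α g) ≤ 1 := by
    intro g hg
    rw [Fintype.card_le_one_iff_subsingleton]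
    refine ⟨fun x y => Subtype.ext ?_⟩
    by_contra hxy
    exact hg (hs g x y hxy x.2 y.2)
  have hfix1 : Fintype.card (fixedBy α (1 : G)) = Nat.card α := by
    rw [← Nat.card_eq_fintype_card]
    have : fixedBy α (1 : G) = Set.univ := by
      ext x; simp [mem_fixedBy]
    rw [this, Nat.card_coe_set_eq, Set.ncard_univ]
  have h4 : ∑ g : G, (Fintype.card (fixedBy α g)) =
      Nat.card α + ∑ g ∈ Finset.univ.erase (1 : G), Fintype.card (fixedBy α g) := by
    rw [← Finset.add_sum_erase _ _ (Finset.mem_univ (1 : G)), hfix1]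
  have h5 : ∑ g ∈ Finset.univ.erase (1 : G), Fintype.card (fixedBy α g) +
      (Finset.univ.filter fun g : G => ∀ a : α, g • a ≠ a).card = Fintype.card G - 1 := by
    have e1 : (Finset.univ.filter fun g : G => ∀ a : α, g • a ≠ a).card =
        ∑ g ∈ Finset.univ.erase (1 : G), if (∀ a : α, g • a ≠ a) then 1 else 0 := by
      rw [Finset.card_filter]
      rw [← Finset.add_sum_erase _ _ (Finset.mem_univ (1 : G)), if_neg, zero_add]
      intro hcon
      exact hcon (Classical.arbitrary α) (one_smul _ _)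
    rw [e1, ← Finset.sum_add_distrib]
    have e2 : ∀ g ∈ Finset.univ.erase (1 : G),
        Fintype.card (fixedBy α g) + (if (∀ a : α, g • a ≠ a) then 1 else 0) = 1 := by
      intro g hg
      have hg1 := hle g (Finset.ne_of_mem_erase hg)
      split_ifs with hf
      · have : Fintype.card (fixedBy α g) = 0 := by
          rw [Fintype.card_eq_zero_iff]
          exact ⟨fun x => hf x x.2⟩
        omega
      · push Not at hf
        obtain ⟨a, ha⟩ := hf
        have : 0 < Fintype.card (fixedBy α g) := Fintype.card_pos_iff.2 ⟨⟨a, ha⟩⟩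
        omega
    rw [Finset.sum_congr rfl e2, Finset.sum_const, smul_eq_mul, mul_one,
      Finset.card_erase_of_mem (Finset.mem_univ _), Finset.card_univ]
  have h6 : Nat.card {g : G // ∀ a : α, g • a ≠ a} =
      (Finset.univ.filter fun g : G => ∀ a : α, g • a ≠ a).card := by
    rw [Nat.card_eq_fintype_card, Fintype.card_subtype]
  have hpos : 0 < Fintype.card G := Fintype.card_pos
  omega

theorem frob_like {G : Type*} [Group G] {X : Type*} [MulAction G X] [Finite X] [FaithfulSMul G X]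
    (h2 : IsMultiplyPretransitive G X 2) (hX : 2 ≤ Nat.card X) {N : Subgroup G} [hN : N.Normal]
    (ht : IsPretransitive N X) (hs : ∀ n ∈ N, ∀ a b : X, a ≠ b → n • a = a → n • b = b → n = 1) :
    ∃ (p : ℕ) (P : Subgroup G), p.Prime ∧ P.Normal ∧ P ≤ N ∧ IsPGroup p P ∧ P ≠ ⊥ ∧
      (∀ x, x ∈ P ↔ x ∈ N ∧ (x = 1 ∨ ∀ a : X, x • a ≠ a)) := by
  haveI : Finite G := Finite.of_injective _ (MulAction.toPerm_injective (α := G) (β := X))
  haveI : Nontrivial X := Finite.one_lt_card_iff_nontrivial.1 hX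
  obtain ⟨a₀⟩ : Nonempty X := inferInstance
  have h2' : ∀ {a b c d : X}, a ≠ b → c ≠ d → ∃ g : G, g • a = c ∧ g • b = d :=
    is_two_pretransitive_iff.1 h2
  have hF : Nat.card {g : N // ∀ a : X, g • a ≠ a} = Nat.card X - 1 :=
    card_fpf_gen (fun g a b hab ha hb => Subtype.ext (hs g g.2 a b hab ha hb))
  have hconj : ∀ (g : G) (x : N), (∀ a : X, x • a ≠ a) → ∀ a : X, (g * x * g⁻¹) • a ≠ a := by
    intro g x hx a h
    apply hx (g⁻¹ • a)
    show (x : G) • g⁻¹ • a = g⁻¹ • a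
    rw [mul_smul, mul_smul] at h
    rw [eq_inv_smul_iff]; exact h
  obtain ⟨⟨x₀, hx₀⟩⟩ : Nonempty {g : N // ∀ a : X, g • a ≠ a} := by
    rw [← not_isEmpty_iff]
    intro h
    rw [Nat.card_of_isEmpty] at hF
    omega
  let φ : {g : N // ∀ a : X, g • a ≠ a} → {b : X // b ≠ a₀} := fun g => ⟨(g : N) • a₀, g.2 a₀⟩
  have hφs : Function.Surjective φ := by
    rintro ⟨b, hb⟩
    obtain ⟨g, hg1, hg2⟩ := h2' (a := x₀ • a₀) (b := a₀) (c := b) (d := a₀) (hx₀ a₀) hb
    refine ⟨⟨⟨g * x₀ * g⁻¹, hN.conj_mem x₀ x₀.2 g⟩, hconj g x₀ hx₀⟩, ?_⟩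
    apply Subtype.ext
    show (g * (x₀ : G) * g⁻¹) • a₀ = b
    have h3 : g⁻¹ • a₀ = a₀ := by rw [inv_smul_eq_iff, hg2]
    rw [mul_smul, mul_smul, h3]; exact hg1
  have hφc : Nat.card {b : X // b ≠ a₀} = Nat.card X - 1 := by
    have := SubMulAction.nat_card_ofStabilizer_eq G a₀
    exact this
  have hφi : Function.Injective φ :=
    ((Nat.bijective_iff_surjective_and_card φ).2 ⟨hφs, by rw [hF, hφc]⟩).1
  have hall : ∀ x y : N, (∀ a : X, x • a ≠ a) → (∀ a : X, y • a ≠ a) → ∃ g : G, g * x * g⁻¹ = y := by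
    intro x y hx hy
    obtain ⟨g, hg1, hg2⟩ := h2' (a := x • a₀) (b := a₀) (c := y • a₀) (d := a₀) (hx a₀) (hy a₀)
    have h3 : g⁻¹ • a₀ = a₀ := by rw [inv_smul_eq_iff, hg2]
    have h4 := @hφi ⟨⟨g * x * g⁻¹, hN.conj_mem x x.2 g⟩, hconj g x hx⟩ ⟨y, hy⟩ (by
      apply Subtype.ext
      show (g * (x : G) * g⁻¹) • a₀ = y • a₀
      rw [mul_smul, mul_smul, h3]; exact hg1)
    exact ⟨g, congrArg (fun z : {g : N // ∀ a : X, g • a ≠ a} => ((z : N) : G)) h4⟩
  -- orders
  obtain ⟨A, hA⟩ : ∃ A, A = Nat.card (stabilizer N a₀) := ⟨_, rfl⟩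
  have hNA : Nat.card N = Nat.card X * A := by
    have e1 := card_orb_mul (H := N) a₀
    rw [orbit_eq_univ, Nat.card_coe_set_eq, Set.ncard_univ] at e1
    rw [← e1, hA]
  have hA1 : ∀ a : X, Nat.card (stabilizer N a) = A := by
    intro a
    have e1 := card_orb_mul (H := N) a
    rw [orbit_eq_univ, Nat.card_coe_set_eq, Set.ncard_univ, hNA] at e1
    exact Nat.eq_of_mul_eq_mul_left (by omega) e1
  have hAd : A ∣ Nat.card X - 1 := by
    have h3 : A ∣ Nat.card ((Set.univ : Set X) \ {a₀} : Set X) := by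
      apply dvd_card_of_orbits (H := stabilizer N a₀)
      · rintro ⟨n, hn⟩ x ⟨-, hx⟩
        refine ⟨trivial, fun h => hx ?_⟩
        have h' : n • x = a₀ := h
        have hn' : n • a₀ = a₀ := hn
        rw [← hn', smul_left_cancel_iff] at h'
        exact h'
      · rintro x ⟨-, hx⟩
        have e1 := card_orb_mul (H := stabilizer N a₀) x
        have e2 : stabilizer (stabilizer N a₀) x = ⊥ := by
          rw [eq_bot_iff]
          rintro ⟨n, hn⟩ hnx
          rw [Subgroup.mem_bot]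
          apply Subtype.ext; apply Subtype.ext
          exact hs n n.2 a₀ x (Ne.symm hx) hn hnx
        rw [e2, Subgroup.card_bot, mul_one, ← hA] at e1
        exact e1
    have h4 : Nat.card ((Set.univ : Set X) \ {a₀} : Set X) + 1 = Nat.card X := by
      rw [Nat.card_coe_set_eq, Set.ncard_diff_singleton_add_one (Set.mem_univ a₀) (Set.toFinite _), Set.ncard_univ]
    rw [← h4, Nat.add_sub_cancel]
    exact h3
  have hcop : ∀ q : ℕ, q.Prime → q ∣ Nat.card X → ¬ q ∣ A := by
    intro q hq h3 h4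
    have h5 := h4.trans hAd
    have h6 : q ∣ 1 := by
      have := (Nat.dvd_sub h3 h5)
      rwa [show Nat.card X - (Nat.card X - 1) = 1 by omega] at this
    exact hq.one_lt.ne' (Nat.dvd_one.1 h6)
  have hpel : ∀ q : ℕ, q.Prime → q ∣ Nat.card X → ∀ y : N, y ≠ 1 → (∃ k, orderOf y = q ^ k) → ∀ a : X, y • a ≠ a := by
    intro q hq hqX y hy1 ⟨k, hk⟩ a hya
    have h3 : orderOf y ∣ A := by
      rw [← hA1 a, ← Subgroup.orderOf_mk (H := stabilizer N a) y hya]
      exact orderOf_dvd_natCard _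
    rcases k with _ | k
    · rw [pow_zero, orderOf_eq_one_iff] at hk; exact hy1 hk
    · apply hcop q hq hqX
      rw [hk] at h3
      exact (dvd_pow_self q (by omega)).trans h3
  have hpex : ∀ q : ℕ, q.Prime → q ∣ Nat.card X → ∃ y : N, orderOf y = q ∧ ∀ a : X, y • a ≠ a := by
    intro q hq hqX
    haveI : Fact q.Prime := ⟨hq⟩
    obtain ⟨y, hy⟩ := exists_prime_orderOf_dvd_card' (G := N) q (by rw [hNA]; exact hqX.mul_right _)
    refine ⟨y, hy, hpel q hq hqX y ?_ ⟨1, by rw [hy, pow_one]⟩⟩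
    rintro rfl
    rw [orderOf_one] at hy
    exact hq.one_lt.ne hy
  obtain ⟨p, hp, hpX⟩ := Nat.exists_prime_and_dvd (show Nat.card X ≠ 1 by omega)
  haveI : Fact p.Prime := ⟨hp⟩
  obtain ⟨y, hyp, hyf⟩ := hpex p hp hpX
  have hord : ∀ x : N, (∀ a : X, x • a ≠ a) → orderOf x = p := by
    intro x hx
    obtain ⟨g, hg⟩ := hall y x hyf hx
    rw [← hyp, ← Subgroup.orderOf_coe, ← Subgroup.orderOf_coe, ← hg]
    have : g * (y : G) * g⁻¹ = MulAut.conj g y := rfl
    rw [this]
    exact orderOf_injective (MulAut.conj g).toMonoidHom (MulAut.conj g).injective _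
  have hXp : Nat.card X = p ^ (Nat.card X).primeFactorsList.length := by
    apply Nat.eq_prime_pow_of_unique_prime_dvd (by omega)
    intro q hq hqX
    obtain ⟨z, hz, hzf⟩ := hpex q hq hqX
    rw [← hz, hord z hzf]
  obtain ⟨e, he⟩ : ∃ e, Nat.card X = p ^ e := ⟨_, hXp⟩
  obtain ⟨Q⟩ : Nonempty (Sylow p N) := inferInstance
  have hQc : Nat.card Q = Nat.card X := by
    rw [Q.card_eq_multiplicity, hNA, Nat.factorization_mul (by omega) (by rw [hA]; exact Nat.card_pos.ne'),
      Finsupp.add_apply, Nat.factorization_eq_zero_of_not_dvd (hcop p hp hpX), add_zero]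
    nth_rewrite 1 [he]
    rw [hp.factorization_pow, Finsupp.single_eq_same, he]
  have hQf : ∀ x : N, x ∈ Q → x = 1 ∨ ∀ a : X, x • a ≠ a := by
    intro x hx
    by_cases hx1 : x = 1
    · exact Or.inl hx1
    · right
      apply hpel p hp hpX x hx1
      obtain ⟨k, hk⟩ := (IsPGroup.iff_orderOf.1 Q.isPGroup') ⟨x, hx⟩
      exact ⟨k, by rw [← hk]; exact (Subgroup.orderOf_mk (H := (Q : Subgroup N)) x hx).symm⟩
  have hfQ : ∀ x : N, (∀ a : X, x • a ≠ a) → x ∈ Q := by
    let ψ : {z : (Q : Subgroup N) // z ≠ 1} → {g : N // ∀ a : X, g • a ≠ a} := fun z =>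
      ⟨((z : (Q : Subgroup N)) : N), (hQf _ (z : (Q : Subgroup N)).2).resolve_left (fun h => z.2 (Subtype.ext h))⟩
    have hψi : Function.Injective ψ := by
      intro z w h
      have h3 : ((z : (Q : Subgroup N)) : N) = ((w : (Q : Subgroup N)) : N) :=
        congrArg (fun u : {g : N // ∀ a : X, g • a ≠ a} => (u : N)) h
      exact Subtype.ext (Subtype.ext h3)
    have hψc : Nat.card {z : (Q : Subgroup N) // z ≠ 1} = Nat.card X - 1 := by
      have h3 : Nat.card {z : (Q : Subgroup N) // z ≠ 1} + 1 = Nat.card (Q : Subgroup N) := by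
        have := Set.ncard_diff_singleton_add_one (Set.mem_univ (1 : (Q : Subgroup N))) (Set.toFinite _)
        rw [Set.ncard_univ] at this
        rw [← this, ← Nat.card_coe_set_eq]
        congr 1
        apply Nat.card_congr
        exact Equiv.subtypeEquivRight (fun z => by simp)
      have h4 : Nat.card (Q : Subgroup N) = Nat.card X := hQc
      omega
    have hψs := ((Nat.bijective_iff_injective_and_card ψ).2 ⟨hψi, by rw [hψc, hF]⟩).2
    intro x hx
    obtain ⟨z, hz⟩ := hψs ⟨x, hx⟩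
    have h3 : ((z : (Q : Subgroup N)) : N) = x := congrArg Subtype.val hz
    rw [← h3]
    exact (z : (Q : Subgroup N)).2
  have hmem : ∀ x : G, x ∈ (Q : Subgroup N).map N.subtype ↔ x ∈ N ∧ (x = 1 ∨ ∀ a : X, x • a ≠ a) := by
    intro x
    constructor
    · rintro ⟨z, hz, rfl⟩
      refine ⟨z.2, ?_⟩
      rcases hQf z hz with h | h
      · left; rw [h]; rfl
      · right; exact h
    · rintro ⟨hx, h⟩
      refine ⟨⟨x, hx⟩, ?_, rfl⟩
      rcases h with h | h
      · have : (⟨x, hx⟩ : N) = 1 := Subtype.ext h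
        rw [this]; exact one_mem _
      · exact hfQ ⟨x, hx⟩ h
  refine ⟨p, (Q : Subgroup N).map N.subtype, hp, ?_, ?_, Q.isPGroup'.map _, ?_, hmem⟩
  · constructor
    intro x hx g
    rw [hmem] at hx ⊢
    refine ⟨hN.conj_mem x hx.1 g, ?_⟩
    rcases hx.2 with h | h
    · left; rw [h]; group
    · right; exact hconj g ⟨x, hx.1⟩ h
  · exact fun x hx => ((hmem x).1 hx).1
  · intro h
    have h3 : (x₀ : G) ∈ (Q : Subgroup N).map N.subtype := (hmem _).2 ⟨x₀.2, Or.inr hx₀⟩
    rw [h, Subgroup.mem_bot] at h3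
    apply hx₀ a₀
    show (x₀ : G) • a₀ = a₀
    rw [h3, one_smul]

end Cfsg.Agent.H10
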