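import Mathlib
import Cfsg.Agent.H10.Perm18
import Cfsg.Agent.H10.Perm15

set_option autoImplicit false
set_option linter.all false
set_option maxHeartbeats 400000

/-!
# H10.Perm19: Wagner's theorem on normal subgroups of triply transitive groups of odd degree
-/

namespace Cfsg.Agent.H10

open MulAction
open scoped Pointwise

theorem inj3 {X : Type*} {a b c : X} (hab : a ≠ b) (hac : a ≠ c) (hbc : b ≠ c) :
    Function.Injective ![a, b, c] := by
  intro i j hij
  fin_cases i <;> fin_cases j <;> first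
    | rfl
    | exact absurd hij hab
    | exact absurd hij hac
    | exact absurd hij hbc
    | exact absurd hij.symm hab
    | exact absurd hij.symm hac
    | exact absurd hij.symm hbc

/-- the setwise stabilizer of a pair in a subgroup -/
def pairStab {G : Type*} [Group G] {X : Type*} [MulAction G X] (N : Subgroup G) (a b : X) : Subgroup G where
  carrier := {n | n ∈ N ∧ ((n • a = a ∧ n • b = b) ∨ (n • a = b ∧ n • b = a))}
  one_mem' := ⟨one_mem _, Or.inl ⟨one_smul _ _, one_smul _ _⟩⟩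
  mul_mem' := by
    rintro m n ⟨hm, hm'⟩ ⟨hn, hn'⟩
    refine ⟨mul_mem hm hn, ?_⟩
    rcases hm' with ⟨h1, h2⟩ | ⟨h1, h2⟩ <;> rcases hn' with ⟨h3, h4⟩ | ⟨h3, h4⟩ <;>
      simp [mul_smul, h1, h2, h3, h4]
  inv_mem' := by
    rintro m ⟨hm, hm'⟩
    refine ⟨inv_mem hm, ?_⟩
    rcases hm' with ⟨h1, h2⟩ | ⟨h1, h2⟩
    · left; exact ⟨inv_smul_eq_iff.2 h1.symm, inv_smul_eq_iff.2 h2.symm⟩
    · right; exact ⟨inv_smul_eq_iff.2 h2.symm, inv_smul_eq_iff.2 h1.symm⟩

theorem mem_pairStab {G : Type*} [Group G] {X : Type*} [MulAction G X] {N : Subgroup G} {a b : X} {n : G} :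
    n ∈ pairStab N a b ↔ n ∈ N ∧ ((n • a = a ∧ n • b = b) ∨ (n • a = b ∧ n • b = a)) := Iff.rfl

theorem card_orbit_le_two {G : Type*} [Group G] {X : Type*} [MulAction G X] {K : Subgroup G} {a b : X}
    (h : ∀ k ∈ K, k • a = a ∨ k • a = b) : Nat.card (orbit K a) = 1 ∨ Nat.card (orbit K a) = 2 := by
  have h1 : orbit K a ⊆ {a, b} := by
    rintro _ ⟨⟨k, hk⟩, rfl⟩
    rcases h k hk with h2 | h2
    · left; exact h2
    · right; exact h2
  have h2 : (orbit K a).ncard ≤ 2 := (Set.ncard_le_ncard h1 (Set.toFinite _)).trans (by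
    have := Set.ncard_insert_le a ({b} : Set X)
    rw [Set.ncard_singleton] at this
    exact this)
  have h3 : 0 < (orbit K a).ncard := by
    rw [Set.ncard_pos ((Set.toFinite _).subset h1)]
    exact ⟨a, mem_orbit_self a⟩
  rw [Nat.card_coe_set_eq]
  omega

/-- Wagner's theorem -/
theorem wagner {G : Type*} [Group G] {X : Type*} [MulAction G X] [Finite X] [FaithfulSMul G X]
    (hodd : Odd (Nat.card X)) (h5 : 5 ≤ Nat.card X) (h3 : IsMultiplyPretransitive G X 3)
    {N : Subgroup G} [hN : N.Normal] (hN2 : IsMultiplyPretransitive N X 2) :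
    IsMultiplyPretransitive N X 3 := by
  classical
  haveI : Finite G := Finite.of_injective _ (MulAction.toPerm_injective (α := G) (β := X))
  haveI : Nontrivial X := Finite.one_lt_card_iff_nontrivial.1 (by omega)
  obtain ⟨a, b, hab⟩ := exists_pair_ne X
  haveI := Fintype.ofFinite X
  have hN2' : ∀ {a b c d : X}, a ≠ b → c ≠ d → ∃ g : N, g • a = c ∧ g • b = d :=
    is_two_pretransitive_iff.1 hN2
  obtain ⟨D, hD⟩ : ∃ D, D = pairStab N a b := ⟨_, rfl⟩
  have hDmem : ∀ n, n ∈ D ↔ n ∈ N ∧ ((n • a = a ∧ n • b = b) ∨ (n • a = b ∧ n • b = a)) := by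
    intro n; rw [hD]; exact mem_pairStab
  -- transitivity of G_{ab} on the rest
  have hGab : ∀ c d : X, c ≠ a → c ≠ b → d ≠ a → d ≠ b → ∃ g : G, g • a = a ∧ g • b = b ∧ g • c = d := by
    intro c d hca hcb hda hdb
    let x : Fin 3 ↪ X := ⟨![a, b, c], inj3 hab hca.symm hcb.symm⟩
    let y : Fin 3 ↪ X := ⟨![a, b, d], inj3 hab hda.symm hdb.symm⟩
    obtain ⟨g, hg⟩ := h3.exists_smul_eq x y
    have hg' : ∀ i, g • x i = y i := fun i => by rw [← hg]; rfl
    exact ⟨g, hg' 0, hg' 1, hg' 2⟩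
  have hconj : ∀ g : G, g • a = a → g • b = b → ∀ n ∈ D, g * n * g⁻¹ ∈ D := by
    intro g hga hgb n hn
    have hga' : g⁻¹ • a = a := by rw [inv_smul_eq_iff, hga]
    have hgb' : g⁻¹ • b = b := by rw [inv_smul_eq_iff, hgb]
    rw [hDmem] at hn ⊢
    refine ⟨hN.conj_mem n hn.1 g, ?_⟩
    rcases hn.2 with ⟨h1, h2⟩ | ⟨h1, h2⟩
    · left
      simp only [mul_smul, hga', hgb', h1, h2, hga, hgb]
      exact ⟨trivial, trivial⟩
    · right
      simp only [mul_smul, hga', hgb', h1, h2, hga, hgb]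
      exact ⟨trivial, trivial⟩
  obtain ⟨c₀, hc₀⟩ : ∃ c₀, c₀ ∉ ({a, b} : Finset X) := by
    by_contra hcon
    push Not at hcon
    have : (Finset.univ : Finset X) ⊆ {a, b} := fun x _ => hcon x
    have h1 := Finset.card_le_card this
    rw [Finset.card_univ, ← Nat.card_eq_fintype_card, Finset.card_pair hab] at h1
    omega
  simp only [Finset.mem_insert, Finset.mem_singleton, not_or] at hc₀
  have horb : ∀ c : X, c ≠ a → c ≠ b → Nat.card (orbit D c) = Nat.card (orbit D c₀) := by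
    intro c hca hcb
    obtain ⟨g, hga, hgb, hgc⟩ := hGab c c₀ hca hcb hc₀.1 hc₀.2
    have hgi : g⁻¹ • a = a := by rw [inv_smul_eq_iff, hga]
    have hgi' : g⁻¹ • b = b := by rw [inv_smul_eq_iff, hgb]
    refine Nat.card_congr ⟨fun x => ⟨g • (x : X), ?_⟩, fun x => ⟨g⁻¹ • (x : X), ?_⟩, ?_, ?_⟩
    · obtain ⟨⟨n, hn⟩, hnx⟩ := x.2
      refine ⟨⟨g * n * g⁻¹, hconj g hga hgb n hn⟩, ?_⟩
      show (g * n * g⁻¹) • c₀ = g • (x : X)
      have hnx' : n • c = x := hnx
      rw [← hnx', ← hgc, mul_smul, mul_smul, inv_smul_smul]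
    · obtain ⟨⟨n, hn⟩, hnx⟩ := x.2
      refine ⟨⟨g⁻¹ * n * g⁻¹⁻¹, hconj g⁻¹ hgi hgi' n hn⟩, ?_⟩
      show (g⁻¹ * n * g⁻¹⁻¹) • c = g⁻¹ • (x : X)
      have hnx' : n • c₀ = x := hnx
      rw [← hnx', ← hgc, inv_inv, mul_smul, mul_smul]
    · intro x; apply Subtype.ext; show g⁻¹ • g • (x : X) = x; rw [inv_smul_smul]
    · intro x; apply Subtype.ext; show g • g⁻¹ • (x : X) = x; rw [smul_inv_smul]
  -- D preserves the complement of {a,b}
  have hDc : ∀ n ∈ D, ∀ x : X, x ≠ a → x ≠ b → n • x ≠ a ∧ n • x ≠ b := by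
    intro n hn x hxa hxb
    rw [hDmem] at hn
    rcases hn.2 with ⟨h1, h2⟩ | ⟨h1, h2⟩
    · exact ⟨fun h => hxa ((smul_left_cancel_iff n).1 (h.trans h1.symm)),
        fun h => hxb ((smul_left_cancel_iff n).1 (h.trans h2.symm))⟩
    · exact ⟨fun h => hxb ((smul_left_cancel_iff n).1 (h.trans h2.symm)),
        fun h => hxa ((smul_left_cancel_iff n).1 (h.trans h1.symm))⟩
  have hcardc : Nat.card (({a, b} : Set X)ᶜ : Set X) = Nat.card X - 2 := by
    have h1 := Set.ncard_add_ncard_compl ({a, b} : Set X)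
    rw [Set.ncard_pair hab] at h1
    rw [Nat.card_coe_set_eq]; omega
  have hdvd : Nat.card (orbit D c₀) ∣ Nat.card X - 2 := by
    rw [← hcardc]
    apply dvd_card_of_orbits (H := D)
    · rintro ⟨n, hn⟩ x hx
      have hx' : x ≠ a ∧ x ≠ b := by simpa using hx
      have := hDc n hn x hx'.1 hx'.2
      show n • x ∈ _
      simpa using this
    · intro x hx
      have hx' : x ≠ a ∧ x ≠ b := by simpa using hx
      exact horb x hx'.1 hx'.2
  have hodd2 : Odd (Nat.card X - 2) := by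
    obtain ⟨m, hm⟩ := hodd
    exact ⟨m - 1, by omega⟩
  have hforb : ¬ 2 ∣ Nat.card (orbit D c₀) := by
    intro h
    have := h.trans hdvd
    exact (Nat.not_even_iff_odd.2 hodd2) (even_iff_two_dvd.2 this)
  -- orders
  have hND : D ⊓ stabilizer G a = N ⊓ stabilizer G a ⊓ stabilizer G b := by
    ext n
    constructor
    · rintro ⟨h1, h2⟩
      have h1' := (hDmem n).1 h1
      have h2' : n • a = a := h2
      rcases h1'.2 with ⟨h6, h7⟩ | ⟨h6, h7⟩
      · exact ⟨⟨h1'.1, h2⟩, h7⟩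
      · rw [h2'] at h6; exact absurd h6 hab
    · rintro ⟨⟨h1, h2⟩, h4⟩
      exact ⟨(hDmem n).2 ⟨h1, Or.inl ⟨h2, h4⟩⟩, h2⟩
  have hDcard : Nat.card D = 2 * Nat.card (N ⊓ stabilizer G a ⊓ stabilizer G b : Subgroup G) := by
    rw [← card_orbit_sub D a, hND]
    congr 1
    rcases card_orbit_le_two (K := D) (a := a) (b := b) (fun k hk => by
      rcases ((hDmem k).1 hk).2 with h | h
      · exact Or.inl h.1
      · exact Or.inr h.1) with h | h
    · exfalso
      obtain ⟨⟨s, hs⟩, hsa, hsb⟩ := hN2' hab hab.symm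
      have hsD : s ∈ D := (hDmem s).2 ⟨hs, Or.inr ⟨hsa, hsb⟩⟩
      rw [Nat.card_eq_one_iff_unique] at h
      haveI := h.1
      have h6 : s • a = a := congrArg Subtype.val (Subsingleton.elim (⟨s • a, ⟨⟨s, hsD⟩, rfl⟩⟩ : orbit D a) ⟨a, mem_orbit_self a⟩)
      have h7 : s • a = b := hsa
      exact hab (h6.symm.trans h7)
    · exact h
  have hNcd : ∀ c d : X, c ≠ d → Nat.card (N ⊓ stabilizer G c ⊓ stabilizer G d : Subgroup G) =
      Nat.card (N ⊓ stabilizer G a ⊓ stabilizer G b : Subgroup G) := by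
    intro c d hcd
    obtain ⟨⟨g, hg⟩, hgc, hgd⟩ := hN2' hab hcd
    have hgc : g • a = c := hgc
    have hgd : g • b = d := hgd
    subst hgc
    subst hgd
    refine Nat.card_congr ⟨fun k => ⟨g⁻¹ * k * g, ?_⟩, fun k => ⟨g * k * g⁻¹, ?_⟩, ?_, ?_⟩
    · refine ⟨⟨by simpa using hN.conj_mem k k.2.1.1 g⁻¹, ?_⟩, ?_⟩
      · exact (Cfsg.Agent.H22.mem_stabilizer_smul_iff g _ a).1 k.2.1.2
      · exact (Cfsg.Agent.H22.mem_stabilizer_smul_iff g _ b).1 k.2.2
    · refine ⟨⟨hN.conj_mem k k.2.1.1 g, ?_⟩, ?_⟩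
      · refine (Cfsg.Agent.H22.mem_stabilizer_smul_iff g _ a).2 ?_
        have : g⁻¹ * (g * (k : G) * g⁻¹) * g = k := by group
        rw [this]; exact k.2.1.2
      · refine (Cfsg.Agent.H22.mem_stabilizer_smul_iff g _ b).2 ?_
        have : g⁻¹ * (g * (k : G) * g⁻¹) * g = k := by group
        rw [this]; exact k.2.2
    · intro k; apply Subtype.ext; show g * (g⁻¹ * (k : G) * g) * g⁻¹ = k; group
    · intro k; apply Subtype.ext; show g⁻¹ * (g * (k : G) * g⁻¹) * g = k; group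
  -- D is transitive on the rest
  have hDt : ∀ c d : X, c ≠ a → c ≠ b → d ≠ a → d ≠ b → d ∈ orbit D c := by
    intro c d hca hcb hda hdb
    by_contra hcon
    obtain ⟨S⟩ : Nonempty (Sylow 2 D) := inferInstance
    haveI : Fact (Nat.Prime 2) := ⟨Nat.prime_two⟩
    have hfix : ∀ c : X, c ≠ a → c ≠ b → ∃ y, y ∈ orbit D c ∧ ∀ q ∈ S, (q : G) • y = y := by
      intro c hca hcb
      obtain ⟨⟨y, hy⟩, hyQ⟩ := S.isPGroup'.nonempty_fixed_point_of_prime_not_dvd_card (orbit D c)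
        (by rw [horb c hca hcb]; exact hforb)
      exact ⟨y, hy, fun q hq => congrArg Subtype.val (hyQ ⟨q, hq⟩)⟩
    obtain ⟨c', hc', hSc⟩ := hfix c hca hcb
    obtain ⟨d', hd', hSd⟩ := hfix d hda hdb
    have hcd' : c' ≠ d' := by
      rintro rfl
      apply hcon
      rw [← orbit_eq_iff] at hc' hd'
      rw [← hc', hd']
      exact mem_orbit_self d
    have hle : (S : Subgroup D).map D.subtype ≤ N ⊓ stabilizer G c' ⊓ stabilizer G d' := by
      rintro _ ⟨q, hq, rfl⟩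
      exact ⟨⟨((hDmem _).1 q.2).1, hSc q hq⟩, hSd q hq⟩
    have h6 := Subgroup.card_dvd_of_le hle
    rw [← Nat.card_congr (Subgroup.equivMapOfInjective (S : Subgroup D) D.subtype D.subtype_injective).toEquiv,
      hNcd c' d' hcd'] at h6
    have h7 : Nat.card (S : Subgroup D) = 2 ^ (Nat.card D).factorization 2 := S.card_eq_multiplicity
    rw [h7, hDcard, Nat.factorization_mul (by norm_num) Nat.card_pos.ne', Finsupp.add_apply,
      Nat.prime_two.factorization_self, add_comm] at h6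
    exact Nat.pow_succ_factorization_not_dvd Nat.card_pos.ne' Nat.prime_two h6
  -- orbit of D on c₀ has size n-2
  have hDo : Nat.card (orbit D c₀) = Nat.card X - 2 := by
    have : orbit D c₀ = ({a, b} : Set X)ᶜ := by
      ext x
      constructor
      · intro hx
        obtain ⟨⟨n, hn⟩, rfl⟩ := hx
        have := hDc n hn c₀ hc₀.1 hc₀.2
        show n • c₀ ∈ _
        simpa using this
      · intro hx
        have hx' : x ≠ a ∧ x ≠ b := by simpa using hx
        exact hDt c₀ x hc₀.1 hc₀.2 hx'.1 hx'.2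
    rw [this]; exact hcardc
  -- the two point stabilizer
  obtain ⟨M, hM⟩ : ∃ M, M = (N ⊓ stabilizer G a ⊓ stabilizer G b : Subgroup G) := ⟨_, rfl⟩
  rw [← hM] at hDcard hND
  have e1 := card_orbit_sub D c₀
  have e2 := card_orbit_sub M c₀
  have e3 := card_orbit_sub (D ⊓ stabilizer G c₀) a
  have e4 : D ⊓ stabilizer G c₀ ⊓ stabilizer G a = M ⊓ stabilizer G c₀ := by
    rw [← hND, inf_assoc, inf_assoc, inf_comm (stabilizer G c₀)]
  rw [e4] at e3
  rw [hDo, ← e3, hDcard, ← e2] at e1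
  have hpos : 0 < Nat.card (M ⊓ stabilizer G c₀ : Subgroup G) := Nat.card_pos
  have hMo : Nat.card (orbit M c₀) = Nat.card X - 2 := by
    rcases card_orbit_le_two (K := D ⊓ stabilizer G c₀) (a := a) (b := b) (fun k hk => by
      rcases ((hDmem k).1 hk.1).2 with h | h
      · exact Or.inl h.1
      · exact Or.inr h.1) with h | h
    · exfalso
      rw [h, one_mul, ← mul_assoc] at e1
      have h6 := Nat.eq_of_mul_eq_mul_right hpos e1
      apply Nat.not_even_iff_odd.2 hodd2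
      rw [h6]; exact even_two_mul _
    · rw [h, ← mul_assoc, ← mul_assoc] at e1
      have h6 := Nat.eq_of_mul_eq_mul_right hpos e1
      omega
  -- transitivity of M on the rest
  have hMt : ∀ c : X, c ≠ a → c ≠ b → c ∈ orbit M c₀ := by
    have h6 : orbit M c₀ = ({a, b} : Set X)ᶜ := by
      refine Set.eq_of_subset_of_ncard_le ?_ ?_ (Set.toFinite _)
      · rintro _ ⟨⟨n, hn⟩, rfl⟩
        have hnD : n ∈ D := by
          have : n ∈ D ⊓ stabilizer G a := by rw [hND]; exact hn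
          exact this.1
        have := hDc n hnD c₀ hc₀.1 hc₀.2
        show n • c₀ ∈ _
        simpa using this
      · rw [← Nat.card_coe_set_eq, ← Nat.card_coe_set_eq, hcardc, hMo]
    intro c hca hcb
    rw [h6]; simp [hca, hcb]
  refine combine_trans (m := 2) (j := 1) ({a, b} : Set X) (Set.ncard_pair hab) hN2 ?_
  rw [is_one_pretransitive_iff]
  have hbase : ∀ c : X, c ≠ a → c ≠ b → ∃ g : N, g ∈ fixingSubgroup N ({a, b} : Set X) ∧ (g : G) • c₀ = c := by
    intro c hca hcb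
    obtain ⟨⟨n, hn⟩, hnc⟩ := hMt c hca hcb
    rw [hM] at hn
    refine ⟨⟨n, hn.1.1⟩, ?_, hnc⟩
    rw [mem_fixingSubgroup_iff]
    rintro y (hy | hy)
    · rw [hy]; exact hn.1.2
    · rw [Set.mem_singleton_iff.1 hy]; exact hn.2
  refine ⟨?_⟩
  rintro ⟨x, hx⟩ ⟨y, hy⟩
  rw [SubMulAction.mem_ofFixingSubgroup_iff] at hx hy
  simp only [Set.mem_insert_iff, Set.mem_singleton_iff, not_or] at hx hy
  obtain ⟨g, hg, hgx⟩ := hbase x hx.1 hx.2
  obtain ⟨k, hk, hky⟩ := hbase y hy.1 hy.2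
  refine ⟨⟨k * g⁻¹, mul_mem hk (inv_mem hg)⟩, ?_⟩
  apply Subtype.ext
  show ((k : G) * (g : G)⁻¹) • x = y
  rw [mul_smul, ← hgx, inv_smul_smul, hky]

end Cfsg.Agent.H10
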