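import Mathlib
import Cfsg.Agent.H10.CharP
import Cfsg.Prelude.Def_Local

set_option autoImplicit false
set_option linter.all false

open Cfsg Matrix

namespace Cfsg.Agent.H10

section
variable {F : Type*} [Field F] {n : ℕ}

theorem comm_transv {g : Matrix (Fin n) (Fin n) F} {b j : Fin n} (hbj : b ≠ j)
    (h : g * Matrix.transvection b j 1 = Matrix.transvection b j 1 * g) :
    (∀ a, a ≠ b → g a b = 0) ∧ g b b = g j j ∧ (∀ c, c ≠ j → g j c = 0) := by
  rw [Matrix.transvection, mul_add, add_mul, mul_one, one_mul, add_right_inj] at h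
  refine ⟨?_, ?_, ?_⟩
  · intro a ha
    have := congrFun (congrFun h a) j
    rw [Matrix.mul_single_apply_same, Matrix.single_mul_apply_of_ne _ _ _ _ _ ha, mul_one] at this
    exact this
  · have := congrFun (congrFun h b) j
    rw [Matrix.mul_single_apply_same, Matrix.single_mul_apply_same, mul_one, one_mul] at this
    exact this
  · intro c hc
    have := congrFun (congrFun h b) c
    rw [Matrix.mul_single_apply_of_ne _ _ _ _ _ hc, Matrix.single_mul_apply_same, one_mul] at this
    exact this.symm

/-- acting trivially on `ker φ` modulo `e_i` -/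
def IsQ (i j : Fin n) (g : Matrix (Fin n) (Fin n) F) : Prop :=
  ∀ w : Fin n → F, w j = 0 → ∀ a, a ≠ i → g.mulVec w a = w a

theorem two_field [Fintype F] [DecidableEq F] (hF : Fintype.card F = 2) (x : F) : x = 0 ∨ x = 1 := by
  by_contra hno
  push Not at hno
  have h1 : ({0, 1, x} : Finset F).card = 3 :=
    Finset.card_eq_three.2 ⟨0, 1, x, zero_ne_one, Ne.symm hno.1, Ne.symm hno.2, rfl⟩
  have h2 := Finset.card_le_univ ({0, 1, x} : Finset F)
  omega

end

end Cfsg.Agent.H10
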