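import Mathlib
import Cfsg.Agent.H10.PQS
import Cfsg.Agent.H10.Transv
import Cfsg.Agent.H5.PSLSimple
import Cfsg.Prelude.Def_Local

set_option autoImplicit false
set_option linter.all false

open Cfsg Matrix

namespace Cfsg.Agent.H10

section
variable {F : Type*} [Field F]

theorem sl_qs_three {m : ℕ} (hm : 3 ≤ m) : IsQuasisimple (SpecialLinearGroup (Fin m) F) :=
  ⟨⟨H5.SL_commutator_eq_top_of_three (by rw [Fintype.card_fin]; exact hm)⟩, H5.PSL_isSimple_of_three (by rw [Fintype.card_fin]; exact hm)⟩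

theorem sl_qs_two [Finite F] (h : 4 ≤ Nat.card F) : IsQuasisimple (SpecialLinearGroup (Fin 2) F) := by
  refine ⟨?_, ProjectiveSpecialLinearGroup.rank_two_simple h⟩
  obtain ⟨x, hx⟩ : IsCyclic Fˣ := by infer_instance
  have ha : (x : F) ^ 2 ≠ 1 := by
    intro h'
    grw [Nat.card_eq_card_units_add_one F, ← orderOf_eq_card_of_forall_mem_zpowers hx,
      orderOf_le_of_pow_eq_one zero_lt_two (Units.ext <| by simpa using h')] at h
    omega
  exact ⟨SL2.commutator_eq_top (Units.ne_zero x) ha⟩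

/-- block embedding -/
def blk {m : ℕ} (A : Matrix (Fin m) (Fin m) F) : Matrix (Fin (m + 1)) (Fin (m + 1)) F :=
  (Matrix.fromBlocks A 0 0 (1 : Matrix (Fin 1) (Fin 1) F)).submatrix finSumFinEquiv.symm finSumFinEquiv.symm

theorem blk_cc {m : ℕ} (A : Matrix (Fin m) (Fin m) F) (i j : Fin m) : blk A i.castSucc j.castSucc = A i j := by
  rw [blk, Matrix.submatrix_apply, finSumFinEquiv_symm_apply_castSucc, finSumFinEquiv_symm_apply_castSucc]
  rfl

theorem blk_cl {m : ℕ} (A : Matrix (Fin m) (Fin m) F) (i : Fin m) : blk A i.castSucc (Fin.last m) = 0 := by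
  rw [blk, Matrix.submatrix_apply, finSumFinEquiv_symm_apply_castSucc, finSumFinEquiv_symm_last]
  rfl

theorem blk_lc {m : ℕ} (A : Matrix (Fin m) (Fin m) F) (i : Fin m) : blk A (Fin.last m) i.castSucc = 0 := by
  rw [blk, Matrix.submatrix_apply, finSumFinEquiv_symm_apply_castSucc, finSumFinEquiv_symm_last]
  rfl

theorem blk_ll {m : ℕ} (A : Matrix (Fin m) (Fin m) F) : blk A (Fin.last m) (Fin.last m) = 1 := by
  rw [blk, Matrix.submatrix_apply, finSumFinEquiv_symm_last]
  rfl

theorem blk_mul {m : ℕ} (A B : Matrix (Fin m) (Fin m) F) : blk (A * B) = blk A * blk B := by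
  rw [blk, blk, blk, Matrix.submatrix_mul_equiv, Matrix.fromBlocks_multiply]
  simp

theorem blk_one {m : ℕ} : blk (1 : Matrix (Fin m) (Fin m) F) = 1 := by
  rw [blk, Matrix.fromBlocks_one, Matrix.submatrix_one_equiv]

theorem blk_det {m : ℕ} (A : Matrix (Fin m) (Fin m) F) : (blk A).det = A.det := by
  rw [blk, Matrix.det_submatrix_equiv_self, Matrix.det_fromBlocks_zero₂₁, Matrix.det_one, mul_one]

theorem blk_surj {m : ℕ} {M : Matrix (Fin (m + 1)) (Fin (m + 1)) F} (h1 : ∀ i, i ≠ Fin.last m → M i (Fin.last m) = 0)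
    (h2 : ∀ i, i ≠ Fin.last m → M (Fin.last m) i = 0) (h3 : M (Fin.last m) (Fin.last m) = 1) :
    M = blk (M.submatrix Fin.castSucc Fin.castSucc) := by
  ext i j
  refine Fin.lastCases ?_ (fun i => ?_) i
  · refine Fin.lastCases ?_ (fun j => ?_) j
    · rw [blk_ll, h3]
    · rw [blk_lc, h2 _ (Fin.castSucc_lt_last j).ne]
  · refine Fin.lastCases ?_ (fun j => ?_) j
    · rw [blk_cl, h1 _ (Fin.castSucc_lt_last i).ne]
    · rw [blk_cc]; rfl

/-- the embedding `SL_m → SL_{m+1}` -/
def slBlk (m : ℕ) : SpecialLinearGroup (Fin m) F →* SpecialLinearGroup (Fin (m + 1)) F where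
  toFun A := ⟨blk (A : Matrix (Fin m) (Fin m) F), by rw [blk_det, A.2]⟩
  map_one' := Subtype.ext blk_one
  map_mul' A B := Subtype.ext (blk_mul _ _)

theorem slBlk_inj (m : ℕ) : Function.Injective (slBlk (F := F) m) := by
  intro A B h
  apply Subtype.ext
  ext i j
  have h1 := congrArg (fun x : SpecialLinearGroup (Fin (m + 1)) F => (x : Matrix (Fin (m + 1)) (Fin (m + 1)) F) i.castSucc j.castSucc) h
  have h2 : blk (A : Matrix (Fin m) (Fin m) F) i.castSucc j.castSucc = blk (B : Matrix (Fin m) (Fin m) F) i.castSucc j.castSucc := h1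
  rw [blk_cc, blk_cc] at h2
  exact h2

theorem mem_slBlk_range {m : ℕ} {g : SpecialLinearGroup (Fin (m + 1)) F} : g ∈ (slBlk (F := F) m).range ↔
    (∀ i, i ≠ Fin.last m → (g : Matrix (Fin (m + 1)) (Fin (m + 1)) F) i (Fin.last m) = 0) ∧
    (∀ i, i ≠ Fin.last m → (g : Matrix (Fin (m + 1)) (Fin (m + 1)) F) (Fin.last m) i = 0) ∧
    (g : Matrix (Fin (m + 1)) (Fin (m + 1)) F) (Fin.last m) (Fin.last m) = 1 := by
  constructor
  · rintro ⟨A, rfl⟩
    refine ⟨?_, ?_, ?_⟩
    · intro i hi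
      show blk (A : Matrix (Fin m) (Fin m) F) i (Fin.last m) = 0
      obtain ⟨i, rfl⟩ := Fin.exists_castSucc_eq.2 hi
      exact blk_cl _ _
    · intro i hi
      show blk (A : Matrix (Fin m) (Fin m) F) (Fin.last m) i = 0
      obtain ⟨i, rfl⟩ := Fin.exists_castSucc_eq.2 hi
      exact blk_lc _ _
    · exact blk_ll _
  · rintro ⟨h1, h2, h3⟩
    have h := blk_surj h1 h2 h3
    have hd : ((g : Matrix (Fin (m + 1)) (Fin (m + 1)) F).submatrix Fin.castSucc Fin.castSucc).det = 1 := by
      rw [← blk_det, ← h, g.2]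
    exact ⟨⟨_, hd⟩, Subtype.ext h.symm⟩

theorem layer_eq_of_normal_qs {H : Type*} [Group H] {K : Subgroup H} (hn : K.Normal) (hq : IsQuasisimple K)
    (hc : ∀ a ∈ Subgroup.centralizer (K : Set H), ∀ b ∈ Subgroup.centralizer (K : Set H), a * b = b * a) : layer H = K := by
  have hK : IsComponent K := ⟨hn.isSubnormal, hq⟩
  apply le_antisymm
  · apply sSup_le
    intro L hL
    by_contra hne
    have h1 := comp_commutes hL hK (fun e => hne (e.le))
    have h2 : L ≤ Subgroup.centralizer (K : Set H) := Subgroup.commutator_eq_bot_iff_le_centralizer.1 h1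
    apply comp_not_comm hL
    exact ⟨⟨fun a b => Subtype.ext (hc _ (h2 a.2) _ (h2 b.2))⟩⟩
  · exact le_layer hK

/-- commuting with a `±1` diagonal matrix -/
theorem comm_diag {m : ℕ} (h2 : (2 : F) ≠ 0) (M : Matrix (Fin (m + 1)) (Fin (m + 1)) F) :
    (M * Matrix.diagonal (fun i : Fin (m + 1) => if i = Fin.last m then (1 : F) else -1) =
      Matrix.diagonal (fun i : Fin (m + 1) => if i = Fin.last m then (1 : F) else -1) * M) ↔
    (∀ i, i ≠ Fin.last m → M i (Fin.last m) = 0) ∧ (∀ i, i ≠ Fin.last m → M (Fin.last m) i = 0) := by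
  have key : ∀ x : F, x = -x → x = 0 := by
    intro x hx
    have : (2 : F) * x = 0 := by rw [two_mul]; nth_rw 2 [hx]; ring
    exact (mul_eq_zero.1 this).resolve_left h2
  constructor
  · intro h
    refine ⟨fun i hi => ?_, fun i hi => ?_⟩
    · have := congrFun (congrFun h i) (Fin.last m)
      rw [Matrix.mul_diagonal, Matrix.diagonal_mul, if_pos rfl, if_neg hi, mul_one, neg_one_mul] at this
      exact key _ this
    · have := congrFun (congrFun h (Fin.last m)) i
      rw [Matrix.mul_diagonal, Matrix.diagonal_mul, if_pos rfl, if_neg hi, one_mul, mul_neg_one] at this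
      exact key _ this.symm
  · rintro ⟨h1, h3⟩
    ext i j
    rw [Matrix.mul_diagonal, Matrix.diagonal_mul]
    by_cases hi : i = Fin.last m
    · by_cases hj : j = Fin.last m
      · rw [if_pos hi, if_pos hj, mul_one, one_mul]
      · rw [hi, h3 j hj, zero_mul, mul_zero]
    · by_cases hj : j = Fin.last m
      · rw [hj, h1 i hi, zero_mul, mul_zero]
      · rw [if_neg hi, if_neg hj, mul_comm]

end

end Cfsg.Agent.H10
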