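import Mathlib
import Cfsg.Agent.H10.SLBlk
import Cfsg.Agent.H10.PLoc4

set_option autoImplicit false
set_option linter.all false

open Cfsg Matrix

namespace Cfsg.Agent.H10

section
variable {F : Type*} [Field F] {m : ℕ}

theorem centralizer_slBlk (hm : 2 ≤ m) {g : SpecialLinearGroup (Fin (m + 1)) F}
    (hg : g ∈ Subgroup.centralizer ((slBlk (F := F) m).range : Set (SpecialLinearGroup (Fin (m + 1)) F))) :
    (∀ i j, i ≠ j → (g : Matrix (Fin (m + 1)) (Fin (m + 1)) F) i j = 0) ∧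
    ∃ c : F, ∀ i, i ≠ Fin.last m → (g : Matrix (Fin (m + 1)) (Fin (m + 1)) F) i i = c := by
  have hne : ∀ i : Fin m, i.castSucc ≠ Fin.last m := fun i => (Fin.castSucc_lt_last i).ne
  have h1 : ∀ a b : Fin m, a ≠ b →
      (g : Matrix (Fin (m + 1)) (Fin (m + 1)) F) * Matrix.transvection a.castSucc b.castSucc 1 =
      Matrix.transvection a.castSucc b.castSucc 1 * (g : Matrix (Fin (m + 1)) (Fin (m + 1)) F) := by
    intro a b hab
    have hab' : a.castSucc ≠ b.castSucc := fun e => hab (Fin.castSucc_injective _ e)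
    have hd : (Matrix.transvection a.castSucc b.castSucc (1 : F)).det = 1 := Matrix.det_transvection_of_ne _ _ hab' 1
    have hmem : (⟨Matrix.transvection a.castSucc b.castSucc 1, hd⟩ : SpecialLinearGroup (Fin (m + 1)) F) ∈ (slBlk (F := F) m).range := by
      refine mem_slBlk_range.2 ⟨?_, ?_, ?_⟩
      · intro i hi
        show (1 + Matrix.single a.castSucc b.castSucc (1 : F)) i (Fin.last m) = 0
        rw [Matrix.add_apply, Matrix.one_apply_ne hi, Matrix.single_apply_of_ne, add_zero]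
        rintro ⟨-, h⟩
        exact hne b h
      · intro i hi
        show (1 + Matrix.single a.castSucc b.castSucc (1 : F)) (Fin.last m) i = 0
        rw [Matrix.add_apply, Matrix.one_apply_ne (Ne.symm hi), Matrix.single_apply_of_ne, add_zero]
        rintro ⟨h, -⟩
        exact hne a h
      · show (1 + Matrix.single a.castSucc b.castSucc (1 : F)) (Fin.last m) (Fin.last m) = 1
        rw [Matrix.add_apply, Matrix.one_apply_eq, Matrix.single_apply_of_ne, add_zero]
        rintro ⟨h, -⟩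
        exact hne a h
    have h2 := Subgroup.mem_centralizer_iff.1 hg _ hmem
    exact (congrArg (fun x : SpecialLinearGroup (Fin (m + 1)) F => (x : Matrix (Fin (m + 1)) (Fin (m + 1)) F)) h2).symm
  have h2 : ∀ a b : Fin m, a ≠ b → (∀ c, c ≠ a.castSucc → (g : Matrix (Fin (m + 1)) (Fin (m + 1)) F) c a.castSucc = 0) ∧
      (g : Matrix (Fin (m + 1)) (Fin (m + 1)) F) a.castSucc a.castSucc = (g : Matrix (Fin (m + 1)) (Fin (m + 1)) F) b.castSucc b.castSucc ∧
      (∀ c, c ≠ b.castSucc → (g : Matrix (Fin (m + 1)) (Fin (m + 1)) F) b.castSucc c = 0) := fun a b hab =>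
    comm_transv (fun e => hab (Fin.castSucc_injective _ e)) (h1 a b hab)
  have hex : ∀ a : Fin m, ∃ b : Fin m, a ≠ b := by
    intro a
    by_cases ha : a = ⟨0, by omega⟩
    · refine ⟨⟨1, by omega⟩, ?_⟩
      rw [ha]
      intro e
      have := congrArg Fin.val e
      simp at this
    · exact ⟨_, ha⟩
  constructor
  · intro i j hij
    by_cases hj : j = Fin.last m
    · have hi : i ≠ Fin.last m := fun e => hij (e.trans hj.symm)
      obtain ⟨a, rfl⟩ := Fin.exists_castSucc_eq.2 hi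
      obtain ⟨b, hb⟩ := hex a
      exact (h2 b a (Ne.symm hb)).2.2 j (Ne.symm hij)
    · obtain ⟨a, rfl⟩ := Fin.exists_castSucc_eq.2 hj
      obtain ⟨b, hb⟩ := hex a
      exact (h2 a b hb).1 i hij
  · refine ⟨(g : Matrix (Fin (m + 1)) (Fin (m + 1)) F) (Fin.castSucc ⟨0, by omega⟩) (Fin.castSucc ⟨0, by omega⟩), ?_⟩
    intro i hi
    obtain ⟨a, rfl⟩ := Fin.exists_castSucc_eq.2 hi
    by_cases ha : a = ⟨0, by omega⟩
    · rw [ha]
    · exact (h2 a _ ha).2.1

theorem standard_of_unique_invol {G : Type*} [Group G] [Finite G] {K : Subgroup G} {t : G} (hq : IsQuasisimple K) (ht : orderOf t = 2)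
    (htZ : t ∈ Subgroup.centralizer (K : Set G))
    (huniq : ∀ u ∈ Subgroup.centralizer (K : Set G), orderOf u = 2 → u = t)
    (hab : ∀ a ∈ Subgroup.centralizer (K : Set G), ∀ b ∈ Subgroup.centralizer (K : Set G), a * b = b * a)
    (hn : ∀ g : G, g * t * g⁻¹ = t → g ∈ Subgroup.normalizer (K : Set G)) : IsStandardSubgroup K := by
  refine ⟨hq, ⟨?_, ?_⟩, ?_, ?_⟩
  · rw [even_iff_two_dvd, ← ht, ← Subgroup.orderOf_mk t htZ]
    exact orderOf_dvd_natCard _
  · intro g hg
    by_contra hodd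
    rw [Nat.not_odd_iff_even, even_iff_two_dvd] at hodd
    haveI : Fact (Nat.Prime 2) := ⟨Nat.prime_two⟩
    obtain ⟨u, hu⟩ := exists_prime_orderOf_dvd_card' 2 hodd
    rw [← Subgroup.orderOf_coe] at hu
    have hu1 := huniq _ (Subgroup.mem_inf.1 u.2).1 hu
    obtain ⟨v, hv, hvu⟩ := Subgroup.mem_map.1 (Subgroup.mem_inf.1 u.2).2
    have hv2 : orderOf v = 2 := by
      rw [← hu, ← hvu]
      exact (MulEquiv.orderOf_eq (MulAut.conj g) v).symm
    have hv1 := huniq v hv hv2
    apply hg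
    apply normalizer_le_normalizer_centralizer
    apply hn
    have h5 : g * t * g⁻¹ = (MulAut.conj g).toMonoidHom v := by rw [hv1]; rfl
    rw [h5]
    exact hvu.trans hu1
  · intro g hg hcomm
    rw [Subgroup.commutator_comm, Subgroup.commutator_eq_bot_iff_le_centralizer] at hcomm
    apply qs_not_comm hq
    refine ⟨⟨fun a b => ?_⟩⟩
    have h1 := hab _ (hcomm (Subgroup.mem_map_of_mem _ a.2)) _ (hcomm (Subgroup.mem_map_of_mem _ b.2))
    rw [← map_mul, ← map_mul] at h1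
    exact Subtype.ext ((MulAut.conj g).injective h1)
  · apply le_antisymm (normalizer_le_normalizer_centralizer _)
    intro g hg
    apply hn
    have h1 := (Subgroup.mem_normalizer_iff.1 hg t).1 htZ
    apply huniq _ h1
    rw [← ht]
    exact MulEquiv.orderOf_eq (MulAut.conj g) t

theorem mul_ll {X Y : Matrix (Fin (m + 1)) (Fin (m + 1)) F} (hY : ∀ i, i ≠ Fin.last m → Y i (Fin.last m) = 0) :
    (X * Y) (Fin.last m) (Fin.last m) = X (Fin.last m) (Fin.last m) * Y (Fin.last m) (Fin.last m) := by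
  rw [Matrix.mul_apply, Finset.sum_eq_single (Fin.last m)]
  · intro b _ hb
    rw [hY b hb, mul_zero]
  · intro h; exact absurd (Finset.mem_univ _) h

theorem slBlk_conj {g k : SpecialLinearGroup (Fin (m + 1)) F}
    (hg : ∀ g' : SpecialLinearGroup (Fin (m + 1)) F, g' = g ∨ g' = g⁻¹ ∨ g' = k ∨ g' = g * k * g⁻¹ →
      (∀ i, i ≠ Fin.last m → (g' : Matrix (Fin (m + 1)) (Fin (m + 1)) F) i (Fin.last m) = 0) ∧
      (∀ i, i ≠ Fin.last m → (g' : Matrix (Fin (m + 1)) (Fin (m + 1)) F) (Fin.last m) i = 0))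
    (hk : k ∈ (slBlk (F := F) m).range) : g * k * g⁻¹ ∈ (slBlk (F := F) m).range := by
  rw [mem_slBlk_range]
  refine ⟨(hg _ (Or.inr (Or.inr (Or.inr rfl)))).1, (hg _ (Or.inr (Or.inr (Or.inr rfl)))).2, ?_⟩
  have h1 : ((g * k * g⁻¹ : SpecialLinearGroup (Fin (m + 1)) F) : Matrix (Fin (m + 1)) (Fin (m + 1)) F) =
      (g : Matrix (Fin (m + 1)) (Fin (m + 1)) F) * (k : Matrix (Fin (m + 1)) (Fin (m + 1)) F) * ((g⁻¹ : SpecialLinearGroup (Fin (m + 1)) F) : Matrix (Fin (m + 1)) (Fin (m + 1)) F) := rfl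
  have h2 : (g : Matrix (Fin (m + 1)) (Fin (m + 1)) F) * ((g⁻¹ : SpecialLinearGroup (Fin (m + 1)) F) : Matrix (Fin (m + 1)) (Fin (m + 1)) F) = 1 :=
    congrArg (fun x : SpecialLinearGroup (Fin (m + 1)) F => (x : Matrix (Fin (m + 1)) (Fin (m + 1)) F)) (mul_inv_cancel g)
  have h3 := congrFun (congrFun h2 (Fin.last m)) (Fin.last m)
  rw [mul_ll (hg _ (Or.inr (Or.inl rfl))).1, Matrix.one_apply_eq] at h3
  rw [h1, mul_ll (hg _ (Or.inr (Or.inl rfl))).1, mul_ll (hg _ (Or.inr (Or.inr (Or.inl rfl)))).1, (mem_slBlk_range.1 hk).2.2, mul_one, h3]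

end

end Cfsg.Agent.H10
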