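import Mathlib
import Cfsg.Agent.H10.PQS
import Cfsg.Prelude.Def_Local
import Cfsg.Agent.H10.Bender

set_option autoImplicit false
set_option linter.all false

open Cfsg
open scoped commutatorElement

namespace Cfsg.Agent.H10

theorem qs_of_simple {X : Type*} [Group X] (hs : IsSimpleGroup X) (h : ¬ IsMulCommutative X) : IsQuasisimple X := by
  haveI := hs
  apply qs_of_normal
  · rcases (inferInstance : (commutator X).Normal).eq_bot_or_eq_top with h1 | h1
    · exfalso
      apply h
      refine ⟨⟨fun a b => ?_⟩⟩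
      have : ⁅a, b⁆ ∈ commutator X := Subgroup.commutator_mem_commutator (Subgroup.mem_top a) (Subgroup.mem_top b)
      rw [h1, Subgroup.mem_bot, commutatorElement_eq_one_iff_mul_comm] at this
      exact this
    · exact h1
  · intro N hN
    rcases hN.eq_bot_or_eq_top with h1 | h1
    · right; rw [h1]; exact bot_le
    · left; exact h1

section
variable {α : Type*} [Fintype α] [DecidableEq α]

/-- pointwise stabiliser in `Alt` -/
def altFix (X : Finset α) : Subgroup (alternatingGroup α) where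
  carrier := {g | ∀ x ∈ X, (g : Equiv.Perm α) x = x}
  one_mem' := fun x hx => rfl
  mul_mem' := fun {a b} ha hb x hx => by
    show (a : Equiv.Perm α) ((b : Equiv.Perm α) x) = x
    rw [hb x hx, ha x hx]
  inv_mem' := fun {a} ha x hx => by
    show (a : Equiv.Perm α)⁻¹ x = x
    rw [Equiv.Perm.inv_eq_iff_eq, ha x hx]

theorem mem_altFix {X : Finset α} {g : alternatingGroup α} : g ∈ altFix X ↔ ∀ x ∈ X, (g : Equiv.Perm α) x = x := Iff.rfl

theorem altFix_eq_range (X : Finset α) : altFix X = (alternatingGroup.ofSubtype Xᶜ).range := by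
  ext g
  rw [alternatingGroup.mem_range_ofSubtype_iff, mem_altFix]
  constructor
  · intro h x hx
    rw [Finset.mem_compl]
    intro hxX
    exact (Equiv.Perm.mem_support.1 hx) (h x hxX)
  · intro h x hx
    by_contra hne
    have := h (Equiv.Perm.mem_support.2 hne)
    exact (Finset.mem_compl.1 this) hx

theorem exists_three {Y : Finset α} {a b c : α} (ha : a ∈ Y) (hb : b ∈ Y) (hc : c ∈ Y) (hab : a ≠ b) (hac : a ≠ c) (hbc : b ≠ c) :
    ∃ k ∈ altFix Yᶜ, (k : Equiv.Perm α) a = b ∧ (k : Equiv.Perm α) b = c ∧ ∀ x, x ≠ a → x ≠ b → x ≠ c → (k : Equiv.Perm α) x = x := by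
  refine ⟨⟨Equiv.swap a b * Equiv.swap b c, ?_⟩, ?_, ?_, ?_, ?_⟩
  · rw [Equiv.Perm.mem_alternatingGroup, Equiv.Perm.sign_mul, Equiv.Perm.sign_swap hab, Equiv.Perm.sign_swap hbc]; rfl
  · intro x hx
    rw [Finset.mem_compl] at hx
    have h1 : x ≠ a := fun e => hx (e ▸ ha)
    have h2 : x ≠ b := fun e => hx (e ▸ hb)
    have h3 : x ≠ c := fun e => hx (e ▸ hc)
    show Equiv.swap a b (Equiv.swap b c x) = x
    rw [Equiv.swap_apply_of_ne_of_ne h2 h3, Equiv.swap_apply_of_ne_of_ne h1 h2]
  · show Equiv.swap a b (Equiv.swap b c a) = b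
    rw [Equiv.swap_apply_of_ne_of_ne hab hac, Equiv.swap_apply_left]
  · show Equiv.swap a b (Equiv.swap b c b) = c
    rw [Equiv.swap_apply_left, Equiv.swap_apply_of_ne_of_ne (Ne.symm hac) (Ne.symm hbc)]
  · intro x h1 h2 h3
    show Equiv.swap a b (Equiv.swap b c x) = x
    rw [Equiv.swap_apply_of_ne_of_ne h2 h3, Equiv.swap_apply_of_ne_of_ne h1 h2]

theorem exists_two_avoid {Y : Finset α} (hY : 4 ≤ Y.card) (y z : α) : ∃ u ∈ Y, ∃ v ∈ Y, u ≠ v ∧ u ≠ y ∧ u ≠ z ∧ v ≠ y ∧ v ≠ z := by
  have h : 1 < ((Y.erase y).erase z).card := by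
    have h1 := Finset.pred_card_le_card_erase (s := Y) (a := y)
    have h2 := Finset.pred_card_le_card_erase (s := Y.erase y) (a := z)
    omega
  obtain ⟨u, hu, v, hv, huv⟩ := Finset.one_lt_card.1 h
  rw [Finset.mem_erase, Finset.mem_erase] at hu hv
  exact ⟨u, hu.2.2, v, hv.2.2, huv, hu.2.1, hu.1, hv.2.1, hv.1⟩

theorem centralizer_altFix {X : Finset α} (h : 4 ≤ Xᶜ.card) :
    Subgroup.centralizer (altFix X : Set (alternatingGroup α)) = altFix Xᶜ := by
  ext g
  rw [Subgroup.mem_centralizer_iff, mem_altFix]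
  constructor
  · intro hg y hy
    by_contra hne
    by_cases hgy : (g : Equiv.Perm α) y ∈ Xᶜ
    · obtain ⟨u, hu, v, hv, huv, huy, hugy, hvy, hvgy⟩ := exists_two_avoid h y ((g : Equiv.Perm α) y)
      obtain ⟨k, hk, k1, k2, k3⟩ := exists_three hgy hu hv (Ne.symm hugy) (Ne.symm hvgy) huv
      rw [compl_compl] at hk
      have h1 := congrArg (fun σ : alternatingGroup α => (σ : Equiv.Perm α) y) (hg k hk)
      have h2 : (k : Equiv.Perm α) ((g : Equiv.Perm α) y) = (g : Equiv.Perm α) ((k : Equiv.Perm α) y) := h1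
      rw [k1, k3 y (Ne.symm hne) (Ne.symm huy) (Ne.symm hvy)] at h2
      exact hugy h2
    · obtain ⟨u, hu, v, hv, huv, huy, -, hvy, -⟩ := exists_two_avoid h y y
      obtain ⟨k, hk, k1, k2, k3⟩ := exists_three hy hu hv (Ne.symm huy) (Ne.symm hvy) huv
      rw [compl_compl] at hk
      have h1 := congrArg (fun σ : alternatingGroup α => (σ : Equiv.Perm α) y) (hg k hk)
      have h2 : (k : Equiv.Perm α) ((g : Equiv.Perm α) y) = (g : Equiv.Perm α) ((k : Equiv.Perm α) y) := h1
      rw [k1, hk _ (by rwa [Finset.mem_compl, not_not] at hgy)] at h2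
      exact huy ((g : Equiv.Perm α).injective h2).symm
  · intro hg k hk
    apply Subtype.ext
    ext x
    show (k : Equiv.Perm α) ((g : Equiv.Perm α) x) = (g : Equiv.Perm α) ((k : Equiv.Perm α) x)
    by_cases hx : x ∈ X
    · have hgx : (g : Equiv.Perm α) x ∈ X := by
        by_contra hno
        have := hg _ (Finset.mem_compl.2 hno)
        exact hno ((((g : Equiv.Perm α).injective this)).symm ▸ hx)
      rw [hk x hx, hk _ hgx]
    · have hx' := Finset.mem_compl.2 hx
      have hkx : (k : Equiv.Perm α) x ∈ Xᶜ := by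
        rw [Finset.mem_compl]
        intro hin
        have := hk _ hin
        exact hx (((k : Equiv.Perm α).injective this) ▸ hin)
      rw [hg x hx', hg _ hkx]

theorem altFix_qs {X : Finset α} (h : 5 ≤ Xᶜ.card) : IsQuasisimple (altFix X) := by
  have hs : IsSimpleGroup (alternatingGroup ↥Xᶜ) := alternatingGroup.isSimpleGroup (by rw [Nat.card_eq_fintype_card, Fintype.card_coe]; exact h)
  have hnc : ¬ IsMulCommutative (alternatingGroup ↥Xᶜ) := by
    rw [alternatingGroup.isMulCommutative_iff_card_le_three, Nat.card_eq_fintype_card, Fintype.card_coe]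
    omega
  have h1 := qs_of_simple hs hnc
  rw [altFix_eq_range]
  exact qs_of_mulEquiv (MonoidHom.ofInjective alternatingGroup.ofSubtype_injective) h1

/-- elements preserving `X` -/
theorem altFix_conj {X : Finset α} {g : alternatingGroup α} (hg : ∀ x ∈ X, (g : Equiv.Perm α) x ∈ X) :
    g ∈ Subgroup.normalizer (altFix X : Set (alternatingGroup α)) := by
  have hg' : ∀ x ∈ X, (g : Equiv.Perm α)⁻¹ x ∈ X := by
    have h1 : X.map (g : Equiv.Perm α).toEmbedding = X := by
      apply Finset.eq_of_subset_of_card_le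
      · intro x hx
        obtain ⟨z, hz, rfl⟩ := Finset.mem_map.1 hx
        exact hg z hz
      · rw [Finset.card_map]
    intro x hx
    rw [← h1] at hx
    obtain ⟨z, hz, rfl⟩ := Finset.mem_map.1 hx
    have : (g : Equiv.Perm α)⁻¹ ((g : Equiv.Perm α) z) = z := (g : Equiv.Perm α).symm_apply_apply z
    show (g : Equiv.Perm α)⁻¹ ((g : Equiv.Perm α) z) ∈ X
    rw [this]; exact hz
  rw [Subgroup.mem_normalizer_iff]
  intro k
  constructor
  · intro hk x hx
    show (g : Equiv.Perm α) ((k : Equiv.Perm α) ((g : Equiv.Perm α)⁻¹ x)) = x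
    rw [hk _ (hg' x hx)]
    exact (g : Equiv.Perm α).apply_symm_apply x
  · intro hk x hx
    have h1 := hk _ (hg x hx)
    have h2 : (g : Equiv.Perm α) ((k : Equiv.Perm α) ((g : Equiv.Perm α)⁻¹ ((g : Equiv.Perm α) x))) = (g : Equiv.Perm α) x := h1
    have h3 : (g : Equiv.Perm α)⁻¹ ((g : Equiv.Perm α) x) = x := (g : Equiv.Perm α).symm_apply_apply x
    rw [h3] at h2
    exact (g : Equiv.Perm α).injective h2

theorem card_support_even_invol {t : Equiv.Perm α} (ht : t ∈ alternatingGroup α) (h2 : orderOf t = 2) : 4 ≤ t.support.card := by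
  obtain ⟨m, hm⟩ := Equiv.Perm.cycleType_prime_order (σ := t) (by rw [h2]; exact Nat.prime_two)
  have hsum := Equiv.Perm.sum_cycleType t
  rw [hm, h2, Multiset.sum_replicate, smul_eq_mul] at hsum
  rcases Nat.eq_zero_or_pos m with h0 | h0
  · exfalso
    rw [Equiv.Perm.mem_alternatingGroup, Equiv.Perm.sign_of_cycleType, hm, h2, h0] at ht
    revert ht
    decide
  · omega

theorem exists_dbl {X : Finset α} (hX : X.card = 4) : ∀ x ∈ X, ∃ g ∈ altFix Xᶜ, (g : Equiv.Perm α) x ≠ x ∧ orderOf g = 2 := by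
  intro x hx
  have h1 : (X.erase x).card = 3 := by rw [Finset.card_erase_of_mem hx, hX]
  obtain ⟨b, c, d, hbc, hbd, hcd, he⟩ := Finset.card_eq_three.1 h1
  have hb : b ∈ X.erase x := by rw [he]; simp
  have hc : c ∈ X.erase x := by rw [he]; simp
  have hd : d ∈ X.erase x := by rw [he]; simp
  rw [Finset.mem_erase] at hb hc hd
  have key : ∀ y, Equiv.swap x b (Equiv.swap c d (Equiv.swap x b (Equiv.swap c d y))) = y := by
    intro y
    have h5 : ∀ z, Equiv.swap c d (Equiv.swap x b z) = Equiv.swap x b (Equiv.swap c d z) := by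
      intro z
      by_cases z1 : z = x
      · subst z1
        rw [Equiv.swap_apply_left, Equiv.swap_apply_of_ne_of_ne hbc hbd, Equiv.swap_apply_of_ne_of_ne (Ne.symm hc.1) (Ne.symm hd.1), Equiv.swap_apply_left]
      · by_cases z2 : z = b
        · subst z2
          rw [Equiv.swap_apply_right, Equiv.swap_apply_of_ne_of_ne (Ne.symm hc.1) (Ne.symm hd.1), Equiv.swap_apply_of_ne_of_ne hbc hbd, Equiv.swap_apply_right]
        · rw [Equiv.swap_apply_of_ne_of_ne z1 z2]
          by_cases z3 : z = c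
          · subst z3
            rw [Equiv.swap_apply_left, Equiv.swap_apply_of_ne_of_ne hd.1 (Ne.symm hbd)]
          · by_cases z4 : z = d
            · subst z4
              rw [Equiv.swap_apply_right, Equiv.swap_apply_of_ne_of_ne hc.1 (Ne.symm hbc)]
            · rw [Equiv.swap_apply_of_ne_of_ne z3 z4, Equiv.swap_apply_of_ne_of_ne z1 z2]
    rw [h5 (Equiv.swap c d y), Equiv.swap_apply_self, Equiv.swap_apply_self]
  refine ⟨⟨Equiv.swap x b * Equiv.swap c d, ?_⟩, ?_, ?_, ?_⟩
  · rw [Equiv.Perm.mem_alternatingGroup, Equiv.Perm.sign_mul, Equiv.Perm.sign_swap (Ne.symm hb.1), Equiv.Perm.sign_swap hcd]; rfl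
  · intro y hy
    rw [Finset.mem_compl] at hy
    show Equiv.swap x b (Equiv.swap c d y) = y
    rw [Equiv.swap_apply_of_ne_of_ne (show y ≠ c from fun e => hy (e ▸ hc.2)) (show y ≠ d from fun e => hy (e ▸ hd.2)),
      Equiv.swap_apply_of_ne_of_ne (show y ≠ x from fun e => hy (e ▸ hx)) (show y ≠ b from fun e => hy (e ▸ hb.2))]
  · show Equiv.swap x b (Equiv.swap c d x) ≠ x
    rw [Equiv.swap_apply_of_ne_of_ne (Ne.symm hc.1) (Ne.symm hd.1), Equiv.swap_apply_left]
    exact hb.1
  · haveI : Fact (Nat.Prime 2) := ⟨Nat.prime_two⟩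
    apply orderOf_eq_prime
    · apply Subtype.ext
      ext y
      rw [pow_two]
      exact key y
    · intro e
      have := congrArg (fun σ : alternatingGroup α => (σ : Equiv.Perm α) x) e
      have h6 : Equiv.swap x b (Equiv.swap c d x) = x := this
      rw [Equiv.swap_apply_of_ne_of_ne (Ne.symm hc.1) (Ne.symm hd.1), Equiv.swap_apply_left] at h6
      exact hb.1 h6

theorem altFix_standard {X : Finset α} (hX : X.card = 4) (hn : 9 ≤ Fintype.card α) : IsStandardSubgroup (altFix X) := by
  have hXcc : Xᶜ.card = Fintype.card α - 4 := by rw [Finset.card_compl, hX]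
  have hC := centralizer_altFix (X := X) (by omega)
  have hnormC : ∀ g : alternatingGroup α, (∀ x ∈ X, (g : Equiv.Perm α) x ∈ X) →
      g ∈ Subgroup.normalizer (Subgroup.centralizer (altFix X : Set (alternatingGroup α)) : Set (alternatingGroup α)) := by
    intro g hg
    exact normalizer_le_normalizer_centralizer _ (altFix_conj hg)
  refine ⟨altFix_qs (by omega), ⟨?_, ?_⟩, ?_, ?_⟩
  · obtain ⟨x, hx⟩ : X.Nonempty := Finset.card_pos.1 (by omega)
    obtain ⟨g, hg, -, hg2⟩ := exists_dbl hX x hx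
    rw [hC, even_iff_two_dvd, ← hg2, ← Subgroup.orderOf_mk g hg]
    exact orderOf_dvd_natCard _
  · intro g hg
    by_contra hodd
    rw [Nat.not_odd_iff_even, even_iff_two_dvd] at hodd
    haveI : Fact (Nat.Prime 2) := ⟨Nat.prime_two⟩
    obtain ⟨t, ht⟩ := exists_prime_orderOf_dvd_card' 2 hodd
    rw [← Subgroup.orderOf_coe] at ht
    have ht1 := hC.le (Subgroup.mem_inf.1 t.2).1
    obtain ⟨u, hu, hut⟩ := Subgroup.mem_map.1 (Subgroup.mem_inf.1 t.2).2
    rw [hC] at hu
    apply hg
    apply hnormC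
    have hsupp : 4 ≤ ((t : alternatingGroup α) : Equiv.Perm α).support.card :=
      card_support_even_invol (t : alternatingGroup α).2 (by rw [Subgroup.orderOf_coe]; exact ht)
    have hsub : ((t : alternatingGroup α) : Equiv.Perm α).support ⊆ X := by
      intro x hx
      by_contra hxX
      exact (Equiv.Perm.mem_support.1 hx) (ht1 x (Finset.mem_compl.2 hxX))
    have heq : ((t : alternatingGroup α) : Equiv.Perm α).support = X := Finset.eq_of_subset_of_card_le hsub (by omega)
    -- the support of the conjugate lies in `g X`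
    have hsub2 : X ⊆ X.map (g : Equiv.Perm α).toEmbedding := by
      intro x hx
      rw [← heq, Equiv.Perm.mem_support] at hx
      by_contra hno
      apply hx
      rw [← hut]
      show (g : Equiv.Perm α) ((u : Equiv.Perm α) ((g : Equiv.Perm α)⁻¹ x)) = x
      rw [hu]
      · exact (g : Equiv.Perm α).apply_symm_apply x
      · rw [Finset.mem_compl]
        intro hin
        apply hno
        rw [Finset.mem_map]
        exact ⟨_, hin, (g : Equiv.Perm α).apply_symm_apply x⟩
    have heq2 := Finset.eq_of_subset_of_card_le hsub2 (by rw [Finset.card_map])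
    intro x hx
    rw [heq2]
    exact Finset.mem_map_of_mem _ hx
  · intro g hg hcomm
    rw [Subgroup.commutator_eq_bot_iff_le_centralizer] at hcomm
    -- `K ≤ C(K^g)`
    have h5 : ∀ x, x ∉ X → (g : Equiv.Perm α) x ∈ X := by
      intro x hx
      by_contra hgx
      obtain ⟨u, hu, v, hv, huv, hux, -, hvx, -⟩ := exists_two_avoid (Y := Xᶜ) (by omega) x x
      obtain ⟨k, hk, k1, k2, k3⟩ := exists_three (Finset.mem_compl.2 hx) hu hv (Ne.symm hux) (Ne.symm hvx) huv
      rw [compl_compl] at hk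
      have h6 : g * k * g⁻¹ ∈ Subgroup.centralizer (altFix X : Set (alternatingGroup α)) := by
        rw [Subgroup.mem_centralizer_iff]
        intro w hw
        have := Subgroup.mem_centralizer_iff.1 (hcomm hw) (g * k * g⁻¹) ⟨k, hk, rfl⟩
        exact this.symm
      rw [hC] at h6
      have h7 := h6 _ (Finset.mem_compl.2 hgx)
      have h8 : (g : Equiv.Perm α) ((k : Equiv.Perm α) ((g : Equiv.Perm α)⁻¹ ((g : Equiv.Perm α) x))) = (g : Equiv.Perm α) x := h7
      have h9 : (g : Equiv.Perm α)⁻¹ ((g : Equiv.Perm α) x) = x := (g : Equiv.Perm α).symm_apply_apply x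
      rw [h9, k1] at h8
      exact hux ((g : Equiv.Perm α).injective h8)
    have h10 : Xᶜ.map (g : Equiv.Perm α).toEmbedding ⊆ X := by
      intro y hy
      obtain ⟨x, hx, rfl⟩ := Finset.mem_map.1 hy
      exact h5 x (Finset.mem_compl.1 hx)
    have h11 := Finset.card_le_card h10
    rw [Finset.card_map, hXcc, hX] at h11
    omega
  · apply le_antisymm (normalizer_le_normalizer_centralizer _)
    intro g hg
    apply altFix_conj
    rw [hC] at hg
    intro x hx
    by_contra hno
    obtain ⟨w, hw, hwx, -⟩ := exists_dbl hX x hx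
    have h1 := (Subgroup.mem_normalizer_iff.1 hg w).1 hw
    have h2 : (g : Equiv.Perm α) ((w : Equiv.Perm α) ((g : Equiv.Perm α)⁻¹ ((g : Equiv.Perm α) x))) = (g : Equiv.Perm α) x := h1 _ (Finset.mem_compl.2 hno)
    have h9 : (g : Equiv.Perm α)⁻¹ ((g : Equiv.Perm α) x) = x := (g : Equiv.Perm α).symm_apply_apply x
    rw [h9] at h2
    exact hwx ((g : Equiv.Perm α).injective h2)

end

end Cfsg.Agent.H10
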