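import Mathlib
import Cfsg.Agent.H10.SubnIn
import Cfsg.Agent.H10.PLoc
import Cfsg.Agent.H1.Coprime

set_option autoImplicit false
set_option linter.all false
open Cfsg

/-!
# H10.TW1: the Thompson-Wielandt theorem
-/

open scoped commutatorElement Pointwise

namespace Cfsg.Agent.H10

variable {G : Type*} [Group G]

/-! ### relative cores -/

/-- the largest subgroup of `Y` normalized by (and contained in) `A` -/
def coreIn (A Y : Subgroup G) : Subgroup G := ((Y.subgroupOf A).normalCore).map A.subtype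

theorem mem_coreIn {A Y : Subgroup G} {x : G} : x ∈ coreIn A Y ↔ x ∈ A ∧ ∀ a ∈ A, a * x * a⁻¹ ∈ Y := by
  constructor
  · rintro ⟨⟨y, hy⟩, h, rfl⟩
    refine ⟨hy, fun a ha => ?_⟩
    exact h ⟨a, ha⟩
  · rintro ⟨hx, h⟩
    exact ⟨⟨x, hx⟩, fun a => h a a.2, rfl⟩

theorem coreIn_le_left {A Y : Subgroup G} : coreIn A Y ≤ A := fun _ h => (mem_coreIn.1 h).1

theorem coreIn_le {A Y : Subgroup G} : coreIn A Y ≤ Y := fun x h => by
  have := (mem_coreIn.1 h).2 1 (one_mem _)
  rwa [one_mul, inv_one, mul_one] at this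

theorem le_normalizer_of_conj_mem {A X : Subgroup G} (h : ∀ a ∈ A, ∀ x ∈ X, a * x * a⁻¹ ∈ X) :
    A ≤ Subgroup.normalizer (X : Set G) := by
  intro a ha
  rw [Subgroup.mem_normalizer_iff]
  intro x
  constructor
  · exact h a ha x
  · intro hx
    have := h a⁻¹ (inv_mem ha) _ hx
    have e : a⁻¹ * (a * x * a⁻¹) * a⁻¹⁻¹ = x := by group
    rwa [e] at this

theorem le_normalizer_coreIn {A Y : Subgroup G} : A ≤ Subgroup.normalizer (coreIn A Y : Set G) := by
  apply le_normalizer_of_conj_mem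
  intro a ha x hx
  rw [mem_coreIn] at hx ⊢
  refine ⟨mul_mem (mul_mem ha hx.1) (inv_mem ha), fun b hb => ?_⟩
  have e : b * (a * x * a⁻¹) * b⁻¹ = (b * a) * x * (b * a)⁻¹ := by group
  rw [e]
  exact hx.2 _ (mul_mem hb ha)

theorem le_coreIn {A X Y : Subgroup G} (h1 : X ≤ A) (h2 : X ≤ Y) (h3 : A ≤ Subgroup.normalizer (X : Set G)) :
    X ≤ coreIn A Y := by
  intro x hx
  rw [mem_coreIn]
  exact ⟨h1 hx, fun a ha => h2 ((Subgroup.mem_normalizer_iff.1 (h3 ha) x).1 hx)⟩

/-! ### the subgroup generated by the `p'`-elements -/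

/-- the subgroup generated by the `p'`-elements -/
def rr (p : ℕ) (D : Subgroup G) : Subgroup G := Subgroup.closure {x : G | x ∈ D ∧ Nat.Coprime (orderOf x) p}

theorem rr_le (p : ℕ) (D : Subgroup G) : rr p D ≤ D := (Subgroup.closure_le _).2 fun _ hx => hx.1

theorem mem_rr {p : ℕ} {D : Subgroup G} {x : G} (hx : x ∈ D) (h : Nat.Coprime (orderOf x) p) : x ∈ rr p D :=
  Subgroup.subset_closure ⟨hx, h⟩

theorem orderOf_conj' (g x : G) : orderOf (g * x * g⁻¹) = orderOf x := by
  have := orderOf_conj_inv g⁻¹ x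
  rwa [inv_inv] at this

theorem conj_mem_rr {p : ℕ} {D : Subgroup G} {g : G} (h : ∀ x ∈ D, Nat.Coprime (orderOf x) p → g * x * g⁻¹ ∈ D) :
    ∀ x ∈ rr p D, g * x * g⁻¹ ∈ rr p D := by
  intro x hx
  have h1 : rr p D ≤ (rr p D).comap (MulAut.conj g).toMonoidHom := by
    conv_lhs => rw [rr]
    rw [Subgroup.closure_le]
    rintro y ⟨hy, hyp⟩
    show g * y * g⁻¹ ∈ rr p D
    exact mem_rr (h y hy hyp) (by rwa [orderOf_conj'])
  exact h1 hx

theorem normalizer_le_normalizer_rr (p : ℕ) (D : Subgroup G) :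
    Subgroup.normalizer (D : Set G) ≤ Subgroup.normalizer (rr p D : Set G) := by
  apply le_normalizer_of_conj_mem
  intro g hg
  exact conj_mem_rr fun x hx _ => (Subgroup.mem_normalizer_iff.1 hg x).1 hx

theorem isPGroup_of_rr_eq_bot [Finite G] {p : ℕ} [hp : Fact p.Prime] {D : Subgroup G} (h : rr p D = ⊥) : IsPGroup p D := by
  rw [IsPGroup.iff_card]
  by_contra hno
  obtain ⟨k, n, hn, hk⟩ := Nat.exists_eq_pow_mul_and_not_dvd (Nat.card_pos (α := D)).ne' p hp.out.ne_one
  have hn1 : n ≠ 1 := by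
    rintro rfl
    exact hno ⟨k, by rw [hk, mul_one]⟩
  obtain ⟨q, hq, hqn⟩ := Nat.exists_prime_and_dvd hn1
  haveI : Fact q.Prime := ⟨hq⟩
  obtain ⟨x, hx⟩ := exists_prime_orderOf_dvd_card' (G := D) q (by rw [hk]; exact hqn.mul_left _)
  have hqp : q ≠ p := by
    rintro rfl
    exact hn hqn
  have h1 : (x : G) ∈ rr p D := mem_rr x.2 (by
    rw [Subgroup.orderOf_coe, hx]
    exact (Nat.coprime_primes hq hp.out).2 hqp)
  rw [h, Subgroup.mem_bot] at h1
  have : orderOf x = 1 := by rw [orderOf_eq_one_iff]; exact Subtype.ext h1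
  rw [hx] at this
  exact hq.one_lt.ne' this

/-- `p'`-elements lie in subnormal subgroups of `p`-power index -/
theorem mem_of_subnormal_pow_index [Finite G] {p : ℕ} [hp : Fact p.Prime] {H : Subgroup G} (hH : H.IsSubnormal)
    {k : ℕ} (hk : H.index ∣ p ^ k) {x : G} (hx : Nat.Coprime (orderOf x) p) : x ∈ H := by
  induction hH with
  | top => exact Subgroup.mem_top x
  | step A B hAB hB hN ih =>
    have hxB : x ∈ B := ih ((Subgroup.index_dvd_of_le hAB).trans hk)
    haveI := hN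
    have h1 : (A.subgroupOf B).index ∣ p ^ k := by
      have : A.relIndex B ∣ A.index := Subgroup.relIndex_dvd_index_of_le hAB
      exact this.trans hk
    have h2 : orderOf (QuotientGroup.mk (⟨x, hxB⟩ : B) : B ⧸ A.subgroupOf B) ∣ orderOf x := by
      have h3 := orderOf_map_dvd (QuotientGroup.mk' (A.subgroupOf B)) ⟨x, hxB⟩
      rwa [Subgroup.orderOf_mk] at h3
    have h3 : orderOf (QuotientGroup.mk (⟨x, hxB⟩ : B) : B ⧸ A.subgroupOf B) ∣ p ^ k := by
      have h4 := orderOf_dvd_natCard (QuotientGroup.mk (⟨x, hxB⟩ : B) : B ⧸ A.subgroupOf B)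
      exact h4.trans h1
    have h4 : orderOf (QuotientGroup.mk (⟨x, hxB⟩ : B) : B ⧸ A.subgroupOf B) = 1 :=
      Nat.eq_one_of_dvd_coprimes (hx.pow_right k) h2 h3
    rw [orderOf_eq_one_iff, QuotientGroup.eq_one_iff, Subgroup.mem_subgroupOf] at h4
    exact h4

/-- a normal `p`-subgroup of `H` normalizes `O^p(D)` for `D` subnormal in `H` -/
theorem le_normalizer_rr [Finite G] {p : ℕ} [hp : Fact p.Prime] {D H P : Subgroup G} (hD : SubnIn D H)
    (hPH : P ≤ H) (hHP : H ≤ Subgroup.normalizer (P : Set G)) (hP : IsPGroup p P) :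
    P ≤ Subgroup.normalizer (rr p D : Set G) := by
  have hW : D ⊔ P ≤ H := sup_le hD.1 hPH
  have h1 : SubnIn D (D ⊔ P) := hD.mono le_sup_left hW
  obtain ⟨k, hk⟩ := (IsPGroup.iff_card).1 hP
  have h2 : (D.subgroupOf (D ⊔ P)).index ∣ p ^ k := by
    have hDP : D ≤ Subgroup.normalizer (P : Set G) := hD.1.trans hHP
    show D.relIndex (D ⊔ P) ∣ p ^ k
    have e1 := H1.card_sup_mul_card_inf_of_le_normalizer hDP
    have e2 : D.relIndex (D ⊔ P) * Nat.card D = Nat.card (D ⊔ P : Subgroup G) := by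
      have e5 := (D.subgroupOf (D ⊔ P)).card_mul_index
      rw [card_subgroupOf, inf_eq_left.2 (le_sup_left : D ≤ D ⊔ P)] at e5
      rw [mul_comm]; exact e5
    rw [sup_comm] at e1
    rw [← e2] at e1
    have e3 : Nat.card D * (D.relIndex (D ⊔ P) * Nat.card (P ⊓ D : Subgroup G)) = Nat.card D * Nat.card P := by
      rw [mul_comm (Nat.card P)] at e1
      rw [← e1]; ring
    have e4 := Nat.eq_of_mul_eq_mul_left Nat.card_pos e3
    rw [← hk, ← e4]
    exact dvd_mul_right _ _
  apply le_normalizer_of_conj_mem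
  intro u hu
  apply conj_mem_rr
  intro x hx hxp
  have hm : u * x * u⁻¹ ∈ D ⊔ P := mul_mem (mul_mem (Subgroup.mem_sup_right hu) (Subgroup.mem_sup_left hx)) (inv_mem (Subgroup.mem_sup_right hu))
  have h3 := mem_of_subnormal_pow_index h1.2 h2 (x := ⟨_, hm⟩) (by rw [Subgroup.orderOf_mk, orderOf_conj']; exact hxp)
  exact h3

/-- the layer normalizes subnormal subgroups -/
theorem IsCompOf.le_normalizer {K D H : Subgroup G} (hK : IsCompOf K H) (hD : SubnIn D H) :
    K ≤ Subgroup.normalizer (D : Set G) := by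
  rcases hK.le_or_commutes hD with h | h
  · exact h.trans Subgroup.le_normalizer
  · rw [Subgroup.commutator_comm, Subgroup.commutator_eq_bot_iff_le_centralizer] at h
    exact h.trans (Subgroup.centralizer_le_normalizer _)

theorem cE_le_iff {H X : Subgroup G} : cE H ≤ X ↔ ∀ K, IsCompOf K H → K ≤ X := by
  constructor
  · exact fun h K hK => hK.le_cE.trans h
  · intro h
    rw [cE, Subgroup.map_le_iff_le_comap]
    apply sSup_le
    intro K hK
    rw [← Subgroup.map_le_iff_le_comap]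
    apply h
    refine ⟨Subgroup.map_subtype_le _, ?_⟩
    rwa [Subgroup.subgroupOf, Subgroup.comap_map_eq_self_of_injective H.subtype_injective]

/-! ### maximal core-free subgroups -/

/-- nontrivial subgroups normalized by `A` have normalizer `A` -/
def MP (A : Subgroup G) : Prop :=
  ∀ X : Subgroup G, X ≠ ⊥ → X ≤ A → A ≤ Subgroup.normalizer (X : Set G) → Subgroup.normalizer (X : Set G) ≤ A

theorem MP.of_isCoatom {A : Subgroup G} (h : IsCoatom A) (hc : A.normalCore = ⊥) : MP A := by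
  intro X hX hXA hA
  rcases hA.eq_or_lt with e | e
  · exact e.symm.le
  · exfalso
    have h1 := h.2 _ e
    apply hX
    rw [eq_bot_iff, ← hc]
    haveI : X.Normal := Subgroup.normalizer_eq_top_iff.1 h1
    exact Subgroup.normal_le_normalCore.2 hXA

end Cfsg.Agent.H10
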