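import Mathlib
import Cfsg.Agent.H10.TW1

set_option autoImplicit false
set_option linter.all false
open Cfsg

/-!
# H10.TW2: the Thompson-Wielandt theorem, main argument
-/

open scoped commutatorElement Pointwise

namespace Cfsg.Agent.H10

variable {G : Type*} [Group G]

/-- two maximal subgroups of the same shape -/
structure TWS (A B : Subgroup G) : Prop where
  mA : MP A
  mB : MP B
  nAB : ¬ A ≤ B
  nBA : ¬ B ≤ A
  hO : ∀ p : ℕ, Nat.card (cO p A) = Nat.card (cO p B)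
  hE : Nat.card (cE A) = Nat.card (cE B)

theorem TWS.symm {A B : Subgroup G} (h : TWS A B) : TWS B A :=
  ⟨h.mB, h.mA, h.nBA, h.nAB, fun p => (h.hO p).symm, h.hE.symm⟩

/-- first core -/
def k1 (A B : Subgroup G) : Subgroup G := coreIn A (A ⊓ B)

/-- the kernel on both neighbourhoods -/
def kD (A B : Subgroup G) : Subgroup G := k1 A B ⊓ k1 B A

/-- second core -/
def k2 (A B : Subgroup G) : Subgroup G := coreIn A (kD A B)

section
variable {A B : Subgroup G}

theorem k1_le : k1 A B ≤ A ⊓ B := coreIn_le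
theorem kD_le : kD A B ≤ A ⊓ B := inf_le_left.trans k1_le
theorem k2_le : k2 A B ≤ kD A B := coreIn_le
theorem le_normalizer_k1 : A ≤ Subgroup.normalizer (k1 A B : Set G) := le_normalizer_coreIn
theorem le_normalizer_k2 : A ≤ Subgroup.normalizer (k2 A B : Set G) := le_normalizer_coreIn

theorem le_normalizer_inf {H X Y : Subgroup G} (hX : H ≤ Subgroup.normalizer (X : Set G)) (hY : H ≤ Subgroup.normalizer (Y : Set G)) :
    H ≤ Subgroup.normalizer ((X ⊓ Y : Subgroup G) : Set G) := by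
  apply le_normalizer_of_conj_mem
  intro a ha x hx
  exact ⟨(Subgroup.mem_normalizer_iff.1 (hX ha) x).1 hx.1, (Subgroup.mem_normalizer_iff.1 (hY ha) x).1 hx.2⟩

theorem subnIn_kD_k1 : SubnIn (kD A B) (k1 B A) := by
  apply subnIn_of_normal inf_le_right
  apply le_normalizer_inf
  · exact (k1_le.trans inf_le_right).trans le_normalizer_k1
  · exact Subgroup.le_normalizer

theorem subnIn_k2_k1 : SubnIn (k2 A B) (k1 B A) :=
  (subnIn_of_normal k2_le ((kD_le.trans inf_le_left).trans le_normalizer_k2)).trans subnIn_kD_k1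

theorem subnIn_k1 : SubnIn (k1 B A) B := subnIn_of_normal (k1_le.trans inf_le_left) le_normalizer_k1

theorem subnIn_k2 : SubnIn (k2 A B) B := subnIn_k2_k1.trans subnIn_k1

theorem k1_le_map_conj {b : G} (hb : b ∈ B) : k1 B A ≤ (A ⊓ B).map (MulAut.conj b).toMonoidHom := by
  intro x hx
  have h1 := (Subgroup.mem_normalizer_iff.1 (le_normalizer_k1 (inv_mem hb)) x).1 hx
  have h2 := k1_le h1
  refine ⟨b⁻¹ * x * b⁻¹⁻¹, ⟨h2.2, h2.1⟩, ?_⟩
  show b * (b⁻¹ * x * b⁻¹⁻¹) * b⁻¹ = x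
  group

theorem map_conj_le {b : G} (hb : b ∈ B) : (A ⊓ B).map (MulAut.conj b).toMonoidHom ≤ B := by
  rintro _ ⟨x, hx, rfl⟩
  exact mul_mem (mul_mem hb hx.2) (inv_mem hb)

theorem subnIn_k2_map_conj {b : G} (hb : b ∈ B) : SubnIn (k2 A B) ((A ⊓ B).map (MulAut.conj b).toMonoidHom) :=
  subnIn_k2_k1.trans (subnIn_of_normal (k1_le_map_conj hb) ((map_conj_le hb).trans le_normalizer_k1))

variable [Finite G]

theorem TWS.nrr (h : TWS A B) {p : ℕ} (hU : rr p (k2 A B) ≠ ⊥) :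
    Subgroup.normalizer (rr p (k2 A B) : Set G) ≤ A :=
  h.mA _ hU ((rr_le _ _).trans (k2_le.trans (kD_le.trans inf_le_left)))
    (le_normalizer_k2.trans (normalizer_le_normalizer_rr _ _))

theorem TWS.nk2 (h : TWS A B) (hU : k2 A B ≠ ⊥) : Subgroup.normalizer (k2 A B : Set G) ≤ A :=
  h.mA _ hU (k2_le.trans (kD_le.trans inf_le_left)) le_normalizer_k2

theorem TWS.c1a (h : TWS A B) {p : ℕ} [Fact p.Prime] (hU : rr p (k2 A B) ≠ ⊥) : cO p B ≤ A :=
  (le_normalizer_rr subnIn_k2 (cO_le p B) (Subgroup.le_normalizer.trans (le_normalizer_cO p B)) (cO_isPGroup p B)).trans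
    (h.nrr hU)

theorem le_cO_nrm (p : ℕ) (H : Subgroup G) : H ≤ Subgroup.normalizer (cO p H : Set G) :=
  Subgroup.le_normalizer.trans (le_normalizer_cO p H)

theorem le_cE_nrm (H : Subgroup G) : H ≤ Subgroup.normalizer (cE H : Set G) :=
  Subgroup.le_normalizer.trans (le_normalizer_cE H)

theorem TWS.c1b (h : TWS A B) {p : ℕ} [Fact p.Prime] (hU : rr p (k2 A B) ≠ ⊥) : cO p (A ⊓ B) ≤ k1 B A := by
  intro x hx
  rw [k1, mem_coreIn]
  have hxB : x ∈ B := (cO_le _ _ hx).2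
  refine ⟨hxB, fun b hb => Subgroup.mem_inf.2 ⟨mul_mem (mul_mem hb hxB) (inv_mem hb), ?_⟩⟩
  have h1 : (cO p (A ⊓ B)).map (MulAut.conj b).toMonoidHom ≤ Subgroup.normalizer (rr p (k2 A B) : Set G) := by
    apply le_normalizer_rr (subnIn_k2_map_conj hb) (Subgroup.map_mono (cO_le _ _))
    · exact (Subgroup.map_mono (le_cO_nrm p (A ⊓ B))).trans (Subgroup.le_normalizer_map _)
    · exact (cO_isPGroup _ _).map _
  exact h.nrr hU (h1 ⟨x, hx, rfl⟩)

theorem TWS.c1c (h : TWS A B) {p : ℕ} [Fact p.Prime] (hU : rr p (k2 A B) ≠ ⊥) : cO p (A ⊓ B) ≤ cO p B := by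
  apply le_cO_of_subnIn _ (cO_isPGroup _ _)
  refine (subnIn_of_normal (h.c1b hU) ?_).trans subnIn_k1
  exact (k1_le.trans (inf_comm B A).le).trans (le_cO_nrm _ _)

theorem TWS.c2a (h : TWS A B) (hU : k2 A B ≠ ⊥) : cE B ≤ A := by
  rw [cE_le_iff]
  intro K hK
  exact (hK.le_normalizer subnIn_k2).trans (h.nk2 hU)

theorem TWS.c2b (h : TWS A B) (hU : k2 A B ≠ ⊥) : cE (A ⊓ B) ≤ k1 B A := by
  intro x hx
  rw [k1, mem_coreIn]
  have hxB : x ∈ B := (cE_le _ hx).2
  refine ⟨hxB, fun b hb => Subgroup.mem_inf.2 ⟨mul_mem (mul_mem hb hxB) (inv_mem hb), ?_⟩⟩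
  have h1 : cE (A ⊓ B) ≤ (Subgroup.normalizer (k2 A B : Set G)).comap (MulAut.conj b).toMonoidHom := by
    rw [cE_le_iff]
    intro K hK
    rw [← Subgroup.map_le_iff_le_comap]
    exact (hK.map_equiv (MulAut.conj b)).le_normalizer (subnIn_k2_map_conj hb)
  exact h.nk2 hU (h1 hx)

theorem TWS.c2c (h : TWS A B) (hU : k2 A B ≠ ⊥) : cE (A ⊓ B) ≤ cE B := by
  rw [cE_le_iff]
  intro K hK
  have h1 : K ≤ k1 B A := hK.le_cE.trans (h.c2b hU)
  exact ((hK.mono h1 (k1_le.trans (inf_comm B A).le)).trans subnIn_k1).le_cE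

theorem TWS.eq_bot_of_eq (h : TWS A B) {X : Subgroup G} (hX : X ≤ A) (hA : A ≤ Subgroup.normalizer (X : Set G))
    (hB : B ≤ Subgroup.normalizer (X : Set G)) : X = ⊥ := by
  by_contra hne
  exact h.nBA (hB.trans (h.mA X hne hX hA))

theorem TWS.cE_bot (h : TWS A B) (hA2 : k2 A B ≠ ⊥) (hB2 : k2 B A ≠ ⊥) :
    cE A = ⊥ ∧ cE B = ⊥ ∧ cE (A ⊓ B) = ⊥ := by
  have h1 : cE A ≤ B := h.symm.c2a hB2
  have h2 : cE A ≤ cE (A ⊓ B) := by
    rw [cE_le_iff]
    intro K hK
    have : K ≤ A ⊓ B := le_inf hK.1 (hK.le_cE.trans h1)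
    exact (hK.mono this inf_le_left).le_cE
  have h3 : cE (A ⊓ B) ≤ cE B := h.c2c hA2
  have h4 : cE A = cE B := Subgroup.eq_of_le_of_card_ge (h2.trans h3) h.hE.symm.le
  have h5 : cE A = ⊥ := h.eq_bot_of_eq (cE_le A) (le_cE_nrm A) (by rw [h4]; exact le_cE_nrm B)
  have h6 : cE B = ⊥ := by rw [← h4, h5]
  exact ⟨h5, h6, by rw [eq_bot_iff, ← h6]; exact h3⟩

/-- the normalizer argument -/
theorem TWS.nl (h : TWS A B) {p : ℕ} [hp : Fact p.Prime] (hP : cO p (A ⊓ B) ≠ ⊥)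
    (hN : Subgroup.normalizer (cO p (A ⊓ B) : Set G) ≤ A) (hle : cO p (A ⊓ B) ≤ cO p A) : False := by
  set P := cO p (A ⊓ B) with hPdef
  have hPB : P ≤ B := (cO_le _ _).trans inf_le_right
  have hPnB : P ≤ Subgroup.normalizer (cO p B : Set G) := hPB.trans (le_cO_nrm p B)
  have h1 : cO p B ≤ P := by
    by_contra hno
    set S := cO p B ⊔ P with hS
    have hSp : IsPGroup p S := IsPGroup.to_sup_of_normal_left' (cO_isPGroup p B) ((cO_isPGroup p _)) hPnB
    have hlt : P.subgroupOf S < ⊤ := by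
      rw [lt_top_iff_ne_top, Ne, Subgroup.subgroupOf_eq_top]
      exact fun e => hno (le_sup_left.trans e)
    haveI : Group.IsNilpotent S := hSp.isNilpotent
    have h2 := normalizerCondition_of_isNilpotent (G := S) _ hlt
    obtain ⟨x, hx, hxP⟩ := SetLike.exists_of_lt h2
    rw [Subgroup.mem_subgroupOf] at hxP
    have hxN : (x : G) ∈ Subgroup.normalizer (P : Set G) := by
      rw [Subgroup.mem_normalizer_iff] at hx ⊢
      intro y
      constructor
      · intro hy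
        exact (hx ⟨y, Subgroup.mem_sup_right hy⟩).1 hy
      · intro hy
        have h3 : (x : G)⁻¹ * ((x : G) * y * (x : G)⁻¹) * (x : G) = y := by group
        have hyS : y ∈ S := by
          rw [← h3]
          exact mul_mem (mul_mem (inv_mem x.2) (Subgroup.mem_sup_right hy)) x.2
        exact (hx ⟨y, hyS⟩).2 hy
    have hxA : (x : G) ∈ A := hN hxN
    have hxS : (x : G) ∈ cO p B ⊔ P := x.2
    rw [H1.mem_sup_iff_of_le_normalizer hPnB] at hxS
    obtain ⟨n, hn, y, hy, hxy⟩ := hxS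
    have hyA : y ∈ A := (cO_le _ _ hy).1
    have hnA : n ∈ A := by
      have : n = (x : G) * y⁻¹ := by rw [← hxy, mul_inv_cancel_right]
      rw [this]
      exact mul_mem hxA (inv_mem hyA)
    have hX : cO p B ⊓ A ≤ P := by
      apply le_cO_of_normal
      · exact le_inf inf_le_right (inf_le_left.trans (cO_le p B))
      · exact le_normalizer_inf (inf_le_right.trans (le_cO_nrm p B)) (inf_le_left.trans Subgroup.le_normalizer)
      · exact (cO_isPGroup p B).to_le inf_le_left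
    apply hxP
    rw [← hxy]
    exact mul_mem (hX ⟨hn, hnA⟩) hy
  have h2 : cO p B ≤ cO p A := h1.trans hle
  have h3 : cO p B = cO p A := Subgroup.eq_of_le_of_card_ge h2 (h.hO p).le
  have h4 : cO p A = ⊥ := h.eq_bot_of_eq (cO_le p A) (le_cO_nrm p A) (by rw [← h3]; exact le_cO_nrm p B)
  rw [h4, le_bot_iff] at hle
  exact hP hle

/-- if `O_p` of the two-point stabilizer is nontrivial then the second core is a `p`-group -/
theorem TWS.rr_bot (h : TWS A B) {p : ℕ} [hp : Fact p.Prime] (hP : cO p (A ⊓ B) ≠ ⊥) : rr p (k2 B A) = ⊥ := by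
  by_contra hU
  have h1 : cO p A ≤ B := h.symm.c1a hU
  have h2 : cO p (A ⊓ B) ≤ cO p A := by
    have := h.symm.c1c hU
    rwa [inf_comm] at this
  have h3 : cO p A ≤ cO p (A ⊓ B) := by
    apply le_cO_of_normal (le_inf (cO_le p A) h1) _ (cO_isPGroup p A)
    exact inf_le_left.trans (le_cO_nrm p A)
  have h4 : cO p (A ⊓ B) = cO p A := le_antisymm h2 h3
  apply h.nl hP _ h2
  rw [h4]
  exact h.mA _ (by rw [← h4]; exact hP) (cO_le p A) (le_cO_nrm p A)

theorem exists_cO_ne_bot {H : Subgroup G} (hH : H ≠ ⊥) (hE : cE H = ⊥) : ∃ p, p.Prime ∧ cO p H ≠ ⊥ := by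
  by_contra hno
  push Not at hno
  apply hH
  have h1 : cF H ≤ ⊥ := cF_le_of_cO fun q hq => (hno q hq).le
  have h2 : layer H = ⊥ := by
    rw [cE, Subgroup.map_eq_bot_iff_of_injective _ H.subtype_injective] at hE
    exact hE
  have h3 := centralizer_cGF_inf_le H
  rw [cGF_eq_cF h2] at h3
  rw [eq_bot_iff]
  refine le_trans ?_ (h3.trans h1)
  intro x hx
  refine Subgroup.mem_inf.2 ⟨?_, hx⟩
  rw [Subgroup.mem_centralizer_iff]
  intro y hy
  have : y = 1 := h1 hy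
  rw [this, one_mul, mul_one]

theorem genFitting_eq_of {H : Subgroup G} {p : ℕ} [hp : Fact p.Prime] (hE : cE H = ⊥) (hO : ∀ q : ℕ, q.Prime → q ≠ p → cO q H = ⊥) :
    generalizedFittingSubgroup ↥H = pCore p ↥H := by
  have h2 : layer H = ⊥ := by
    rw [cE, Subgroup.map_eq_bot_iff_of_injective _ H.subtype_injective] at hE
    exact hE
  rw [generalizedFittingSubgroup, h2, bot_sup_eq]
  apply le_antisymm
  · apply fitting_le_of_pCore
    intro q hq
    by_cases hqp : q = p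
    · rw [hqp]
    · have := hO q hq hqp
      rw [cO, Subgroup.map_eq_bot_iff_of_injective _ H.subtype_injective] at this
      rw [this]; exact bot_le
  · exact pCore_le_fitting p

/-- the Thompson-Wielandt theorem -/
theorem TWS.main (h : TWS A B) (hA2 : k2 A B ≠ ⊥) (hB2 : k2 B A ≠ ⊥) :
    ∃ p : ℕ, p.Prime ∧ k2 A B ≤ cO p (A ⊓ B) ∧ k2 B A ≤ cO p (A ⊓ B) ∧ IsPGroup p (cO p (A ⊓ B)) ∧
      cE A = ⊥ ∧ cE B = ⊥ ∧ (∀ q : ℕ, q.Prime → q ≠ p → cO q A = ⊥ ∧ cO q B = ⊥) := by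
  obtain ⟨hEA, hEB, hEH⟩ := h.cE_bot hA2 hB2
  have hH : A ⊓ B ≠ ⊥ := by
    intro e
    apply hA2
    rw [eq_bot_iff, ← e]
    exact k2_le.trans kD_le
  obtain ⟨p, hp, hP⟩ := exists_cO_ne_bot hH hEH
  haveI : Fact p.Prime := ⟨hp⟩
  have hBp : rr p (k2 B A) = ⊥ := h.rr_bot hP
  have hAp : rr p (k2 A B) = ⊥ := h.symm.rr_bot (by rwa [inf_comm])
  have hBP : IsPGroup p (k2 B A) := isPGroup_of_rr_eq_bot hBp
  have hAP : IsPGroup p (k2 A B) := isPGroup_of_rr_eq_bot hAp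
  have hcop : ∀ (X : Subgroup G), X ≠ ⊥ → IsPGroup p X → ∀ q : ℕ, q.Prime → q ≠ p → rr q X ≠ ⊥ := by
    intro X hX hXp q hq hqp e
    haveI : Fact q.Prime := ⟨hq⟩
    have h1 : IsPGroup q X := isPGroup_of_rr_eq_bot e
    apply hX
    have := IsPGroup.disjoint_of_ne p q hqp.symm X X hXp h1
    rwa [disjoint_self] at this
  refine ⟨p, hp, ?_, ?_, cO_isPGroup p _, hEA, hEB, ?_⟩
  · apply le_cO_of_normal (k2_le.trans kD_le) (inf_le_left.trans le_normalizer_k2) hAP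
  · apply le_cO_of_normal (k2_le.trans (kD_le.trans (inf_comm B A).le)) (inf_le_right.trans le_normalizer_k2) hBP
  · intro q hq hqp
    haveI : Fact q.Prime := ⟨hq⟩
    have hqB : rr q (k2 B A) ≠ ⊥ := hcop _ hB2 hBP q hq hqp
    have hqA : rr q (k2 A B) ≠ ⊥ := hcop _ hA2 hAP q hq hqp
    have hH0 : cO q (A ⊓ B) = ⊥ := by
      by_contra hne
      exact hqB (h.rr_bot hne)
    have h1 : cO q A = ⊥ := by
      rw [eq_bot_iff, ← hH0]
      apply le_cO_of_normal (le_inf (cO_le q A) (h.symm.c1a hqB)) _ (cO_isPGroup q A)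
      exact inf_le_left.trans (le_cO_nrm q A)
    refine ⟨h1, ?_⟩
    have h2 := h.hO q
    rw [h1, Subgroup.card_bot] at h2
    exact Subgroup.card_eq_one.1 h2.symm

end

end Cfsg.Agent.H10
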