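import Mathlib
import Cfsg.Agent.H10.TW2

set_option autoImplicit false
set_option linter.all false
open Cfsg

/-!
# H10.TW3: the Thompson-Wielandt theorem for conjugate maximal subgroups
-/

open scoped commutatorElement Pointwise

namespace Cfsg.Agent.H10

variable {G : Type*} [Group G]

theorem MP.map_conj {A : Subgroup G} (h : MP A) (g : G) : MP (A.map (MulAut.conj g).toMonoidHom) := by
  intro X hX hXA hA
  set Y : Subgroup G := X.comap (MulAut.conj g).toMonoidHom with hY
  have hYm : ∀ y, y ∈ Y ↔ g * y * g⁻¹ ∈ X := fun y => Iff.rfl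
  have h1 : Y ≠ ⊥ := by
    intro e
    apply hX
    rw [eq_bot_iff]
    intro x hx
    have h2 : g⁻¹ * x * g ∈ Y := by
      rw [hYm]
      have : g * (g⁻¹ * x * g) * g⁻¹ = x := by group
      rwa [this]
    rw [e, Subgroup.mem_bot] at h2
    have : x = g * (g⁻¹ * x * g) * g⁻¹ := by group
    rw [Subgroup.mem_bot, this, h2]; group
  have h2 : Y ≤ A := by
    intro y hy
    obtain ⟨a, ha, hay⟩ := hXA hy
    have h3 : g * a * g⁻¹ = g * y * g⁻¹ := hay
    have : a = y := by simpa using h3
    rwa [← this]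
  have h3 : A ≤ Subgroup.normalizer (Y : Set G) := by
    apply le_normalizer_of_conj_mem
    intro a ha y hy
    rw [hYm] at hy ⊢
    have h4 : (g * a * g⁻¹) ∈ Subgroup.normalizer (X : Set G) := hA ⟨a, ha, rfl⟩
    have h5 := (Subgroup.mem_normalizer_iff.1 h4 _).1 hy
    have e : g * a * g⁻¹ * (g * y * g⁻¹) * (g * a * g⁻¹)⁻¹ = g * (a * y * a⁻¹) * g⁻¹ := by group
    rwa [e] at h5
  have h4 := h Y h1 h2 h3
  intro x hx
  refine ⟨g⁻¹ * x * g, h4 ?_, ?_⟩
  · rw [Subgroup.mem_normalizer_iff]
    intro y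
    rw [hYm, hYm, Subgroup.mem_normalizer_iff.1 hx]
    have e : g * (g⁻¹ * x * g * y * (g⁻¹ * x * g)⁻¹) * g⁻¹ = x * (g * y * g⁻¹) * x⁻¹ := by group
    rw [e]
  · show g * (g⁻¹ * x * g) * g⁻¹ = x
    group

theorem card_pCore_congr {A B : Type*} [Group A] [Group B] (p : ℕ) (e : A ≃* B) : Nat.card (pCore p B) = Nat.card (pCore p A) := by
  rw [← pCore_map_equiv e, card_map_equiv]

theorem card_layer_congr {A B : Type*} [Group A] [Group B] (e : A ≃* B) : Nat.card (layer B) = Nat.card (layer A) := by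
  rw [← layer_map_equiv e, card_map_equiv]

theorem card_cO_map_conj (p : ℕ) (A : Subgroup G) (g : G) :
    Nat.card (cO p (A.map (MulAut.conj g).toMonoidHom)) = Nat.card (cO p A) := by
  rw [cO, cO, card_map_subtype, card_map_subtype]
  exact card_pCore_congr p ((MulAut.conj g).subgroupMap A)

theorem card_cE_map_conj (A : Subgroup G) (g : G) :
    Nat.card (cE (A.map (MulAut.conj g).toMonoidHom)) = Nat.card (cE A) := by
  rw [cE, cE, card_map_subtype, card_map_subtype]
  exact card_layer_congr ((MulAut.conj g).subgroupMap A)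

theorem TWS.of_conj [Finite G] {A B : Subgroup G} (hA : IsCoatom A) (hc : A.normalCore = ⊥) {g : G}
    (hB : B = A.map (MulAut.conj g).toMonoidHom) (hne : A ≠ B) : TWS A B := by
  have hcard : Nat.card B = Nat.card A := by
    rw [hB]; exact card_map_equiv _ _
  refine ⟨MP.of_isCoatom hA hc, ?_, ?_, ?_, ?_, ?_⟩
  · rw [hB]; exact (MP.of_isCoatom hA hc).map_conj g
  · intro h; exact hne (Subgroup.eq_of_le_of_card_ge h hcard.le)
  · intro h; exact hne (Subgroup.eq_of_le_of_card_ge h hcard.symm.le).symm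
  · intro p; rw [hB, card_cO_map_conj]
  · rw [hB, card_cE_map_conj]

end Cfsg.Agent.H10
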