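import Mathlib
import Cfsg.Agent.H10.LBalTwo4
import Cfsg.Agent.H23.Subnormal

set_option autoImplicit false
set_option linter.all false
set_option maxHeartbeats 400000

/-!
# H10.Tri: components of centralisers of involutions
-/

open Cfsg
open scoped commutatorElement

namespace Cfsg.Agent.H10

variable {G : Type*} [Group G]

/-- `L ≤ D ⊔ C(D)` elementwise -/
theorem exists_mul_comp {D : Subgroup G} (hD : IsComponent D) {x : G} (hx : x ∈ layer G) :
    ∃ d ∈ D, ∃ c ∈ Subgroup.centralizer (D : Set G), x = d * c := by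
  have h1 : layer G ≤ Subgroup.centralizer (D : Set G) ⊔ D := by
    apply sSup_le
    intro K hK
    by_cases h : K = D
    · rw [h]; exact le_sup_right
    · refine le_trans ?_ le_sup_left
      rw [← Subgroup.commutator_eq_bot_iff_le_centralizer]
      exact comp_commutes hK hD h
  have h2 : D ≤ Subgroup.normalizer (Subgroup.centralizer (D : Set G) : Set G) :=
    Subgroup.le_normalizer.trans (normalizer_le_normalizer_centralizer D)
  obtain ⟨c, hc, d, hd, rfl⟩ := (H23.mem_sup_iff_of_le_normalizer h2).1 (h1 hx)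
  exact ⟨d, hd, c, hc, ((Subgroup.mem_centralizer_iff.1 hc) d hd).symm⟩

theorem exists_comp_not_commute {L : Subgroup G} (hL : IsQuasisimple L) (hLE : L ≤ layer G) :
    ∃ D : Subgroup G, IsComponent D ∧ ¬ L ≤ Subgroup.centralizer (D : Set G) := by
  by_contra hcon
  push Not at hcon
  apply qs_not_comm hL
  have h1 : ⁅L, layer G⁆ = ⊥ := by
    apply commutator_sSup_eq_bot
    intro K hK
    rw [Subgroup.commutator_eq_bot_iff_le_centralizer]
    exact hcon K hK
  have h2 : L ≤ Subgroup.centralizer (L : Set G) :=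
    (Subgroup.commutator_eq_bot_iff_le_centralizer.1 h1).trans (Subgroup.centralizer_le hLE)
  refine ⟨⟨fun a b => Subtype.ext ?_⟩⟩
  exact (Subgroup.mem_centralizer_iff.1 (h2 b.2) a a.2)

/-- case A: if `t` normalises `D` then `L ≤ D` -/
theorem tri_caseA {t : G} {L D : Subgroup G}
    (hLt : L ≤ Subgroup.centralizer ({t} : Set G)) (hL : IsComponent (L.subgroupOf (Subgroup.centralizer ({t} : Set G))))
    (hLE : L ≤ layer G) (hD : IsComponent D) (hLD : ¬ L ≤ Subgroup.centralizer (D : Set G))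
    (htD : t ∈ Subgroup.normalizer (D : Set G)) : L ≤ D := by
  have hLqs : IsQuasisimple L := qs_of_mulEquiv (Subgroup.subgroupOfEquivOfLe hLt) hL.2
  rcases comp_le_or_commutes hL (H := D.subgroupOf (Subgroup.centralizer ({t} : Set G))) hD.1.subgroupOf with h | h
  · intro x hx
    exact h (show (⟨x, hLt hx⟩ : Subgroup.centralizer ({t} : Set G)) ∈ L.subgroupOf _ from hx)
  exfalso
  apply hLD
  have hLN : L ≤ Subgroup.normalizer (Subgroup.centralizer (D : Set G) : Set G) :=
    (hLE.trans (layer_le_normalizer_comp hD)).trans (normalizer_le_normalizer_centralizer D)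
  have htC : t ∈ Subgroup.normalizer (Subgroup.centralizer (D : Set G) : Set G) := normalizer_le_normalizer_centralizer D htD
  -- elements of D fixed by t commute with L
  have hfix : ∀ d ∈ D, t * d * t⁻¹ = d → ∀ x ∈ L, d * x = x * d := by
    intro d hd hdt x hx
    have hdC : d ∈ Subgroup.centralizer ({t} : Set G) := by
      rw [mem_centralizer_singleton]; rw [mul_inv_eq_iff_eq_mul] at hdt; exact hdt
    rw [Subgroup.commutator_eq_bot_iff_le_centralizer] at h
    have h1 := h (show (⟨d, hdC⟩ : Subgroup.centralizer ({t} : Set G)) ∈ D.subgroupOf _ from hd)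
    have h2 := (Subgroup.mem_centralizer_iff.1 h1) ⟨x, hLt hx⟩ hx
    exact (congrArg Subtype.val h2).symm
  -- key property of decompositions
  have hkey : ∀ d ∈ D, ∀ c ∈ Subgroup.centralizer (D : Set G), d * c ∈ L → ∃ z ∈ D, z ∈ Subgroup.centralizer (D : Set G) ∧
      t * d * t⁻¹ = d * z := by
    intro d hd c hc hdc
    have h1 : t * (d * c) * t⁻¹ = d * c := by
      have := mem_centralizer_singleton.1 (hLt hdc)
      rw [mul_inv_eq_iff_eq_mul]; exact this
    have hd' : t * d * t⁻¹ ∈ D := (Subgroup.mem_normalizer_iff.1 htD d).1 hd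
    have hc' : t * c * t⁻¹ ∈ Subgroup.centralizer (D : Set G) := (Subgroup.mem_normalizer_iff.1 htC c).1 hc
    refine ⟨d⁻¹ * (t * d * t⁻¹), D.mul_mem (D.inv_mem hd) hd', ?_, by group⟩
    have h2 : d⁻¹ * (t * d * t⁻¹) = c * (t * c * t⁻¹)⁻¹ := by
      rw [eq_mul_inv_iff_mul_eq, mul_assoc, inv_mul_eq_iff_eq_mul, ← h1]
      group
    rw [h2]
    exact Subgroup.mul_mem _ hc (Subgroup.inv_mem _ hc')
  have hcomm3 : ∀ x ∈ L, ∀ y ∈ L, ∀ w ∈ L, ⁅⁅x, y⁆, w⁆ ∈ Subgroup.centralizer (D : Set G) := by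
    intro x hx y hy w hw
    obtain ⟨d, hd, c, hc, rfl⟩ := exists_mul_comp hD (hLE hx)
    obtain ⟨e, he, f, hf, rfl⟩ := exists_mul_comp hD (hLE hy)
    obtain ⟨z, hz, hzC, hdz⟩ := hkey d hd c hc hx
    obtain ⟨z', hz', hzC', hez⟩ := hkey e he f hf hy
    have cc : ∀ a ∈ D, ∀ b ∈ Subgroup.centralizer (D : Set G), a * b = b * a := fun a ha b hb =>
      (Subgroup.mem_centralizer_iff.1 hb) a ha
    have h1 : ⁅d * c, e * f⁆ = ⁅d, e⁆ * ⁅c, f⁆ := by
      simp only [commutatorElement_def]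
      have e1 : Commute c e := (cc e he c hc).symm
      have e2 : Commute d f := cc d hd f hf
      have e3 : Commute d c := cc d hd c hc
      have e4 : Commute e f := cc e he f hf
      calc d * c * (e * f) * (d * c)⁻¹ * (e * f)⁻¹ = d * (c * e) * f * (c⁻¹ * d⁻¹) * (f⁻¹ * e⁻¹) := by group
        _ = d * e * c * f * (c⁻¹ * d⁻¹) * (f⁻¹ * e⁻¹) := by rw [e1.eq]; group
        _ = d * e * (c * f) * (d⁻¹ * c⁻¹) * (e⁻¹ * f⁻¹) := by
            rw [← (e3.inv_inv).eq, ← (e4.inv_inv).eq]; group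
        _ = d * e * (c * (f * d⁻¹)) * (c⁻¹ * e⁻¹) * f⁻¹ := by group
        _ = d * e * (c * (d⁻¹ * f)) * (e⁻¹ * c⁻¹) * f⁻¹ := by
            rw [((e2.inv_left).eq).symm, (e1.inv_inv).eq]
        _ = d * e * ((c * d⁻¹) * (f * e⁻¹)) * c⁻¹ * f⁻¹ := by group
        _ = d * e * ((d⁻¹ * c) * (e⁻¹ * f)) * c⁻¹ * f⁻¹ := by
            rw [((e3.inv_left).eq).symm, ((e4.inv_left).eq).symm]
        _ = d * e * d⁻¹ * (c * e⁻¹) * f * c⁻¹ * f⁻¹ := by group
        _ = d * e * d⁻¹ * (e⁻¹ * c) * f * c⁻¹ * f⁻¹ := by rw [(e1.inv_right).eq]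
        _ = d * e * d⁻¹ * e⁻¹ * (c * f * c⁻¹ * f⁻¹) := by group
    have hde : ⁅d, e⁆ ∈ D := by
      rw [commutatorElement_def]
      exact D.mul_mem (D.mul_mem (D.mul_mem hd he) (D.inv_mem hd)) (D.inv_mem he)
    have hcf : ⁅c, f⁆ ∈ Subgroup.centralizer (D : Set G) := by
      rw [commutatorElement_def]
      exact Subgroup.mul_mem _ (Subgroup.mul_mem _ (Subgroup.mul_mem _ hc hf) (Subgroup.inv_mem _ hc)) (Subgroup.inv_mem _ hf)
    have hfixde : t * ⁅d, e⁆ * t⁻¹ = ⁅d, e⁆ := by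
      have e5 : t * ⁅d, e⁆ * t⁻¹ = ⁅t * d * t⁻¹, t * e * t⁻¹⁆ := by
        simp only [commutatorElement_def]; group
      rw [e5, hdz, hez]
      simp only [commutatorElement_def]
      have f1 : Commute d z := cc d hd z hzC
      have f2 : Commute e z := cc e he z hzC
      have f3 : Commute e z' := cc e he z' hzC'
      have f4 : Commute d z' := cc d hd z' hzC'
      have f5 : Commute z z' := cc z hz z' hzC'
      calc d * z * (e * z') * (d * z)⁻¹ * (e * z')⁻¹ = d * (z * (e * z') * z⁻¹) * d⁻¹ * (z'⁻¹ * e⁻¹) := by group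
        _ = d * (e * z') * d⁻¹ * (z'⁻¹ * e⁻¹) := by
            rw [((f2.symm.mul_right f5).eq), mul_inv_cancel_right]
        _ = d * e * (z' * d⁻¹ * z'⁻¹) * e⁻¹ := by group
        _ = d * e * d⁻¹ * e⁻¹ := by
            rw [(f4.inv_left.symm).eq, mul_inv_cancel_right]
    have hL3 := hfix _ hde hfixde w hw
    rw [h1]
    have e6 : ⁅⁅d, e⁆ * ⁅c, f⁆, w⁆ = ⁅d, e⁆ * ⁅⁅c, f⁆, w⁆ * ⁅d, e⁆⁻¹ * ⁅⁅d, e⁆, w⁆ := by
      simp only [commutatorElement_def]; group
    have e7 : ⁅⁅d, e⁆, w⁆ = 1 := by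
      rw [commutatorElement_eq_one_iff_mul_comm]; exact hL3
    rw [e6, e7, mul_one]
    have h8 : ⁅⁅c, f⁆, w⁆ ∈ Subgroup.centralizer (D : Set G) := by
      rw [commutatorElement_def, mul_assoc, mul_assoc, ← mul_assoc w]
      exact Subgroup.mul_mem _ hcf ((Subgroup.mem_normalizer_iff.1 (hLN hw) _).1 (Subgroup.inv_mem _ hcf))
    have h9 : ⁅d, e⁆ ∈ Subgroup.normalizer (Subgroup.centralizer (D : Set G) : Set G) :=
      normalizer_le_normalizer_centralizer D (Subgroup.le_normalizer hde)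
    exact (Subgroup.mem_normalizer_iff.1 h9 _).1 h8
  -- now by perfectness
  have hperf := qs_commutator_self hLqs
  have h2 : ⁅⁅L, L⁆, L⁆ ≤ Subgroup.centralizer (D : Set G) := by
    rw [Subgroup.commutator_le]
    intro u hu w hw
    have huL : u ∈ L := by rw [hperf] at hu; exact hu
    rw [Subgroup.commutator_def] at hu
    revert w
    refine Subgroup.closure_induction (p := fun u _ => ∀ w ∈ L, ⁅u, w⁆ ∈ Subgroup.centralizer (D : Set G)) ?_ ?_ ?_ ?_ hu
    · rintro _ ⟨x, hx, y, hy, rfl⟩ w hw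
      exact hcomm3 x hx y hy w hw
    · intro w hw
      rw [commutatorElement_one_left]; exact Subgroup.one_mem _
    · intro u v hu' hv' ihu ihv w hw
      have huL' : u ∈ L := by
        have : u ∈ ⁅L, L⁆ := by rw [Subgroup.commutator_def]; exact hu'
        rw [hperf] at this; exact this
      have e1 : ⁅u * v, w⁆ = u * ⁅v, w⁆ * u⁻¹ * ⁅u, w⁆ := by
        simp only [commutatorElement_def]; group
      rw [e1]
      exact Subgroup.mul_mem _ ((Subgroup.mem_normalizer_iff.1 (hLN huL') _).1 (ihv w hw)) (ihu w hw)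
    · intro u hu' ihu w hw
      have huL' : u ∈ L := by
        have : u ∈ ⁅L, L⁆ := by rw [Subgroup.commutator_def]; exact hu'
        rw [hperf] at this; exact this
      have e1 : ⁅u⁻¹, w⁆ = u⁻¹ * ⁅u, w⁆⁻¹ * (u⁻¹)⁻¹ := by
        simp only [commutatorElement_def]; group
      rw [e1]
      exact (Subgroup.mem_normalizer_iff.1 (hLN (L.inv_mem huL')) _).1 (Subgroup.inv_mem _ (ihu w hw))
  rw [hperf, hperf] at h2
  exact h2

end Cfsg.Agent.H10
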