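import Mathlib
import Cfsg.Agent.H10.Tri

set_option autoImplicit false
set_option linter.all false
set_option maxHeartbeats 400000

/-!
# H10.Tri2: the swapped case
-/

open Cfsg
open scoped commutatorElement

namespace Cfsg.Agent.H10

variable {G : Type*} [Group G]

theorem map_conj_mem {D : Subgroup G} {t x : G} : x ∈ D.map (MulAut.conj t).toMonoidHom ↔ ∃ d ∈ D, t * d * t⁻¹ = x := Iff.rfl

/-- data: a component `D` commuting with `t D t⁻¹` -/
structure Swap (t : G) (D : Subgroup G) : Prop where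
  htt : t * t = 1
  hD : IsComponent D
  hne : D.map (MulAut.conj t).toMonoidHom ≠ D

theorem Swap.comm {t : G} {D : Subgroup G} (h : Swap t D) {d e : G} (hd : d ∈ D) (he : e ∈ D) :
    d * (t * e * t⁻¹) = (t * e * t⁻¹) * d := by
  have hD' : IsComponent (D.map (MulAut.conj t).toMonoidHom) := component_map_equiv (MulAut.conj t) h.hD
  have h1 := comp_commutes h.hD hD' h.hne.symm
  rw [Subgroup.commutator_eq_bot_iff_le_centralizer] at h1
  exact ((Subgroup.mem_centralizer_iff.1 (h1 hd)) _ ⟨e, he, rfl⟩).symm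

/-- the diagonal map -/
def Swap.diag {t : G} {D : Subgroup G} (h : Swap t D) : D →* G where
  toFun d := d * (t * d * t⁻¹)
  map_one' := by simp
  map_mul' a b := by
    show (a : G) * b * (t * (a * b) * t⁻¹) = _
    have := h.comm b.2 a.2
    calc (a : G) * b * (t * (a * b) * t⁻¹) = a * (b * (t * a * t⁻¹)) * (t * b * t⁻¹) := by group
      _ = a * ((t * a * t⁻¹) * b) * (t * b * t⁻¹) := by rw [this]
      _ = (a * (t * a * t⁻¹)) * (b * (t * b * t⁻¹)) := by group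

theorem Swap.tinv {t : G} {D : Subgroup G} (h : Swap t D) : t⁻¹ = t := inv_eq_of_mul_eq_one_left h.htt

theorem Swap.conj_conj {t : G} {D : Subgroup G} (h : Swap t D) (x : G) : t * (t * x * t⁻¹) * t⁻¹ = x := by
  rw [h.tinv]
  calc t * (t * x * t) * t = (t * t) * x * (t * t) := by group
    _ = x := by rw [h.htt, one_mul, mul_one]

theorem Swap.diag_le {t : G} {D : Subgroup G} (h : Swap t D) :
    h.diag.range ≤ (D ⊔ D.map (MulAut.conj t).toMonoidHom) ⊓ Subgroup.centralizer ({t} : Set G) := by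
  rintro _ ⟨d, rfl⟩
  refine Subgroup.mem_inf.2 ⟨?_, ?_⟩
  · exact Subgroup.mul_mem _ ((le_sup_left : D ≤ _) d.2)
      ((le_sup_right : D.map (MulAut.conj t).toMonoidHom ≤ _) ⟨d, d.2, rfl⟩)
  · rw [mem_centralizer_singleton]
    show t * (d * (t * d * t⁻¹)) = d * (t * d * t⁻¹) * t
    have h1 := h.conj_conj (d : G)
    have h2 := h.comm d.2 d.2
    have h3 : t * (d * (t * d * t⁻¹)) * t⁻¹ = d * (t * d * t⁻¹) := by
      calc t * (d * (t * d * t⁻¹)) * t⁻¹ = (t * d * t⁻¹) * (t * (t * d * t⁻¹) * t⁻¹) := by group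
        _ = (t * d * t⁻¹) * d := by rw [h1]
        _ = d * (t * d * t⁻¹) := h2.symm
    rw [mul_inv_eq_iff_eq_mul] at h3
    exact h3

theorem Swap.mem_sup {t : G} {D : Subgroup G} (h : Swap t D) {x : G} (hx : x ∈ D ⊔ D.map (MulAut.conj t).toMonoidHom) :
    ∃ d ∈ D, ∃ e ∈ D, x = d * (t * e * t⁻¹) := by
  have h1 : D.map (MulAut.conj t).toMonoidHom ≤ Subgroup.normalizer (D : Set G) := by
    refine le_trans ?_ (Subgroup.centralizer_le_normalizer (D : Set G))
    rintro _ ⟨e, he, rfl⟩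
    rw [Subgroup.mem_centralizer_iff]
    intro d hd
    exact h.comm hd he
  obtain ⟨d, hd, c, ⟨e, he, rfl⟩, rfl⟩ := (H23.mem_sup_iff_of_le_normalizer h1).1 hx
  exact ⟨d, hd, e, he, rfl⟩

/-- `C_{D D^t}(t) = Δ Z` -/
theorem Swap.inf_cent {t : G} {D : Subgroup G} (h : Swap t D) {x : G}
    (hx : x ∈ (D ⊔ D.map (MulAut.conj t).toMonoidHom) ⊓ Subgroup.centralizer ({t} : Set G)) :
    ∃ e : D, ∃ z : G, z ∈ D ∧ (∀ d ∈ D, d * z = z * d) ∧ (∀ d ∈ D, (t * d * t⁻¹) * z = z * (t * d * t⁻¹)) ∧ x = h.diag e * z := by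
  obtain ⟨hx1, hx2⟩ := Subgroup.mem_inf.1 hx
  obtain ⟨d, hd, e, he, rfl⟩ := h.mem_sup hx1
  rw [mem_centralizer_singleton, ← mul_inv_eq_iff_eq_mul] at hx2
  have h1 : t * (d * (t * e * t⁻¹)) * t⁻¹ = (t * d * t⁻¹) * e := by
    calc t * (d * (t * e * t⁻¹)) * t⁻¹ = (t * d * t⁻¹) * (t * (t * e * t⁻¹) * t⁻¹) := by group
      _ = _ := by rw [h.conj_conj]
  rw [h1, ← h.comm he hd] at hx2
  -- e * (t d t⁻¹) = d * (t e t⁻¹)
  have h2 : e⁻¹ * d = (t * d * t⁻¹) * (t * e * t⁻¹)⁻¹ := by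
    rw [inv_mul_eq_iff_eq_mul, ← mul_assoc, hx2, mul_inv_cancel_right]
  have hz1 : e⁻¹ * d ∈ D := D.mul_mem (D.inv_mem he) hd
  have h3 : (t * d * t⁻¹) * (t * e * t⁻¹)⁻¹ = t * (d * e⁻¹) * t⁻¹ := by group
  have hde : d * e⁻¹ ∈ D := D.mul_mem hd (D.inv_mem he)
  refine ⟨⟨e, he⟩, e⁻¹ * d, hz1, ?_, ?_, ?_⟩
  · intro f hf
    rw [h2, h3]
    exact h.comm hf hde
  · intro f hf
    exact (h.comm hz1 hf).symm
  · show d * (t * e * t⁻¹) = e * (t * e * t⁻¹) * (e⁻¹ * d)
    rw [mul_assoc e, ← h.comm hz1 he]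
    group

theorem Swap.diag_qs {t : G} {D : Subgroup G} (h : Swap t D) : IsQuasisimple h.diag.range := by
  refine qs_of_surjective h.diag.rangeRestrict h.diag.rangeRestrict_surjective h.hD.2 ?_
  by_contra hn
  rw [not_nontrivial_iff_subsingleton] at hn
  apply comp_not_comm h.hD
  have h1 : ∀ d : D, (d : G) * (t * d * t⁻¹) = 1 := by
    intro d
    have : (⟨h.diag d, ⟨d, rfl⟩⟩ : h.diag.range) = 1 := Subsingleton.elim _ _
    exact congrArg Subtype.val this
  refine ⟨⟨fun a b => Subtype.ext ?_⟩⟩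
  show (a : G) * b = b * a
  have h2 := h1 b
  have h3 : (b : G) = (t * b * t⁻¹)⁻¹ := eq_inv_of_mul_eq_one_left h2
  have h4 := h.comm a.2 b.2
  rw [h3]
  have h5 : Commute (a : G) (t * b * t⁻¹) := h4
  exact h5.inv_right

/-- any perfect subgroup of `C_{D D^t}(t)` lies in the diagonal -/
theorem Swap.perfect_le {t : G} {D : Subgroup G} (h : Swap t D) {L : Subgroup G}
    (hL : L ≤ (D ⊔ D.map (MulAut.conj t).toMonoidHom) ⊓ Subgroup.centralizer ({t} : Set G)) (hp : ⁅L, L⁆ = L) :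
    L ≤ h.diag.range := by
  rw [← hp, Subgroup.commutator_le]
  intro x hx y hy
  obtain ⟨e, z, hz, hz1, hz2, rfl⟩ := h.inf_cent (hL hx)
  obtain ⟨f, w, hw, hw1, hw2, rfl⟩ := h.inf_cent (hL hy)
  have c1 : ∀ g : D, Commute (h.diag g) z := by
    intro g
    show Commute ((g : G) * (t * g * t⁻¹)) z
    have a1 : Commute (g : G) z := hz1 g g.2
    have a2 : Commute (t * g * t⁻¹) z := hz2 g g.2
    exact a1.mul_left a2
  have c2 : ∀ g : D, Commute (h.diag g) w := by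
    intro g
    show Commute ((g : G) * (t * g * t⁻¹)) w
    have a1 : Commute (g : G) w := hw1 g g.2
    have a2 : Commute (t * g * t⁻¹) w := hw2 g g.2
    exact a1.mul_left a2
  have c3 : Commute z w := hw1 z hz
  refine ⟨⁅e, f⁆, ?_⟩
  rw [map_commutatorElement]
  simp only [commutatorElement_def]
  obtain ⟨a, ha⟩ : ∃ a, a = h.diag e := ⟨_, rfl⟩
  obtain ⟨b, hb⟩ : ∃ b, b = h.diag f := ⟨_, rfl⟩
  have d1 : Commute a z := ha ▸ c1 e
  have d2 : Commute b z := hb ▸ c1 f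
  have d3 : Commute a w := ha ▸ c2 e
  have d4 : Commute b w := hb ▸ c2 f
  rw [← ha, ← hb]
  symm
  calc a * z * (b * w) * (a * z)⁻¹ * (b * w)⁻¹ = a * (z * (b * w) * z⁻¹) * a⁻¹ * (w⁻¹ * b⁻¹) := by group
    _ = a * (b * w) * a⁻¹ * (w⁻¹ * b⁻¹) := by rw [(d2.symm.mul_right c3).eq, mul_inv_cancel_right]
    _ = a * b * (w * a⁻¹ * w⁻¹) * b⁻¹ := by group
    _ = a * b * a⁻¹ * b⁻¹ := by rw [(d3.inv_left.symm).eq, mul_inv_cancel_right]

theorem Swap.norm {t : G} {D : Subgroup G} (h : Swap t D) :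
    (D ⊔ D.map (MulAut.conj t).toMonoidHom) ⊓ Subgroup.centralizer ({t} : Set G) ≤
      Subgroup.normalizer (h.diag.range : Set G) := by
  rw [Subgroup.le_normalizer_iff]
  intro x hx y hy
  obtain ⟨e, z, hz, hz1, hz2, rfl⟩ := h.inf_cent hx
  obtain ⟨f, rfl⟩ := hy
  have c1 : ∀ g : D, Commute (h.diag g) z := by
    intro g
    show Commute ((g : G) * (t * g * t⁻¹)) z
    have a1 : Commute (g : G) z := hz1 g g.2
    have a2 : Commute (t * g * t⁻¹) z := hz2 g g.2
    exact a1.mul_left a2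
  refine ⟨e * f * e⁻¹, ?_⟩
  rw [map_mul, map_mul, map_inv]
  calc h.diag e * h.diag f * (h.diag e)⁻¹ = h.diag e * (h.diag f * z * z⁻¹) * (h.diag e)⁻¹ := by group
    _ = h.diag e * (z * h.diag f * z⁻¹) * (h.diag e)⁻¹ := by rw [(c1 f).eq]
    _ = h.diag e * z * h.diag f * (h.diag e * z)⁻¹ := by group

/-- the layer of `C_{D D^t}(t)` is the diagonal -/
theorem Swap.layer_eq {t : G} {D : Subgroup G} (h : Swap t D) :
    (layer ↥((D ⊔ D.map (MulAut.conj t).toMonoidHom) ⊓ Subgroup.centralizer ({t} : Set G))).map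
      ((D ⊔ D.map (MulAut.conj t).toMonoidHom) ⊓ Subgroup.centralizer ({t} : Set G)).subtype = h.diag.range := by
  obtain ⟨C, hC⟩ : ∃ C, C = (D ⊔ D.map (MulAut.conj t).toMonoidHom) ⊓ Subgroup.centralizer ({t} : Set G) := ⟨_, rfl⟩
  have hle := h.diag_le
  have hnorm := h.norm
  have hperf : ∀ L : Subgroup G, L ≤ C → ⁅L, L⁆ = L → L ≤ h.diag.range := fun L hL hp => h.perfect_le (hC ▸ hL) hp
  rw [← hC] at hle hnorm ⊢
  have hcomp : IsComponent (h.diag.range.subgroupOf C) := by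
    refine ⟨?_, qs_of_mulEquiv (Subgroup.subgroupOfEquivOfLe hle).symm h.diag_qs⟩
    exact (normal_subgroupOf_of_le hnorm).isSubnormal
  apply le_antisymm
  · rw [Subgroup.map_le_iff_le_comap]
    apply sSup_le
    intro K hK
    rw [← Subgroup.map_le_iff_le_comap]
    apply hperf
    · exact Subgroup.map_subtype_le K
    · rw [← Subgroup.map_commutator, comp_commutator_self hK]
  · have h2 := Subgroup.map_mono (f := C.subtype) (le_layer hcomp)
    rwa [Subgroup.map_subgroupOf_eq_of_le hle] at h2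

theorem tri_caseB [Finite G] {t : G} {L D : Subgroup G}
    (hLt : L ≤ Subgroup.centralizer ({t} : Set G)) (hL : IsComponent (L.subgroupOf (Subgroup.centralizer ({t} : Set G))))
    (hLE : L ≤ layer G) (hLD : ¬ L ≤ Subgroup.centralizer (D : Set G))
    (h : Swap t D) : L = h.diag.range := by
  have hLqs : IsQuasisimple L := qs_of_mulEquiv (Subgroup.subgroupOfEquivOfLe hLt) hL.2
  have hD' : IsComponent (D.map (MulAut.conj t).toMonoidHom) := component_map_equiv (MulAut.conj t) h.hD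
  have hsub : (D ⊔ D.map (MulAut.conj t).toMonoidHom).IsSubnormal := H23.isSubnormal_sup h.hD.1 hD'.1
  have hle := h.diag_le
  have hLC : L ≤ (D ⊔ D.map (MulAut.conj t).toMonoidHom) ⊓ Subgroup.centralizer ({t} : Set G) := by
    rcases comp_le_or_commutes hL (H := (D ⊔ D.map (MulAut.conj t).toMonoidHom).subgroupOf (Subgroup.centralizer ({t} : Set G)))
      hsub.subgroupOf with h1 | h1
    · intro x hx
      exact ⟨h1 (show (⟨x, hLt hx⟩ : Subgroup.centralizer ({t} : Set G)) ∈ L.subgroupOf _ from hx), hLt hx⟩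
    exfalso
    apply hLD
    have hLN : L ≤ Subgroup.normalizer (D : Set G) := hLE.trans (layer_le_normalizer_comp h.hD)
    have hLN' : L ≤ Subgroup.normalizer (D.map (MulAut.conj t).toMonoidHom : Set G) := hLE.trans (layer_le_normalizer_comp hD')
    intro x hx
    apply mem_centralizer_of_commutator h.hD.2 (hLN hx)
    intro k hk
    rw [Subgroup.commutator_eq_bot_iff_le_centralizer] at h1
    have hkC := hle ⟨⟨k, hk⟩, rfl⟩
    have h2 := h1 (show (⟨_, hkC.2⟩ : Subgroup.centralizer ({t} : Set G)) ∈ _ from hkC.1)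
    have h3 := congrArg Subtype.val ((Subgroup.mem_centralizer_iff.1 h2) ⟨x, hLt hx⟩ hx)
    have h3' : x * (k * (t * k * t⁻¹)) = (k * (t * k * t⁻¹)) * x := h3
    -- k x k⁻¹ x⁻¹ = ...
    have h4 : k * x * k⁻¹ * x⁻¹ = k * (x * k⁻¹ * x⁻¹) := by group
    have h5 : x * k⁻¹ * x⁻¹ = (x * (t * k * t⁻¹) * x⁻¹) * (t * k * t⁻¹)⁻¹ * k⁻¹ := by
      have h6 : (x * k * x⁻¹) * (x * (t * k * t⁻¹) * x⁻¹) = k * (t * k * t⁻¹) := by
        calc (x * k * x⁻¹) * (x * (t * k * t⁻¹) * x⁻¹) = (x * (k * (t * k * t⁻¹))) * x⁻¹ := by group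
          _ = _ := by rw [h3', mul_inv_cancel_right]
      have h7 : (x * k * x⁻¹)⁻¹ = (x * (t * k * t⁻¹) * x⁻¹) * (k * (t * k * t⁻¹))⁻¹ := by
        rw [← h6]; group
      calc x * k⁻¹ * x⁻¹ = (x * k * x⁻¹)⁻¹ := by group
        _ = _ := by rw [h7, mul_inv_rev]; group
    have hcc : ∀ y ∈ D.map (MulAut.conj t).toMonoidHom, y ∈ Subgroup.centralizer (D : Set G) := by
      rintro _ ⟨e, he, rfl⟩
      rw [Subgroup.mem_centralizer_iff]
      intro d hd
      exact h.comm hd he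
    have hk' : t * k * t⁻¹ ∈ D.map (MulAut.conj t).toMonoidHom := ⟨k, hk, rfl⟩
    rw [h4, h5]
    have h8 : k * ((x * (t * k * t⁻¹) * x⁻¹) * (t * k * t⁻¹)⁻¹ * k⁻¹) =
        k * ((x * (t * k * t⁻¹) * x⁻¹) * (t * k * t⁻¹)⁻¹) * k⁻¹ := by group
    rw [h8]
    have h9 : k ∈ Subgroup.normalizer (Subgroup.centralizer (D : Set G) : Set G) :=
      normalizer_le_normalizer_centralizer D (Subgroup.le_normalizer hk)
    refine (Subgroup.mem_normalizer_iff.1 h9 _).1 ?_
    exact Subgroup.mul_mem _ (hcc _ ((Subgroup.mem_normalizer_iff.1 (hLN' hx) _).1 hk')) (Subgroup.inv_mem _ (hcc _ hk'))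
  have hLd := h.perfect_le hLC (qs_commutator_self hLqs)
  -- both are components of C_{DD^t}(t)
  have hc1 : IsComponent ((L.subgroupOf (Subgroup.centralizer ({t} : Set G)))) := hL
  apply le_antisymm hLd
  -- L is subnormal in diag
  have hdt : h.diag.range ≤ Subgroup.centralizer ({t} : Set G) := hle.trans inf_le_right
  have h10 : (L.subgroupOf h.diag.range).IsSubnormal := by
    have h11 := hL.1.subgroupOf (K := h.diag.range.subgroupOf (Subgroup.centralizer ({t} : Set G)))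
    have h12 := h11.map (f := (Subgroup.subgroupOfEquivOfLe hdt).toMonoidHom) (Subgroup.subgroupOfEquivOfLe hdt).surjective
    convert h12 using 1
    ext ⟨x, hx⟩
    constructor
    · intro hxL
      exact ⟨⟨⟨x, hdt hx⟩, hx⟩, hxL, rfl⟩
    · rintro ⟨⟨⟨y, hy1⟩, hy2⟩, hy3, hy4⟩
      have : y = x := congrArg Subtype.val hy4
      subst this
      exact hy3
  rcases qs_subnormal_eq_top_or_le_center h.diag_qs h10 with h13 | h13
  · exact Subgroup.subgroupOf_eq_top.1 h13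
  · exfalso
    apply qs_not_comm hLqs
    refine ⟨⟨fun a b => Subtype.ext ?_⟩⟩
    have h14 := h13 (show (⟨a, hLd a.2⟩ : h.diag.range) ∈ L.subgroupOf _ from a.2)
    exact (congrArg Subtype.val (Subgroup.mem_center_iff.1 h14 ⟨b, hLd b.2⟩)).symm

end Cfsg.Agent.H10
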