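import Mathlib
import Cfsg.Agent.H10.Tri2

set_option autoImplicit false
set_option linter.all false
set_option maxHeartbeats 400000

/-!
# H10.Tri3: trichotomy
-/

open Cfsg
open scoped commutatorElement

namespace Cfsg.Agent.H10

variable {G : Type*} [Group G]

theorem conj_zpowers_mul {t : G} (ht : orderOf t = 2) : t * t = 1 := by
  rw [← pow_two, ← ht, pow_orderOf_eq_one]

/-- `[D, t] = D` if `t` normalises but does not centralise the component `D` -/
theorem comp_commutator_zpowers {D : Subgroup G} (hD : IsComponent D) {t : G} (ht : t ∈ Subgroup.normalizer (D : Set G))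
    (htC : t ∉ Subgroup.centralizer (D : Set G)) : D = ⁅D, Subgroup.zpowers t⁆ := by
  have hz : Subgroup.zpowers t ≤ Subgroup.normalizer (D : Set G) := by rw [Subgroup.zpowers_le]; exact ht
  have hle : ⁅D, Subgroup.zpowers t⁆ ≤ D := Subgroup.le_normalizer_iff_commutator_le_left.mp hz
  have hn : D ≤ Subgroup.normalizer ((⁅D, Subgroup.zpowers t⁆ : Subgroup G) : Set G) :=
    Subgroup.normalizer_commutator_ge_left D (Subgroup.zpowers t)
  rcases qs_normal_eq_top_or_le_center hD.2 (normal_subgroupOf_of_le hn) with h | h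
  · exact le_antisymm (Subgroup.subgroupOf_eq_top.1 h) hle
  · exfalso
    apply htC
    have h1 : ⁅⁅Subgroup.zpowers t, D⁆, D⁆ = ⊥ := by
      rw [Subgroup.commutator_comm (Subgroup.zpowers t) D, Subgroup.commutator_eq_bot_iff_le_centralizer]
      intro x hx
      rw [Subgroup.mem_centralizer_iff]
      intro y hy
      have h2 := h (show (⟨x, hle hx⟩ : D) ∈ (⁅D, Subgroup.zpowers t⁆).subgroupOf D from hx)
      exact congrArg Subtype.val (Subgroup.mem_center_iff.1 h2 ⟨y, hy⟩)
    have h3 := commutator_eq_bot_of_perfect (comp_commutator_self hD) h1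
    rw [Subgroup.commutator_eq_bot_iff_le_centralizer, Subgroup.zpowers_le] at h3
    exact h3

theorem trichotomy [Finite G] {t : G} (ht : orderOf t = 2) {L : Subgroup G}
    (hLt : L ≤ Subgroup.centralizer ({t} : Set G)) (hL : IsComponent (L.subgroupOf (Subgroup.centralizer ({t} : Set G))))
    (hLE : L ≤ layer G) : ∃ D : Subgroup G, IsComponent D ∧ ¬ L ≤ Subgroup.centralizer (D : Set G) ∧
      (L = D ∨ (L < D ∧ t ∈ Subgroup.normalizer (D : Set G) ∧ D = ⁅D, Subgroup.zpowers t⁆) ∨
        ∃ h : Swap t D, L = h.diag.range) := by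
  have hLqs : IsQuasisimple L := qs_of_mulEquiv (Subgroup.subgroupOfEquivOfLe hLt) hL.2
  obtain ⟨D, hD, hLD⟩ := exists_comp_not_commute hLqs hLE
  refine ⟨D, hD, hLD, ?_⟩
  by_cases htD : t ∈ Subgroup.normalizer (D : Set G)
  · have hle := tri_caseA hLt hL hLE hD hLD htD
    by_cases htC : t ∈ Subgroup.centralizer (D : Set G)
    · left
      have hDt : D ≤ Subgroup.centralizer ({t} : Set G) := by
        intro d hd
        rw [mem_centralizer_singleton]
        exact ((Subgroup.mem_centralizer_iff.1 htC) d hd).symm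
      have h1 := comp_eq_of_le hL (component_subgroupOf hD hDt) (fun x hx => hle hx)
      exact eq_of_subgroupOf_eq hLt hDt h1
    · right; left
      refine ⟨lt_of_le_of_ne hle ?_, htD, comp_commutator_zpowers hD htD htC⟩
      rintro rfl
      apply htC
      rw [Subgroup.mem_centralizer_iff]
      intro d hd
      exact (mem_centralizer_singleton.1 (hLt hd)).symm
  · right; right
    have h : Swap t D := ⟨conj_zpowers_mul ht, hD, fun h => htD (map_conj_eq_iff_mem_normalizer.1 h)⟩
    exact ⟨h, tri_caseB hLt hL hLE hLD h⟩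

end Cfsg.Agent.H10
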