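import Mathlib
import Cfsg.Agent.H10.Tri3
import Cfsg.Agent.FT

set_option autoImplicit false
set_option linter.all false
set_option maxHeartbeats 400000

/-!
# H10.Tri4: quasisimple groups have even order; components of centralisers of involutions lie in the 2-layer
-/

open Cfsg
open scoped commutatorElement

namespace Cfsg.Agent.H10

theorem qs_even {X : Type*} [Group X] [Finite X] (h : IsQuasisimple X) : 2 ∣ Nat.card X := by
  by_contra hd
  apply qs_not_solvable h
  apply FT.odd_order
  rw [← Nat.not_even_iff_odd, even_iff_two_dvd]; exact hd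

theorem qs_opp_two {X : Type*} [Group X] [Finite X] (h : IsQuasisimple X) : opp 2 (⊤ : Subgroup X) = ⊤ := by
  haveI : Fact (Nat.Prime 2) := ⟨Nat.prime_two⟩
  have hn : (opp 2 (⊤ : Subgroup X)).Normal := by
    rw [← Subgroup.normalizer_eq_top_iff, eq_top_iff]
    refine le_trans ?_ (normalizer_le_normalizer_opp 2 (⊤ : Subgroup X))
    rw [Subgroup.normalizer_eq_top]
  rcases qs_normal_eq_top_or_le_center h hn with h0 | h0
  · exact h0
  · exfalso
    have h1 : ¬ 2 ∣ (Subgroup.center X).index := by
      intro hd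
      have : (Subgroup.center X).index = Nat.card (X ⧸ Subgroup.center X) := rfl
      rw [this] at hd
      obtain ⟨y, hy⟩ := exists_prime_orderOf_dvd_card' 2 hd
      have hpy : IsPElt 2 y := ⟨1, by rw [pow_one, ← hy]; exact pow_orderOf_eq_one y⟩
      obtain ⟨x, -, hpx, hxy⟩ := exists_isPElt_lift (QuotientGroup.mk' (Subgroup.center X)) 2
        (K := ⊤) (y := y) (by
          rw [Subgroup.map_top_of_surjective _ (QuotientGroup.mk'_surjective _)]; trivial) hpy
      have hx2 : x ∈ Subgroup.center X := h0 (mem_opp trivial hpx)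
      rw [← hxy, QuotientGroup.mk'_apply, (QuotientGroup.eq_one_iff x).mpr hx2, orderOf_one] at hy
      omega
    exact not_dvd_card_of_perfect h.1.commutator_eq_top h1 (qs_even h)

theorem qs_pqs_two {X : Type*} [Group X] [Finite X] (h : IsQuasisimple X) : IsPQS 2 X := by
  haveI : Fact (Nat.Prime 2) := ⟨Nat.prime_two⟩
  refine ⟨h.1, qs_opp_two h, qs_of_surjective (QuotientGroup.mk' _) (QuotientGroup.mk'_surjective _) h ?_⟩
  rw [QuotientGroup.nontrivial_iff]
  intro h1
  have h2 := pPrimeCore_coprime 2 X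
  rw [h1, Subgroup.card_top] at h2
  have h3 := Nat.Coprime.eq_one_of_dvd h2.symm (qs_even h)
  omega

theorem comp_inv_le_pLayer {G : Type*} [Group G] [Finite G] {t : G} (ht : orderOf t = 2) {L : Subgroup G}
    (hLt : L ≤ Subgroup.centralizer ({t} : Set G)) (hL : IsComponent (L.subgroupOf (Subgroup.centralizer ({t} : Set G)))) :
    L ≤ pLayer 2 G := by
  haveI : Fact (Nat.Prime 2) := ⟨Nat.prime_two⟩
  have hLqs : IsQuasisimple L := qs_of_mulEquiv (Subgroup.subgroupOfEquivOfLe hLt) hL.2
  have hP : IsPGroup 2 (Subgroup.zpowers t) := isPGroup_zpowers (isPElt_of_order_two ht)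
  have h1 : SubnIn L (Subgroup.centralizer ((Subgroup.zpowers t : Subgroup G) : Set G)) := by
    rw [centralizer_zpowers_eq]
    exact ⟨hLt, hL.1⟩
  exact lbal_two hP (h1.trans (centralizer_subnIn_normalizer _)) (qs_pqs_two hLqs)

/-- a 2-layer without core -/
theorem pLayer_eq_layer_of_core {G : Type*} [Group G] [Finite G] {p : ℕ} [hp : Fact p.Prime] (hO : pPrimeCore p G = ⊥) :
    pLayer p G ≤ layer G := by
  apply sSup_le
  intro K hK
  rw [Set.mem_setOf_eq, isPComponent_iff_pqs] at hK
  apply le_layer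
  refine ⟨hK.1, ?_⟩
  have h2 := pPrimeCore_map_subtype p hK.1
  rw [hO, bot_inf_eq, Subgroup.map_eq_bot_iff_of_injective _ (Subgroup.subtype_injective _)] at h2
  have h3 := hK.2.2.2
  haveI : Subsingleton (pPrimeCore p K) := by rw [h2]; infer_instance
  have e : K ⧸ pPrimeCore p K ≃* K :=
    (QuotientGroup.quotientMulEquivOfEq h2).trans QuotientGroup.quotientBot
  exact qs_of_mulEquiv e h3

end Cfsg.Agent.H10
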